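import Groth.Agent.H26Theta.Cart
import Groth.Agent.H17.ExtRegVanish.Regular
import Groth.Agent.H25Dual.Basic
import Groth.Agent.H11Ample.Basic

/-!
# Scalars of the theta group
-/

set_option autoImplicit false
set_option linter.style.haveILetI false
set_option linter.unusedSectionVars false
set_option backward.isDefEq.respectTransparency false
set_option backward.isDefEq.respectTransparency.types false
universe u

open CategoryTheory CategoryTheory.Limits MonoidalCategory CartesianMonoidalCategory MonObj AlgebraicGeometry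
open Opposite TopologicalSpace Pseudofunctor Bicategory Groth.Agent
open Groth.Agent.H17.ExtRegVanish (mulEnd res mulEnd_natural mulEnd_app)
open Groth.Agent.H25Theta (pb pC pI pT pO tI)

noncomputable section

namespace Groth.Agent.H26Theta

variable {X Y : Scheme.{u}}

theorem appTop_res (f : X ⟶ Y) (a : Γ(Y, ⊤)) (U : Y.Opens) :
    f.app U (res U a) = res (f ⁻¹ᵁ U) (f.appTop a) :=
  congr($(f.naturality (homOfLE (le_top : U ≤ ⊤)).op) a)

theorem pushforward_map_mulEnd (f : X ⟶ Y) (N : X.Modules) (a : Γ(Y, ⊤)) :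
    (Scheme.Modules.pushforward f).map (mulEnd (f.appTop a) N) =
      mulEnd a ((Scheme.Modules.pushforward f).obj N) := by
  refine Scheme.Modules.hom_ext _ _ fun U => ?_
  ext m
  revert m
  change ∀ m : Γ(N, f ⁻¹ᵁ U), res (f ⁻¹ᵁ U) (f.appTop a) • m = f.app U (res U a) • m
  intro m
  rw [appTop_res]

/-- Pullback of a multiplication. -/
theorem pullback_map_mulEnd (f : X ⟶ Y) (M : Y.Modules) (a : Γ(Y, ⊤)) :
    (Scheme.Modules.pullback f).map (mulEnd a M) = mulEnd (f.appTop a) ((Scheme.Modules.pullback f).obj M) := by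
  apply ((Scheme.Modules.pullbackPushforwardAdjunction f).homEquiv _ _).injective
  rw [Adjunction.homEquiv_unit, Adjunction.homEquiv_unit, pushforward_map_mulEnd]
  exact (((Scheme.Modules.pullbackPushforwardAdjunction f).unit.naturality (mulEnd a M)).symm).trans
    (mulEnd_natural a ((Scheme.Modules.pullbackPushforwardAdjunction f).unit.app M)).symm

theorem res_res {U V : X.Opens} (h : V ≤ U) (a : Γ(X, ⊤)) :
    X.presheaf.map (homOfLE h).op (res U a) = res V a :=
  (ConcreteCategory.congr_hom (X.presheaf.map_comp (homOfLE le_top).op (homOfLE h).op) a).symm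

theorem mulEnd_one (M : X.Modules) : mulEnd (1 : Γ(X, ⊤)) M = 𝟙 M := by
  refine Scheme.Modules.hom_ext _ _ fun U => ?_
  ext m
  show res U (1 : Γ(X, ⊤)) • m = m
  rw [show res U (1 : Γ(X, ⊤)) = 1 from map_one _, one_smul]

/-- Multiplication is faithful on an invertible module. -/
theorem mulEnd_injective {L : X.Modules} (hL : PicF.IsInvertible L) {a b : Γ(X, ⊤)}
    (h : mulEnd a L = mulEnd b L) : a = b := by
  choose V e hV he using H11Ample.exists_gen hL
  refine TopCat.Sheaf.eq_of_locally_eq' X.sheaf V ⊤ (fun x => homOfLE le_top)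
    (fun x _ => Opens.mem_iSup.2 ⟨x, hV x⟩) _ _ fun x => ?_
  have h2 := congr($(congrArg (fun φ => Scheme.Modules.Hom.app φ (V x)) h) (e x))
  simp only [mulEnd_app] at h2
  refine ((he x).bijective le_rfl).1 ?_
  beta_reduce
  rw [H10Coh.mres_self]
  exact h2

/-- Every endomorphism of an invertible module is a multiplication. -/
theorem exists_mulEnd_eq {L : X.Modules} (hL : PicF.IsInvertible L) (φ : L ⟶ L) :
    ∃ a : Γ(X, ⊤), φ = mulEnd a L := by
  choose V e hV he using H11Ample.exists_gen hL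
  choose c hc using fun x => H11Ample.exists_coeff (he x) (φ.app (V x) (e x))
  have hres : ∀ x (W : X.Opens) (hW : W ≤ V x) (d : Γ(X, W)),
      φ.app W (d • L.presheaf.map (homOfLE hW).op (e x)) =
        X.presheaf.map (homOfLE hW).op (c x) • d • L.presheaf.map (homOfLE hW).op (e x) := by
    intro x W hW d
    rw [Scheme.Modules.Hom.app_smul, H11Tilde.app_map_apply, hc, Scheme.Modules.map_smul, smul_comm]
  have hcov : ⊤ ≤ iSup V := fun x _ => Opens.mem_iSup.2 ⟨x, hV x⟩
  obtain ⟨a, ha, -⟩ := TopCat.Sheaf.existsUnique_gluing' X.sheaf V ⊤ (fun x => homOfLE le_top) hcov c (by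
    intro x y
    refine (((he y).res (inf_le_right : V x ⊓ V y ≤ V y)).bijective le_rfl).1 ?_
    beta_reduce
    rw [H10Coh.mres_self]
    obtain ⟨d, hd⟩ := H11Ample.exists_coeff ((he x).res (inf_le_left : V x ⊓ V y ≤ V x))
      (L.presheaf.map (homOfLE inf_le_right).op (e y))
    have h1 := hres y (V x ⊓ V y) inf_le_right 1
    rw [one_smul] at h1
    have h2 := hres x (V x ⊓ V y) inf_le_left d
    rw [← hd, h1] at h2
    exact h2.symm)
  refine ⟨a, Scheme.Modules.hom_ext _ _ fun W => ?_⟩
  ext m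
  refine H11Tilde.eq_of_locally _ _ fun x hx => ⟨W ⊓ V x, inf_le_left, ⟨hx, hV x⟩, ?_⟩
  obtain ⟨d, hd⟩ := H11Ample.exists_coeff ((he x).res (inf_le_right : W ⊓ V x ≤ V x))
    (L.presheaf.map (homOfLE inf_le_left).op m)
  rw [← H11Tilde.app_map_apply, hd, hres, mulEnd_app, Scheme.Modules.map_smul, hd, res_res,
    ← res_res (inf_le_right : W ⊓ V x ≤ V x)]
  exact congrArg (fun z => (X.presheaf.map (homOfLE inf_le_right).op z) • _) (ha x).symm

/-- Post-composition of the module component with a multiplication. -/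
def premul {a b : Pairs.{u}} (g : a ⟶ b) (r : Γ(a.base, ⊤)) : a ⟶ b :=
  { base := g.base, fiber := (mulEnd r (a.fiber : a.base.Modules)) ≫ fib g }

theorem premul_comp {a b c : Pairs.{u}} (g : a ⟶ b) (q : b ⟶ c) (r : Γ(a.base, ⊤)) :
    premul g r ≫ q = premul (g ≫ q) r := by
  refine CoGrothendieck.Hom.ext _ _ rfl ?_
  change (mulEnd r (a.fiber : a.base.Modules) ≫ fib g) ≫ (Scheme.Modules.pullback g.base).map (fib q) ≫
    (Scheme.Modules.pullbackComp g.base q.base).hom.app c.fiber = _
  erw [eqToHom_refl, Category.comp_id]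
  show _ = mulEnd r (a.fiber : a.base.Modules) ≫ fib (g ≫ q)
  rw [comp_fiber', Category.assoc]

theorem comp_premul {a b c : Pairs.{u}} (g : a ⟶ b) (q : b ⟶ c) (r : Γ(b.base, ⊤)) :
    g ≫ premul q r = premul (g ≫ q) (g.base.appTop r) := by
  refine CoGrothendieck.Hom.ext _ _ rfl ?_
  change fib g ≫ (Scheme.Modules.pullback g.base).map (mulEnd r (b.fiber : b.base.Modules) ≫ fib q) ≫
    (Scheme.Modules.pullbackComp g.base q.base).hom.app c.fiber = _
  erw [eqToHom_refl, Category.comp_id]
  show _ = mulEnd (g.base.appTop r) (a.fiber : a.base.Modules) ≫ fib (g ≫ q)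
  rw [Functor.map_comp, pullback_map_mulEnd, comp_fiber', Category.assoc, ← Category.assoc (fib g),
    mulEnd_natural, Category.assoc]

theorem premul_premul {a b : Pairs.{u}} (g : a ⟶ b) (r s : Γ(a.base, ⊤)) :
    premul (premul g r) s = premul g (r * s) := by
  refine CoGrothendieck.Hom.ext _ _ rfl ?_
  erw [eqToHom_refl, Category.comp_id]
  show mulEnd s (a.fiber : a.base.Modules) ≫ (mulEnd r _ ≫ fib g) = mulEnd (r * s) _ ≫ fib g
  rw [← Category.assoc]
  congr 1
  refine Scheme.Modules.hom_ext _ _ fun W => ?_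
  ext m
  show res W r • (res W s • m) = res W (r * s) • m
  rw [smul_smul, show res W (r * s) = res W r * res W s from map_mul _ _ _]

theorem isIso_fib_premul {a b : Pairs.{u}} (g : a ⟶ b) [IsIso (fib g)] {r s : Γ(a.base, ⊤)} (h : r * s = 1) :
    IsIso (fib (premul g r)) := by
  have key : ∀ r' s' : Γ(a.base, ⊤), r' * s' = 1 →
      mulEnd r' (a.fiber : a.base.Modules) ≫ mulEnd s' _ = 𝟙 _ := fun r' s' h' => by
    refine Scheme.Modules.hom_ext _ _ fun W => ?_
    ext m
    show res W s' • (res W r' • m) = m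
    rw [smul_smul, show res W s' * res W r' = res W (s' * r') from (map_mul _ _ _).symm, mul_comm, h',
      show res W (1 : Γ(a.base, ⊤)) = 1 from map_one _, one_smul]
  haveI : IsIso (mulEnd r (a.fiber : a.base.Modules)) :=
    ⟨mulEnd s _, key r s h, key s r (by rw [mul_comm, h])⟩
  exact inferInstanceAs (IsIso (mulEnd r (a.fiber : a.base.Modules) ≫ fib g))

/-- Endomorphisms of a pair over the identity are multiplications. -/
theorem exists_premul {a : Pairs.{u}} (ha : PicF.IsInvertible (a.fiber : a.base.Modules)) (g : a ⟶ a)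
    (hg : g.base = 𝟙 a.base) : ∃ r : Γ(a.base, ⊤), g = premul (𝟙 a) r := by
  obtain ⟨f, φ⟩ := g
  obtain rfl : f = 𝟙 a.base := hg
  obtain ⟨r, hr⟩ := exists_mulEnd_eq ha
    ((φ : (a.fiber : a.base.Modules) ⟶ (Scheme.Modules.pullback (𝟙 a.base)).obj a.fiber) ≫
      (Scheme.Modules.pullbackId a.base).hom.app a.fiber)
  refine ⟨r, CoGrothendieck.Hom.ext _ _ rfl ?_⟩
  erw [eqToHom_refl, Category.comp_id]
  show φ = mulEnd r _ ≫ fib (𝟙 a)
  rw [← hr, id_fiber', Category.assoc, Iso.hom_inv_id_app]
  exact (Category.comp_id _).symm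

theorem premul_injective {a b : Pairs.{u}} (ha : PicF.IsInvertible (a.fiber : a.base.Modules)) (g : a ⟶ b)
    [IsIso (fib g)] {r s : Γ(a.base, ⊤)} (h : premul g r = premul g s) : r = s := by
  obtain ⟨h1, h2⟩ := (CoGrothendieck.Hom.ext_iff _ _).1 h
  refine mulEnd_injective ha ((cancel_mono (fib g)).1 ?_)
  erw [eqToHom_refl, Category.comp_id] at h2
  exact h2

theorem premul_one {a b : Pairs.{u}} (g : a ⟶ b) : premul g 1 = g := by
  refine CoGrothendieck.Hom.ext _ _ rfl ?_
  erw [eqToHom_refl, Category.comp_id]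
  show mulEnd 1 _ ≫ fib g = _
  rw [mulEnd_one, Category.id_comp]

variable {k : Type u} [Field k] {A : Over (Spec (CommRingCat.of k))} [GrpObj A] [IsProper A.hom]
  [GeometricallyIntegral A.hom] {L : A.left.Modules}

theorem exists_appTop_snd (T : Over (Spec (CommRingCat.of k))) (r : Γ((A ⊗ T).left, ⊤)) :
    ∃ t : Γ(T.left, ⊤), (snd A T).left.appTop t = r := by
  haveI : IsIso ((snd A T).left.app ⊤) := H25Dual.isIso_XTproj_app (A := A) T ⊤
  exact ⟨inv ((snd A T).left.app ⊤) r, IsIso.inv_hom_id_apply ((snd A T).left.app ⊤) r⟩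

theorem appTop_snd_injective (T : Over (Spec (CommRingCat.of k))) :
    Function.Injective (snd A T).left.appTop := by
  haveI : IsIso ((snd A T).left.app ⊤) := H25Dual.isIso_XTproj_app (A := A) T ⊤
  exact (ConcreteCategory.bijective_of_isIso ((snd A T).left.app ⊤)).1

/-- A point over the unit translation is the multiplication by a function on the test scheme. -/
theorem exists_scalar (hL : PicF.IsInvertible L) {T : Over (Spec (CommRingCat.of k))}
    {c : ThetaGrp.thetaPts A L T} (hc : ThetaGrp.IsOverPt c 1) :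
    ∃ t : Γ(T.left, ⊤), c.1.hom = premul (𝟙 _) ((snd A T).left.appTop t) := by
  obtain ⟨r, hr⟩ := exists_premul (H11Ample.isInvertible_pullback _ hL) c.1.hom
    (hc.trans (by rw [ThetaGrp.transl_one]; rfl))
  obtain ⟨t, rfl⟩ := exists_appTop_snd T r
  exact ⟨t, hr⟩

/-- Points over the unit translation are central. -/
theorem commute_of_isOverPt_one (hL : PicF.IsInvertible L) {T : Over (Spec (CommRingCat.of k))}
    {c : ThetaGrp.thetaPts A L T} (hc : ThetaGrp.IsOverPt c 1) (β : ThetaGrp.thetaPts A L T) :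
    c * β = β * c := by
  obtain ⟨t, ht⟩ := exists_scalar hL hc
  obtain ⟨x, hx⟩ := β.2
  apply Subtype.ext
  apply Aut.ext
  show β.1.hom ≫ c.1.hom = c.1.hom ≫ β.1.hom
  rw [ht, comp_premul, premul_comp, Category.comp_id, Category.id_comp]
  congr 1
  rw [← CommRingCat.comp_apply, ← Scheme.Hom.comp_appTop]
  congr 3
  rw [hx, ← Over.comp_left, ThetaGrp.transl_snd]

/-- Two cartesian morphisms with the same base differ by a function. -/
theorem exists_premul_eq {a b : Pairs.{u}} (ha : PicF.IsInvertible (a.fiber : a.base.Modules)) (g g' : a ⟶ b)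
    [IsIso (fib g')] (h : g.base = g'.base) : ∃ r : Γ(a.base, ⊤), g = premul g' r := by
  obtain ⟨e, he, he'⟩ := exists_lift g g' (𝟙 _) (by rw [Category.id_comp, h])
  obtain ⟨r, rfl⟩ := exists_premul ha e he
  exact ⟨r, by rw [← he', premul_comp, Category.id_comp]⟩

end Groth.Agent.H26Theta
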