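import Groth.Agent.H26Theta.Pts

/-!
# Cartesian morphisms of pairs and base change of points of the theta group
-/

set_option autoImplicit false
set_option linter.style.haveILetI false
set_option backward.isDefEq.respectTransparency false
set_option backward.isDefEq.respectTransparency.types false
universe u

open CategoryTheory CategoryTheory.Limits MonoidalCategory CartesianMonoidalCategory MonObj AlgebraicGeometry
open Pseudofunctor Bicategory Groth.Agent
open Groth.Agent.H25Theta (pb pC pI pT pO tI)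

noncomputable section

namespace Groth.Agent.H26Theta

/-- A morphism of pairs is cartesian when its module component is an isomorphism. -/
abbrev Cart {a b : Pairs.{u}} (g : a ⟶ b) : Prop := IsIso (fib g)

theorem cart_comp {a b c : Pairs.{u}} (g : a ⟶ b) (q : b ⟶ c) (hg : Cart g) (hq : Cart q) : Cart (g ≫ q) := by
  haveI : IsIso (fib g) := hg
  haveI : IsIso (fib q) := hq
  show IsIso (fib (g ≫ q))
  rw [comp_fiber']
  infer_instance

theorem cart_of_comp {a b c : Pairs.{u}} (g : a ⟶ b) (q : b ⟶ c) (hgq : Cart (g ≫ q)) (hq : Cart q) : Cart g := by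
  haveI : IsIso (fib q) := hq
  haveI : IsIso (fib (g ≫ q)) := hgq
  have h : IsIso (fib g ≫ (Scheme.Modules.pullback g.base).map (fib q) ≫
      (Scheme.Modules.pullbackComp g.base q.base).hom.app c.fiber) := comp_fiber' g q ▸ inferInstance
  exact @IsIso.of_isIso_comp_right _ _ _ _ _ (fib g) _ inferInstance h

/-- Morphisms into the source of a cartesian morphism are determined by their base and their composite. -/
theorem cart_ext {a b c : Pairs.{u}} {g g' : a ⟶ b} (q : b ⟶ c) [hq : IsIso (fib q)] (h : g.base = g'.base)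
    (h' : g ≫ q = g' ≫ q) : g = g' := by
  obtain ⟨f, φ⟩ := g
  obtain ⟨f', φ'⟩ := g'
  obtain rfl : f = f' := h
  obtain ⟨h1, h2⟩ := (CoGrothendieck.Hom.ext_iff _ _).1 h'
  refine CoGrothendieck.Hom.ext _ _ rfl ?_
  simp only [eqToHom_refl, Category.id_comp, Category.comp_id] at h2 ⊢
  change φ ≫ (Scheme.Modules.pullback f).map (fib q) ≫ (Scheme.Modules.pullbackComp f q.base).hom.app c.fiber =
    φ' ≫ (Scheme.Modules.pullback f).map (fib q) ≫ (Scheme.Modules.pullbackComp f q.base).hom.app c.fiber at h2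
  exact (cancel_mono ((Scheme.Modules.pullback f).map (fib q) ≫
    (Scheme.Modules.pullbackComp f q.base).hom.app c.fiber)).1 h2

/-- Factorisation through a cartesian morphism. -/
theorem exists_lift {a b c : Pairs.{u}} (g : a ⟶ c) (q : b ⟶ c) [hq : IsIso (fib q)] (f : a.base ⟶ b.base)
    (w : f ≫ q.base = g.base) : ∃ h : a ⟶ b, h.base = f ∧ h ≫ q = g := by
  refine ⟨{ base := f, fiber := fib g ≫ (Scheme.Modules.pullbackCongr w.symm).hom.app c.fiber ≫
      (Scheme.Modules.pullbackComp f q.base).inv.app c.fiber ≫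
      (Scheme.Modules.pullback f).map (inv (fib q)) }, rfl, ?_⟩
  refine CoGrothendieck.Hom.ext _ _ w ?_
  change (fib g ≫ (Scheme.Modules.pullbackCongr w.symm).hom.app c.fiber ≫
      (Scheme.Modules.pullbackComp f q.base).inv.app c.fiber ≫
      (Scheme.Modules.pullback f).map (inv (fib q))) ≫ (Scheme.Modules.pullback f).map (fib q) ≫
      (Scheme.Modules.pullbackComp f q.base).hom.app c.fiber = _
  simp only [Category.assoc, ← Functor.map_comp_assoc, IsIso.inv_hom_id]
  erw [CategoryTheory.Functor.map_id, Category.id_comp, Iso.inv_hom_id_app, Category.comp_id]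
  exact congrArg (fib g ≫ ·) (by simp [Scheme.Modules.pullbackCongr])

/-- The morphism of pairs with given base and trivial component. -/
def toPair {X Y : Scheme.{u}} (f : X ⟶ Y) (M : Y.Modules) :
    ((⟨X, (Scheme.Modules.pullback f).obj M⟩ : Pairs.{u}) ⟶ ⟨Y, M⟩) :=
  { base := f, fiber := 𝟙 _ }

instance isIso_fib_toPair {X Y : Scheme.{u}} (f : X ⟶ Y) (M : Y.Modules) : IsIso (fib (toPair f M)) :=
  inferInstanceAs (IsIso (𝟙 _))

variable {k : Type u} [Field k] (A : Over (Spec (CommRingCat.of k))) [GrpObj A] (L : A.left.Modules)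

/-- The projection of the pair of a point of the theta group to `(A, L)`. -/
abbrev proj (T : Over (Spec (CommRingCat.of k))) : ThetaGrp.thetaObj A L T ⟶ (⟨A.left, L⟩ : Pairs.{u}) :=
  toPair (fst A T).left L

theorem bcLift_proj {T G : Over (Spec (CommRingCat.of k))} (g : T ⟶ G) :
    ThetaGrp.bcLift A L g ≫ proj A L G = proj A L T := by
  have w : (A ◁ g).left ≫ (fst A G).left = (fst A T).left := by rw [← Over.comp_left, whiskerLeft_fst]
  refine CoGrothendieck.Hom.ext _ _ w ?_
  change ((Scheme.Modules.pullbackCongr w.symm).hom.app L ≫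
      (Scheme.Modules.pullbackComp (A ◁ g).left (fst A G).left).inv.app L) ≫
    (Scheme.Modules.pullback (A ◁ g).left).map (𝟙 _) ≫
      (Scheme.Modules.pullbackComp (A ◁ g).left (fst A G).left).hom.app L = _
  simp only [Category.assoc]
  erw [CategoryTheory.Functor.map_id, Category.id_comp, Iso.inv_hom_id_app, Category.comp_id]
  refine Eq.trans ?_ (Category.id_comp _).symm
  simp [Scheme.Modules.pullbackCongr]

theorem isIso_fib_bcLift {T G : Over (Spec (CommRingCat.of k))} (g : T ⟶ G) : IsIso (fib (ThetaGrp.bcLift A L g)) :=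
  cart_of_comp _ (proj A L G) (by rw [bcLift_proj]; exact isIso_fib_toPair _ _) (isIso_fib_toPair _ _)

theorem bcLift_comp {T T' G : Over (Spec (CommRingCat.of k))} (g : T' ⟶ T) (h : T ⟶ G) :
    ThetaGrp.bcLift A L (g ≫ h) = ThetaGrp.bcLift A L g ≫ ThetaGrp.bcLift A L h := by
  refine cart_ext (proj A L G) ?_ (by rw [Category.assoc, bcLift_proj, bcLift_proj, bcLift_proj])
  show (A ◁ (g ≫ h)).left = (A ◁ g).left ≫ (A ◁ h).left
  rw [MonoidalCategory.whiskerLeft_comp, Over.comp_left]

variable {A L}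

theorem isBaseChange_comp {T T' G : Over (Spec (CommRingCat.of k))} {g : T' ⟶ T} {h : T ⟶ G}
    {δ : ThetaGrp.thetaPts A L T'} {β : ThetaGrp.thetaPts A L T} {u₀ : ThetaGrp.thetaPts A L G}
    (h1 : ThetaGrp.IsBaseChange δ g β) (h2 : ThetaGrp.IsBaseChange β h u₀) :
    ThetaGrp.IsBaseChange δ (g ≫ h) u₀ := by
  unfold ThetaGrp.IsBaseChange at h1 h2 ⊢
  rw [bcLift_comp, reassoc_of% h1, h2, Category.assoc]

theorem eq_of_transl {T : Over (Spec (CommRingCat.of k))} {x y : T ⟶ A}
    (h : (ThetaGrp.transl A x).left = (ThetaGrp.transl A y).left) : x = y := by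
  have e : ThetaGrp.transl A x = ThetaGrp.transl A y := Over.OverMorphism.ext h
  have := congrArg (fun t => lift (1 : T ⟶ A) (𝟙 T) ≫ t ≫ fst A T) e
  simpa [MonObj.comp_mul] using this

theorem whiskerLeft_transl {T G : Over (Spec (CommRingCat.of k))} (g : T ⟶ G) (x : G ⟶ A) :
    ThetaGrp.transl A (g ≫ x) ≫ A ◁ g = A ◁ g ≫ ThetaGrp.transl A x := by
  apply CartesianMonoidalCategory.hom_ext
  · rw [Category.assoc, Category.assoc, whiskerLeft_fst, ThetaGrp.transl_fst, ThetaGrp.transl_fst, MonObj.comp_mul,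
      whiskerLeft_fst, whiskerLeft_snd_assoc]
  · rw [Category.assoc, Category.assoc, whiskerLeft_snd, ThetaGrp.transl_snd, whiskerLeft_snd, ← Category.assoc,
      ThetaGrp.transl_snd]

/-- A base change lies over the restricted translation. -/
theorem isOverPt_baseChange {T G : Over (Spec (CommRingCat.of k))} {g : T ⟶ G} {β : ThetaGrp.thetaPts A L T}
    {u₀ : ThetaGrp.thetaPts A L G} {x : G ⟶ A} (h : ThetaGrp.IsBaseChange β g u₀) (hx : ThetaGrp.IsOverPt u₀ x) :
    ThetaGrp.IsOverPt β (g ≫ x) := by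
  obtain ⟨y, hy⟩ := β.2
  have h' : β.1.hom.base ≫ (A ◁ g).left = (A ◁ g).left ≫ u₀.1.hom.base := congrArg CoGrothendieck.Hom.base h
  rw [hy, hx] at h'
  have e : ThetaGrp.transl A y ≫ A ◁ g = A ◁ g ≫ ThetaGrp.transl A x := Over.OverMorphism.ext h'
  have e' := congrArg (fun t => lift (1 : T ⟶ A) (𝟙 T) ≫ t ≫ fst A G) e
  simp [MonObj.comp_mul] at e'
  show β.1.hom.base = _
  rw [hy, e']

theorem isOverPt_unique {T : Over (Spec (CommRingCat.of k))} {β : ThetaGrp.thetaPts A L T} {x y : T ⟶ A}
    (hx : ThetaGrp.IsOverPt β x) (hy : ThetaGrp.IsOverPt β y) : x = y :=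
  eq_of_transl (hx.symm.trans hy)

theorem isOverPt_mul {T : Over (Spec (CommRingCat.of k))} {α β : ThetaGrp.thetaPts A L T} {x y : T ⟶ A}
    (hx : ThetaGrp.IsOverPt α x) (hy : ThetaGrp.IsOverPt β y) : ThetaGrp.IsOverPt (α * β) (y * x) := by
  show (α.1 * β.1).hom.base = _
  rw [Aut.Aut_mul_def, Iso.trans_hom, CoGrothendieck.categoryStruct_comp_base, hx, hy, ThetaGrp.transl_mul,
    Over.comp_left]

variable (A L)

/-- The point of the theta group given by a cartesian factorisation over a translation. -/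
theorem exists_pt_lift {T : Over (Spec (CommRingCat.of k))} {c : Pairs.{u}} (x : T ⟶ A)
    (g : ThetaGrp.thetaObj A L T ⟶ c) (q : ThetaGrp.thetaObj A L T ⟶ c) [IsIso (fib g)] [IsIso (fib q)]
    (w : (ThetaGrp.transl A x).left ≫ q.base = g.base) :
    ∃ β : ThetaGrp.thetaPts A L T, ThetaGrp.IsOverPt β x ∧ β.1.hom ≫ q = g := by
  obtain ⟨h, hb, hh⟩ := exists_lift g q _ w
  haveI : IsIso h.base := hb ▸ isIso_transl_left A x
  haveI : IsIso (fib h) := cart_of_comp h q (hh.symm ▸ inferInstance) inferInstance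
  haveI := isIso_of_components h
  exact ⟨⟨asIso h, x, hb⟩, hb, hh⟩

end Groth.Agent.H26Theta
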