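import Groth.Agent.H26Theta.GluePts
import Groth.Agent.H8Props.WeilRes.Cover
import Groth.Prelude.Def_GmPts

/-!
# Charts of the theta group and representability
-/

set_option autoImplicit false
set_option linter.style.haveILetI false
set_option linter.unusedSectionVars false
set_option backward.isDefEq.respectTransparency false
set_option backward.isDefEq.respectTransparency.types false
universe u

open CategoryTheory CategoryTheory.Limits MonoidalCategory CartesianMonoidalCategory MonObj AlgebraicGeometry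
open Opposite TopologicalSpace Pseudofunctor Bicategory Groth.Agent
open Groth.Agent.H11Tilde (homOfGlobal IsGen)
open Groth.Agent.H11Ample (one)
open Groth.Agent.H13Desc.EtSh (Inv rm)
open Groth.Agent.H8Props.WeilRes (openPart partIncl isRepresentable_of_open_cover)

noncomputable section

namespace Groth.Agent.H26Theta

/-- A generator near the image gives a cartesian morphism of pairs. -/
theorem exists_arr_of_gen {X Y : Scheme.{u}} (g : X ⟶ Y) {M : Y.Modules} {V : Y.Opens} {e : Γ(M, V)} (he : IsGen M e)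
    (h : (⊤ : X.Opens) ≤ g ⁻¹ᵁ V) :
    ∃ P : unitPair X ⟶ (⟨Y, M⟩ : Pairs.{u}), P.base = g ∧ IsIso (fib P) :=
  ⟨arr g (((Scheme.Modules.pullback g).obj M).presheaf.map (homOfLE h).op (OmegaSh.pullSect g M V e)), rfl,
    isIso_hom_of_gen ((IsGen.pullSect g he).res h)⟩

variable {k : Type u} [Field k] {A : Over (Spec (CommRingCat.of k))} [GrpObj A] [IsProper A.hom]
  [GeometricallyIntegral A.hom] {L : A.left.Modules}

set_option maxHeartbeats 1600000 in
/-- The group functor of the theta group is representable. -/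
theorem isRepresentable_thetaFunctor (hL : PicF.IsInvertible L) {K : Over (Spec (CommRingCat.of k))} {iK : K ⟶ A}
    (hK : ThetaGrp.IsKL A L iK) : (thetaFunctor A L ⋙ forget _).IsRepresentable := by
  haveI := hK.closed
  haveI : Mono iK := Over.mono_of_mono_left iK
  choose V e hV he using H11Ample.exists_gen hL
  let B : A.left → Over (Spec (CommRingCat.of k)) := fun a => openPart K (iK.left ⁻¹ᵁ V a)
  let w : ∀ a, B a ⟶ K := fun a => partIncl K _
  haveI hw : ∀ a, Mono (w a) := fun a => by
    haveI : IsOpenImmersion (w a).left := inferInstanceAs (IsOpenImmersion (iK.left ⁻¹ᵁ V a).ι)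
    exact Over.mono_of_mono_left (w a)
  have hle : ∀ a, (⊤ : (B a).left.Opens) ≤ (w a ≫ iK).left ⁻¹ᵁ V a := fun a z _ => z.2
  choose P hPb hPc using fun a => exists_arr_of_gen (w a ≫ iK).left (he a) (hle a)
  choose β hβ hβP using fun a => haveI := hPc a
    exists_phi_of_mumford hL (w a ≫ iK) ((hK.univ _ _).2 ⟨w a, rfl⟩) (P a) (hPb a)
  let W : A.left → Over (Spec (CommRingCat.of k)) := fun a => B a ⊗ Red.Gm _
  let t : ∀ a, (Γ((W a).left, ⊤))ˣ := fun a => GmPts.unitOfPt (snd (B a) (Red.Gm _))
  choose u hu using fun a => exists_scale hL (bcPt (fst (B a) (Red.Gm _)) (β a)) (t := ↑(t a)) (s := ↑(t a)⁻¹)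
    (Units.mul_inv _)
  have key : ∀ (a : A.left) (T : Over (Spec (CommRingCat.of k))) (h : T ⟶ W a), phi hL (bcPt h (u a)) =
      premul (unitMap (h ≫ fst (B a) (Red.Gm _)).left ≫ P a)
        (GmPts.unitOfPt (h ≫ snd (B a) (Red.Gm _))).val := by
    intro a T h
    rw [phi_bcPt, hu, phi_bcPt, hβP, comp_premul, ← Category.assoc, unitMap_comp, ← Over.comp_left,
      GmPts.unitOfPt_comp]
    rfl
  have hcart : ∀ (a : A.left) (T : Over (Spec (CommRingCat.of k))) (g : T ⟶ B a),
      IsIso (fib (unitMap g.left ≫ P a)) := fun a T g => cart_comp _ _ inferInstance (hPc a)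
  refine isRepresentable_of_open_cover (isZariskiGluing_thetaFunctor hL hK) W u (fun a T h h' hhh => ?_) ?_
  · have e1 : phi hL (bcPt h (u a)) = phi hL (bcPt h' (u a)) := congrArg (phi hL) hhh
    rw [key, key] at e1
    have e2 : (h ≫ fst (B a) _).left ≫ (w a ≫ iK).left = (h' ≫ fst (B a) (Red.Gm _)).left ≫ (w a ≫ iK).left := by
      rw [← hPb a]
      exact congrArg (fun Q => Q.base) e1
    have e3 : h ≫ fst (B a) _ = h' ≫ fst (B a) (Red.Gm _) := by
      rw [← cancel_mono (w a ≫ iK)]
      exact Over.OverMorphism.ext e2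
    apply CartesianMonoidalCategory.hom_ext _ _ e3
    rw [e3] at e1
    haveI := hcart a T (h' ≫ fst (B a) _)
    exact (GmPts.equiv T).injective (Units.ext (premul_injective H11Ample.isInvertible_structureModule
      (unitMap (h' ≫ fst (B a) (Red.Gm _)).left ≫ P a) e1))
  intro T s
  let s' : ThetaGrp.thetaPts A L T := s
  obtain ⟨x, hx⟩ := s'.2
  refine ⟨fun a => x.left ⁻¹ᵁ V a, fun z => ⟨x.left z, hV (x.left z)⟩, fun a T' p => ?_⟩
  constructor
  · rintro ⟨h, hh⟩ z ⟨z', rfl⟩
    have e1 : phi hL (bcPt h (u a)) = phi hL (bcPt p s') := congrArg (phi hL) hh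
    rw [key, phi_bcPt] at e1
    have e2 : (h ≫ fst (B a) (Red.Gm _)).left ≫ (w a ≫ iK).left = p.left ≫ x.left := by
      rw [← hPb a, ← phi_base hL hx]
      exact congrArg (fun Q => Q.base) e1
    show (p.left ≫ x.left) z' ∈ V a
    rw [← e2]
    exact ((h ≫ fst (B a) (Red.Gm _)).left z').2
  · intro hp
    have hx' := isOverPt_baseChange (isBaseChange_bcPt p s') hx
    obtain ⟨y, hy⟩ := (hK.univ _ (p ≫ x)).1 (mumford_of_isOverPt hL hx')
    have hyV : Set.range y.left ⊆ Set.range (iK.left ⁻¹ᵁ V a).ι := by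
      rw [Scheme.Opens.range_ι]
      rintro _ ⟨z', rfl⟩
      show (y.left ≫ iK.left) z' ∈ V a
      rw [← Over.comp_left, hy]
      exact hp ⟨z', rfl⟩
    let g : T' ⟶ B a := Over.homMk (IsOpenImmersion.lift (iK.left ⁻¹ᵁ V a).ι y.left hyV) (by
      show IsOpenImmersion.lift (iK.left ⁻¹ᵁ V a).ι y.left hyV ≫ (iK.left ⁻¹ᵁ V a).ι ≫ K.hom = T'.hom
      rw [IsOpenImmersion.lift_fac_assoc]
      exact Over.w y)
    have hg : g ≫ w a = y := Over.OverMorphism.ext (IsOpenImmersion.lift_fac _ _ _)
    haveI := hcart a T' g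
    haveI := isIso_fib_phi hL (bcPt p s')
    have hb : (phi hL (bcPt p s')).base = (unitMap g.left ≫ P a).base := by
      show _ = g.left ≫ (P a).base
      rw [phi_base hL hx', hPb, ← hy, ← hg, ← Over.comp_left, Category.assoc]
    obtain ⟨r, hr⟩ := exists_premul_eq H11Ample.isInvertible_structureModule _ _ hb
    obtain ⟨r', hr'⟩ := exists_premul_eq H11Ample.isInvertible_structureModule _ _ hb.symm
    have hrr : r * r' = 1 := by
      refine premul_injective (H11Ample.isInvertible_structureModule (X := T'.left)) (unitMap g.left ≫ P a) ?_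
      rw [← premul_premul, ← hr, ← hr', premul_one]
    refine ⟨lift g (GmPts.ptOfUnit ⟨r, r', hrr, by rw [mul_comm, hrr]⟩), phi_injective hL ?_⟩
    change phi hL (bcPt (lift g (GmPts.ptOfUnit _)) (u a)) = phi hL (bcPt p s')
    rw [key, lift_fst, lift_snd, GmPts.unitOfPt_ptOfUnit, hr]

end Groth.Agent.H26Theta
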