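import Groth.Agent.H26Theta.Cart
import Groth.Agent.H8Props.DescHom.Basic
import Groth.Agent.H28Pinch.DirectImageTrivial
import Groth.Agent.H28Pinch.RingedBC
import Mathlib.AlgebraicGeometry.AffineSpace
import Mathlib.AlgebraicGeometry.Sites.Fpqc

/-!
# Descent of morphisms of pairs along flat surjective quasi-compact morphisms
-/

set_option autoImplicit false
set_option linter.style.haveILetI false
set_option backward.isDefEq.respectTransparency false
set_option backward.isDefEq.respectTransparency.types false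
universe u

open CategoryTheory CategoryTheory.Limits AlgebraicGeometry Opposite TopologicalSpace Groth.Agent
open Pseudofunctor Bicategory

noncomputable section

namespace Groth.Agent.H26Theta

theorem topIso_inv_eq_appLE {X : Scheme.{u}} (U : X.Opens) (b : Γ(X, U)) :
    U.topIso.inv b = U.ι.appLE U ⊤ (fun x _ => x.2) b := by
  rw [Scheme.Opens.topIso_inv, Scheme.Opens.ι_appLE]
  rfl

theorem appTop_topIso_inv {Z X : Scheme.{u}} (U : X.Opens) (g : Z ⟶ U.toScheme) (b : Γ(X, U)) :
    g.appTop (U.topIso.inv b) = (g ≫ U.ι).appLE U ⊤ (fun x _ => (g.base x).2) b := by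
  rw [topIso_inv_eq_appLE, Scheme.Hom.appTop, Scheme.Hom.app_eq_appLE, ← CommRingCat.comp_apply,
    Scheme.Hom.appLE_comp_appLE]
  rfl

/-- Functions invariant under the two projections descend along flat surjective quasi-compact morphisms. -/
theorem mem_range_app_of_eq {P X Y : Scheme.{u}} (f : X ⟶ Y) [Flat f] [Surjective f] [QuasiCompact f]
    {p₁ p₂ : P ⟶ X} (hP : IsPullback p₁ p₂ f f) (U : Y.Opens) (a : Γ(X, f ⁻¹ᵁ U))
    (h : p₁.app (f ⁻¹ᵁ U) a =
      (P.presheaf.map (eqToHom (congrArg (fun g : P ⟶ Y => g ⁻¹ᵁ U) hP.w)).op) (p₂.app (f ⁻¹ᵁ U) a)) :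
    a ∈ Set.range (f.app U) := by
  let O := f ⁻¹ᵁ U
  let fU := f ∣_ U
  haveI : Flat fU := inferInstance
  haveI : Surjective fU := IsZariskiLocalAtTarget.restrict ‹_› U
  haveI : QuasiCompact fU := inferInstance
  let a' : Γ(O.toScheme, ⊤) := O.topIso.inv a
  let e := (AffineSpace.toSpecMvPolyIntEquiv PUnit.{u + 1}).symm (fun _ => a')
  have he : ∀ {Z : Scheme.{u}} (g₁ g₂ : Z ⟶ O.toScheme), g₁ ≫ fU = g₂ ≫ fU → g₁ ≫ e = g₂ ≫ e := by
    intro Z g₁ g₂ hg
    apply (AffineSpace.toSpecMvPolyIntEquiv PUnit.{u + 1}).injective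
    funext i
    rw [AffineSpace.toSpecMvPolyIntEquiv_comp, AffineSpace.toSpecMvPolyIntEquiv_comp]
    simp only [e, Equiv.apply_symm_apply, a']
    have hw : (g₁ ≫ O.ι) ≫ f = (g₂ ≫ O.ι) ≫ f := by
      rw [Category.assoc, Category.assoc, ← morphismRestrict_ι, reassoc_of% hg]
    obtain ⟨l, e1, e2⟩ : ∃ l : Z ⟶ P, l ≫ p₁ = g₁ ≫ O.ι ∧ l ≫ p₂ = g₂ ≫ O.ι :=
      ⟨hP.lift _ _ hw, hP.lift_fst _ _ _, hP.lift_snd _ _ _⟩
    have hl : (⊤ : Z.Opens) ≤ l ⁻¹ᵁ (p₁ ⁻¹ᵁ O) := by
      intro x _
      show x ∈ (l ≫ p₁) ⁻¹ᵁ O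
      rw [e1]
      exact (g₁.base x).2
    have hl' : (⊤ : Z.Opens) ≤ l ⁻¹ᵁ (p₂ ⁻¹ᵁ O) := by
      intro x _
      show x ∈ (l ≫ p₂) ⁻¹ᵁ O
      rw [e2]
      exact (g₂.base x).2
    rw [appTop_topIso_inv, appTop_topIso_inv]
    simp only [← e1, ← e2]
    rw [show (l ≫ p₁).appLE O ⊤ hl = p₁.app O ≫ l.appLE (p₁ ⁻¹ᵁ O) ⊤ hl from Scheme.Hom.comp_appLE _ _ _ _ _,
      show (l ≫ p₂).appLE O ⊤ hl' = p₂.app O ≫ l.appLE (p₂ ⁻¹ᵁ O) ⊤ hl' from Scheme.Hom.comp_appLE _ _ _ _ _,
      CommRingCat.comp_apply, CommRingCat.comp_apply, h]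
    exact ConcreteCategory.congr_hom (Scheme.Hom.map_appLE l hl (eqToHom _).op) _
  let d := EffectiveEpi.desc fU e he
  let b := AffineSpace.toSpecMvPolyIntEquiv PUnit.{u + 1} d ⟨⟩
  refine ⟨U.topIso.hom b, ?_⟩
  have hb : fU.appTop b = a' := by
    rw [← AffineSpace.toSpecMvPolyIntEquiv_comp, EffectiveEpi.fac]
    exact congrFun (Equiv.apply_symm_apply _ _) _
  refine (ConcreteCategory.bijective_of_isIso O.topIso.inv).1 ?_
  refine Eq.trans ?_ hb
  rw [show b = U.topIso.inv (U.topIso.hom b) from (Iso.hom_inv_id_apply U.topIso b).symm, appTop_topIso_inv,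
    Iso.hom_inv_id_apply]
  simp only [fU, morphismRestrict_ι]
  rw [topIso_inv_eq_appLE, Scheme.Hom.comp_appLE]
  rfl

set_option maxHeartbeats 1600000 in
/-- Descent of cartesian morphisms of pairs along a cartesian morphism with flat surjective quasi-compact base. -/
theorem exists_descend {a b c : Pairs.{u}} (q : a ⟶ b) (g : a ⟶ c) [IsIso (fib q)] [IsIso (fib g)]
    [Flat q.base] [Surjective q.base] [QuasiCompact q.base] (h : b.base ⟶ c.base) (w : q.base ≫ h = g.base)
    (hc : PicF.IsInvertible (c.fiber : c.base.Modules))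
    {P : Pairs.{u}} (p₁ p₂ : P ⟶ a) [IsIso (fib p₁)] (hP : IsPullback p₁.base p₂.base q.base q.base)
    (hq : p₁ ≫ q = p₂ ≫ q) (hg : p₁ ≫ g = p₂ ≫ g) : ∃ g' : b ⟶ c, g'.base = h ∧ q ≫ g' = g := by
  let f := q.base
  let L : b.base.Modules := b.fiber
  let M : b.base.Modules := (Scheme.Modules.pullback h).obj c.fiber
  -- the source with the canonical module
  let q0 := toPair f L
  obtain ⟨e, heb, heq⟩ := exists_lift q0 q (𝟙 a.base) (Category.id_comp _)
  let g0 := e ≫ g
  have hg0 : g0.base = f ≫ h := by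
    show e.base ≫ g.base = _
    rw [heb, w]; exact Category.id_comp _
  let φ : (Scheme.Modules.pullback f).obj L ⟶ (Scheme.Modules.pullback f).obj M :=
    fib g0 ≫ (Scheme.Modules.pullbackCongr hg0).hom.app c.fiber ≫
      (Scheme.Modules.pullbackComp f h).inv.app c.fiber
  let g0' : (⟨a.base, (Scheme.Modules.pullback f).obj L⟩ : Pairs.{u}) ⟶ ⟨b.base, M⟩ :=
    { base := f, fiber := φ }
  have hg0' : g0' ≫ toPair h c.fiber = g0 := by
    refine CoGrothendieck.Hom.ext _ _ hg0.symm ?_
    change (fib g0 ≫ (Scheme.Modules.pullbackCongr hg0).hom.app c.fiber ≫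
      (Scheme.Modules.pullbackComp f h).inv.app c.fiber) ≫ (Scheme.Modules.pullback f).map (𝟙 _) ≫
        (Scheme.Modules.pullbackComp f h).hom.app c.fiber = _
    simp only [Category.assoc]
    erw [CategoryTheory.Functor.map_id, Category.id_comp, Iso.inv_hom_id_app, Category.comp_id]
    exact congrArg (fib g0 ≫ ·) (by simp [Scheme.Modules.pullbackCongr])
  -- the two pullbacks
  let s : ∀ (p : P.base ⟶ a.base), ((⟨P.base, (Scheme.Modules.pullback (p ≫ f)).obj L⟩ : Pairs.{u}) ⟶
      ⟨a.base, (Scheme.Modules.pullback f).obj L⟩) :=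
    fun p => { base := p, fiber := (Scheme.Modules.pullbackComp p f).inv.app L }
  have hs : ∀ p, s p ≫ q0 = toPair (p ≫ f) L := fun p => by
    refine CoGrothendieck.Hom.ext _ _ rfl ?_
    change (Scheme.Modules.pullbackComp p f).inv.app L ≫ (Scheme.Modules.pullback p).map (𝟙 _) ≫
      (Scheme.Modules.pullbackComp p f).hom.app L = _
    erw [CategoryTheory.Functor.map_id, Category.id_comp, Iso.inv_hom_id_app, eqToHom_refl, Category.comp_id]
    rfl
  let s₂ : (⟨P.base, (Scheme.Modules.pullback (p₁.base ≫ f)).obj L⟩ : Pairs.{u}) ⟶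
      ⟨a.base, (Scheme.Modules.pullback f).obj L⟩ :=
    { base := p₂.base, fiber := (Scheme.Modules.pullbackCongr hP.w).hom.app L ≫
        (Scheme.Modules.pullbackComp p₂.base f).inv.app L }
  have hs₂ : s₂ ≫ q0 = toPair (p₁.base ≫ f) L := by
    refine CoGrothendieck.Hom.ext _ _ hP.w.symm ?_
    change ((Scheme.Modules.pullbackCongr hP.w).hom.app L ≫ (Scheme.Modules.pullbackComp p₂.base f).inv.app L) ≫
      (Scheme.Modules.pullback p₂.base).map (𝟙 _) ≫ (Scheme.Modules.pullbackComp p₂.base f).hom.app L = _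
    simp only [Category.assoc]
    erw [CategoryTheory.Functor.map_id, Category.id_comp, Iso.inv_hom_id_app, Category.comp_id]
    refine Eq.trans ?_ (Category.id_comp _).symm
    simp [Scheme.Modules.pullbackCongr]
  obtain ⟨σ, hσb, hσ⟩ := exists_lift (toPair (p₁.base ≫ f) L) (p₁ ≫ q)
    (hq := cart_comp _ _ inferInstance inferInstance) (𝟙 P.base) (Category.id_comp _)
  have hse₁ : s p₁.base ≫ e = σ ≫ p₁ := cart_ext q
    (by show p₁.base ≫ e.base = σ.base ≫ p₁.base; rw [heb, hσb, Category.comp_id, Category.id_comp])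
    (by rw [Category.assoc, heq, hs, Category.assoc, hσ])
  have hse₂ : s₂ ≫ e = σ ≫ p₂ := cart_ext q
    (by show p₂.base ≫ e.base = σ.base ≫ p₂.base; rw [heb, hσb, Category.comp_id]; exact (Category.id_comp _).symm)
    (by rw [Category.assoc, heq, hs₂, Category.assoc, ← hq, hσ])
  have key : s p₁.base ≫ g0' = s₂ ≫ g0' := by
    haveI := isIso_fib_toPair h (c.fiber : c.base.Modules)
    refine cart_ext (toPair h c.fiber) ?_ ?_
    · show p₁.base ≫ f = p₂.base ≫ f
      exact hP.w
    · rw [Category.assoc, Category.assoc, hg0']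
      show s p₁.base ≫ e ≫ g = s₂ ≫ e ≫ g
      rw [reassoc_of% hse₁, reassoc_of% hse₂, hg]
  obtain ⟨ψ, hψ, -⟩ := H8Props.DescHom.existsUnique_hom f
    (fun U => H28Pinch.app_injective_of_flat_surjective f U) hP.w (fun U a h => mem_range_app_of_eq f hP U a h)
    L M (H28Pinch.isFinLocFree_of_isInvertible (H11Ample.isInvertible_pullback h hc)) φ (by
      obtain ⟨k1, k2⟩ := (CoGrothendieck.Hom.ext_iff _ _).1 key
      simp only [Iso.app_hom, Iso.app_inv]
      refine Eq.trans k2 ?_
      show (((Scheme.Modules.pullbackCongr hP.w).hom.app L ≫ (Scheme.Modules.pullbackComp p₂.base f).inv.app L) ≫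
          (Scheme.Modules.pullback p₂.base).map φ ≫ (Scheme.Modules.pullbackComp p₂.base f).hom.app M) ≫
            eqToHom _ = _
      simp only [Category.assoc]
      simp [Scheme.Modules.pullbackCongr])
  let g' : b ⟶ c := { base := h, fiber := ψ }
  refine ⟨g', rfl, ?_⟩
  haveI : IsIso (fib e) := cart_of_comp e q (heq ▸ isIso_fib_toPair _ _) inferInstance
  haveI : IsIso e.base := by rw [heb]; infer_instance
  haveI := isIso_of_components e
  rw [← cancel_epi e, reassoc_of% heq]
  refine CoGrothendieck.Hom.ext _ _ hg0.symm ?_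
  change (𝟙 _) ≫ (Scheme.Modules.pullback f).map ψ ≫ (Scheme.Modules.pullbackComp f h).hom.app c.fiber = _
  rw [Category.id_comp, hψ]
  simp only [φ, Category.assoc, Iso.inv_hom_id_app]
  erw [Category.comp_id]
  exact congrArg (fib g0 ≫ ·) (by simp [Scheme.Modules.pullbackCongr])

/-- Morphisms to a pair with an invertible module are determined after a flat surjective quasi-compact base change. -/
theorem descend_ext {a b c : Pairs.{u}} (q : a ⟶ b) [IsIso (fib q)] [Flat q.base] [Surjective q.base]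
    [QuasiCompact q.base] {g g' : b ⟶ c} (hc : PicF.IsInvertible (c.fiber : c.base.Modules))
    (h : g.base = g'.base) (h' : q ≫ g = q ≫ g') : g = g' := by
  obtain ⟨v, φ⟩ := g
  obtain ⟨v', φ'⟩ := g'
  obtain rfl : v = v' := h
  obtain ⟨h1, h2⟩ := (CoGrothendieck.Hom.ext_iff _ _).1 h'
  simp only [eqToHom_refl, Category.comp_id] at h2
  refine CoGrothendieck.Hom.ext _ _ rfl ?_
  simp only [eqToHom_refl, Category.comp_id]
  change (fib q ≫ (Scheme.Modules.pullback q.base).map φ ≫ (Scheme.Modules.pullbackComp q.base v).hom.app c.fiber) =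
    fib q ≫ (Scheme.Modules.pullback q.base).map φ' ≫ (Scheme.Modules.pullbackComp q.base v).hom.app c.fiber at h2
  rw [cancel_epi, cancel_mono] at h2
  let M := (Scheme.Modules.pullback v).obj c.fiber
  let adj := Scheme.Modules.pullbackPushforwardAdjunction q.base
  haveI : Mono (adj.unit.app M) := ⟨fun g h hgh => Scheme.Modules.hom_ext _ _ fun U =>
    ConcreteCategory.hom_ext _ _ fun s =>
      H8Props.DescHom.injective_pullSect q.base (fun U => H28Pinch.app_injective_of_flat_surjective q.base U) M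
        (H28Pinch.isFinLocFree_of_isInvertible (H11Ample.isInvertible_pullback v hc)) U (by
        show (g ≫ adj.unit.app M).app U s = (h ≫ adj.unit.app M).app U s
        rw [hgh])⟩
  rw [← cancel_mono (adj.unit.app M)]
  exact (adj.unit.naturality φ).trans ((congrArg (adj.unit.app _ ≫ ·)
    (congrArg (Scheme.Modules.pushforward q.base).map h2)).trans (adj.unit.naturality φ').symm)

end Groth.Agent.H26Theta
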