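import Groth.Prelude.Def_AlgGrp
import Mathlib.AlgebraicGeometry.Morphisms.Flat
import Mathlib.CategoryTheory.Monoidal.Cartesian.Grp
import Mathlib.CategoryTheory.Monoidal.Cartesian.Over
import Groth.Prelude.Def_ThetaK

/-!
# The kernel pair of the base change of a homomorphism
-/

set_option autoImplicit false
set_option linter.style.haveILetI false
set_option backward.isDefEq.respectTransparency false
set_option backward.isDefEq.respectTransparency.types false
universe u

open CategoryTheory CategoryTheory.Limits MonoidalCategory CartesianMonoidalCategory MonObj AlgebraicGeometry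

noncomputable section

namespace Groth.Agent.H26Theta

variable {k : Type u} [Field k] {A B : Over (Spec (CommRingCat.of k))}

theorem isPullback_whiskerRight (f : A ⟶ B) (T : Over (Spec (CommRingCat.of k))) :
    IsPullback (fst A T).left (f ▷ T).left f.left (fst B T).left := by
  have h : IsPullback (fst A T) (f ▷ T) f (fst B T) := by
    refine ⟨⟨(whiskerRight_fst f T).symm⟩, ⟨PullbackCone.IsLimit.mk _ (fun s => lift s.fst (s.snd ≫ snd B T))
      (fun s => lift_fst _ _) (fun s => ?_) (fun s m h₁ h₂ => ?_)⟩⟩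
    · apply CartesianMonoidalCategory.hom_ext
      · rw [Category.assoc, whiskerRight_fst, lift_fst_assoc, s.condition]
      · rw [Category.assoc, whiskerRight_snd, lift_snd]
    · apply CartesianMonoidalCategory.hom_ext
      · rw [lift_fst, ← h₁]
      · rw [lift_snd, ← h₂, Category.assoc, whiskerRight_snd]
  exact h.map (Over.forget _)

variable [GrpObj A] [GrpObj B] [IsCommMonObj A] {f : A ⟶ B} [IsMonHom f]
  {N : Over (Spec (CommRingCat.of k))} {i : N ⟶ A}

theorem isPullback_kernel_pair (hN : AlgGrp.IsKernel i f) (T : Over (Spec (CommRingCat.of k))) :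
    IsPullback (A ◁ snd N T) (ThetaGrp.transl A (fst N T ≫ i) ≫ A ◁ snd N T) (f ▷ T) (f ▷ T) := by
  have hif : i ≫ f = (1 : N ⟶ B) := hN.w.trans (by rw [Hom.one_def])
  have hp : (ThetaGrp.transl A (fst N T ≫ i) ≫ A ◁ snd N T) =
      lift (fst A (N ⊗ T) * (snd A (N ⊗ T) ≫ fst N T ≫ i)) (snd A (N ⊗ T) ≫ snd N T) := by
    apply CartesianMonoidalCategory.hom_ext
    · rw [Category.assoc, whiskerLeft_fst, ThetaGrp.transl_fst, lift_fst]
    · rw [Category.assoc, whiskerLeft_snd, lift_snd, ← Category.assoc, ThetaGrp.transl_snd]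
  have hker : ∀ (Z : Over (Spec (CommRingCat.of k))) (a : Z ⟶ A), a ≫ f = 1 → ∃ n : Z ⟶ N, n ≫ i = a :=
    fun Z a ha => ⟨hN.lift a (toUnit Z) (ha.trans (by rw [Hom.one_def])), hN.lift_fst _ _ _⟩
  have hinj : ∀ {Z : Over (Spec (CommRingCat.of k))} (n n' : Z ⟶ N), n ≫ i = n' ≫ i → n = n' :=
    fun n n' h => hN.hom_ext h (toUnit_unique _ _)
  rw [hp]
  choose kl hkl using hker
  refine ⟨⟨?_⟩, ⟨PullbackCone.IsLimit.mk _
    (fun s => lift (s.fst ≫ fst A T) (lift (kl _ ((s.fst ≫ fst A T)⁻¹ * (s.snd ≫ fst A T)) ?_)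
      (s.fst ≫ snd A T))) (fun s => ?_) (fun s => ?_) (fun s m h₁ h₂ => ?_)⟩⟩
  · apply CartesianMonoidalCategory.hom_ext
    · simp only [Category.assoc, whiskerRight_fst, lift_fst_assoc, whiskerLeft_fst_assoc, MonObj.mul_comp, hif,
        MonObj.comp_one, _root_.mul_one]
    · simp only [Category.assoc, whiskerRight_snd, lift_snd, whiskerLeft_snd]
  · have h := congrArg (· ≫ fst B T) s.condition
    simp only [Category.assoc, whiskerRight_fst] at h
    rw [MonObj.mul_comp, GrpObj.inv_comp, Category.assoc, Category.assoc, h, inv_mul_cancel]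
  · apply CartesianMonoidalCategory.hom_ext
    · rw [Category.assoc, whiskerLeft_fst, lift_fst]
    · rw [Category.assoc, whiskerLeft_snd, lift_snd_assoc, lift_snd]
  · have h := congrArg (· ≫ snd B T) s.condition
    simp only [Category.assoc, whiskerRight_snd] at h
    apply CartesianMonoidalCategory.hom_ext
    · rw [Category.assoc, lift_fst, MonObj.comp_mul, lift_fst, lift_snd_assoc, lift_fst_assoc,
        hkl, mul_inv_cancel_left]
    · rw [Category.assoc, lift_snd, lift_snd_assoc, lift_snd, h]
  · have e₁ : m ≫ fst A (N ⊗ T) = s.fst ≫ fst A T := by rw [← h₁, Category.assoc, whiskerLeft_fst]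
    apply CartesianMonoidalCategory.hom_ext
    · rw [lift_fst, e₁]
    apply CartesianMonoidalCategory.hom_ext
    · rw [lift_snd, lift_fst]
      refine hinj _ _ ?_
      rw [hkl, ← e₁, ← h₂]
      simp only [Category.assoc, lift_fst, MonObj.comp_mul, inv_mul_cancel_left]
    · rw [lift_snd, lift_snd, ← h₁, Category.assoc, Category.assoc, whiskerLeft_snd]

end Groth.Agent.H26Theta
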