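import Groth.Agent.H26Theta.Scalar

/-!
# The value of the commutator of two points of the theta group
-/

set_option autoImplicit false
set_option linter.style.haveILetI false
set_option linter.unusedSectionVars false
set_option backward.isDefEq.respectTransparency false
set_option backward.isDefEq.respectTransparency.types false
universe u

open CategoryTheory CategoryTheory.Limits MonoidalCategory CartesianMonoidalCategory MonObj AlgebraicGeometry
open Opposite TopologicalSpace Groth.Agent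
open Groth.Agent.H25Theta (pb pC pI pT pO tI)

noncomputable section

namespace Groth.Agent.H26Theta

variable {k : Type u} [Field k]

/-- An open subscheme as a scheme over the field. -/
abbrev sub (S : Over (Spec (CommRingCat.of k))) (U : S.left.Opens) : Over (Spec (CommRingCat.of k)) :=
  Over.mk (U.ι ≫ S.hom)

/-- The inclusion of an open subscheme. -/
abbrev incl (S : Over (Spec (CommRingCat.of k))) (U : S.left.Opens) : sub S U ⟶ S := Over.homMk U.ι rfl

/-- The inclusion between open subschemes. -/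
def inclLE (S : Over (Spec (CommRingCat.of k))) {U V : S.left.Opens} (h : V ≤ U) : sub S V ⟶ sub S U :=
  Over.homMk (S.left.homOfLE h) (by simp)

theorem inclLE_incl (S : Over (Spec (CommRingCat.of k))) {U V : S.left.Opens} (h : V ≤ U) :
    inclLE S h ≫ incl S U = incl S V := Over.OverMorphism.ext (by simp [inclLE])

theorem topIso_incl (S : Over (Spec (CommRingCat.of k))) (U : S.left.Opens) (a : Γ(S.left, ⊤)) :
    U.topIso.hom ((incl S U).left.appTop a) = S.left.presheaf.map (homOfLE le_top).op a := by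
  show U.topIso.hom (U.ι.appTop a) = _
  rw [Scheme.Opens.ι_appTop, Scheme.Opens.topIso_hom, ← CommRingCat.comp_apply, ← Functor.map_comp]
  rfl

theorem topIso_inclLE (S : Over (Spec (CommRingCat.of k))) {U V : S.left.Opens} (h : V ≤ U)
    (t : Γ((sub S U).left, ⊤)) :
    V.topIso.hom ((inclLE S h).left.appTop t) = S.left.presheaf.map (homOfLE h).op (U.topIso.hom t) := by
  show V.topIso.hom ((S.left.homOfLE h).appTop t) = _
  rw [Scheme.homOfLE_appTop, Scheme.Opens.topIso_hom, Scheme.Opens.topIso_hom]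
  erw [← CommRingCat.comp_apply, ← CommRingCat.comp_apply]
  erw [← S.left.presheaf.map_comp]
  exact ConcreteCategory.congr_hom (S.left.presheaf.map_comp (eqToHom U.ι_image_top.symm).op (homOfLE h).op) t

/-- Functions are determined by their restrictions to an open cover. -/
theorem eq_of_incl (S : Over (Spec (CommRingCat.of k))) {ι' : Type*} (U : ι' → S.left.Opens) (hU : ∀ x, ∃ i, x ∈ U i)
    {a b : Γ(S.left, ⊤)} (h : ∀ i, (incl S (U i)).left.appTop a = (incl S (U i)).left.appTop b) : a = b := by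
  refine TopCat.Sheaf.eq_of_locally_eq' S.left.sheaf U ⊤ (fun i => homOfLE le_top)
    (fun x _ => Opens.mem_iSup.2 (hU x)) _ _ fun i => ?_
  have := congrArg (U i).topIso.hom (h i)
  rwa [topIso_incl, topIso_incl] at this

variable (A : Over (Spec (CommRingCat.of k))) [GrpObj A] [IsProper A.hom] [GeometricallyIntegral A.hom]
  (L : A.left.Modules)

variable {A L}

theorem exists_baseChange {T T' : Over (Spec (CommRingCat.of k))} (g : T' ⟶ T) {β : ThetaGrp.thetaPts A L T}
    {x : T ⟶ A} (hx : ThetaGrp.IsOverPt β x) :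
    ∃ β' : ThetaGrp.thetaPts A L T', ThetaGrp.IsOverPt β' (g ≫ x) ∧ ThetaGrp.IsBaseChange β' g β := by
  haveI := isIso_fib_bcLift A L g
  haveI : IsIso (fib (ThetaGrp.bcLift A L g ≫ β.1.hom)) := cart_comp _ _ (isIso_fib_bcLift A L g) (isIso_fib β.1)
  refine exists_pt_lift A L (g ≫ x) (ThetaGrp.bcLift A L g ≫ β.1.hom) (ThetaGrp.bcLift A L g) ?_
  show (ThetaGrp.transl A (g ≫ x)).left ≫ (A ◁ g).left = (A ◁ g).left ≫ β.1.hom.base
  rw [hx, ← Over.comp_left, ← Over.comp_left, whiskerLeft_transl]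

theorem isOverPt_one {T : Over (Spec (CommRingCat.of k))} :
    ThetaGrp.IsOverPt (1 : ThetaGrp.thetaPts A L T) (1 : T ⟶ A) := by
  show (1 : Aut (ThetaGrp.thetaObj A L T)).hom.base = _
  rw [ThetaGrp.transl_one]; rfl

/-- `t` is the value of the commutator of `β` and `δ`. -/
def Val {T : Over (Spec (CommRingCat.of k))} (β δ : ThetaGrp.thetaPts A L T) (t : Γ(T.left, ⊤)) : Prop :=
  β.1.hom ≫ δ.1.hom = premul (δ.1.hom ≫ β.1.hom) ((snd A T).left.appTop t)

variable [IsCommMonObj A]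

theorem base_comm {T : Over (Spec (CommRingCat.of k))} {β δ : ThetaGrp.thetaPts A L T} :
    (β.1.hom ≫ δ.1.hom).base = (δ.1.hom ≫ β.1.hom).base := by
  obtain ⟨x, hx⟩ := β.2
  obtain ⟨y, hy⟩ := δ.2
  have h1 := isOverPt_mul hy hx
  have h2 := isOverPt_mul hx hy
  rw [mul_comm] at h2
  exact h1.trans h2.symm

variable (hL : PicF.IsInvertible L)
include hL

theorem exists_val {T : Over (Spec (CommRingCat.of k))} (β δ : ThetaGrp.thetaPts A L T) :
    ∃ t, Val β δ t := by
  haveI : IsIso (fib (δ.1.hom ≫ β.1.hom)) := cart_comp _ _ (isIso_fib δ.1) (isIso_fib β.1)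
  obtain ⟨r, hr⟩ := exists_premul_eq (H11Ample.isInvertible_pullback _ hL) (β.1.hom ≫ δ.1.hom)
    (δ.1.hom ≫ β.1.hom) base_comm
  obtain ⟨t, rfl⟩ := exists_appTop_snd T r
  exact ⟨t, hr⟩

theorem val_unique {T : Over (Spec (CommRingCat.of k))} {β δ : ThetaGrp.thetaPts A L T} {t t' : Γ(T.left, ⊤)}
    (h : Val β δ t) (h' : Val β δ t') : t = t' := by
  haveI : IsIso (fib (δ.1.hom ≫ β.1.hom)) := cart_comp _ _ (isIso_fib δ.1) (isIso_fib β.1)
  exact appTop_snd_injective T
    (premul_injective (H11Ample.isInvertible_pullback _ hL) (δ.1.hom ≫ β.1.hom) (h.symm.trans h'))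

theorem val_one_iff {T : Over (Spec (CommRingCat.of k))} (β δ : ThetaGrp.thetaPts A L T) :
    Val β δ 1 ↔ β * δ = δ * β := by
  unfold Val
  rw [map_one, premul_one]
  exact ⟨fun h => Subtype.ext (Aut.ext h.symm), fun h => (congrArg (fun z => z.1.hom) h).symm⟩

/-- The value does not depend on the lifts. -/
theorem val_congr {T : Over (Spec (CommRingCat.of k))} {β β' δ δ' : ThetaGrp.thetaPts A L T} {x y : T ⟶ A}
    (hβ : ThetaGrp.IsOverPt β x) (hβ' : ThetaGrp.IsOverPt β' x) (hδ : ThetaGrp.IsOverPt δ y)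
    (hδ' : ThetaGrp.IsOverPt δ' y) {t : Γ(T.left, ⊤)} (h : Val β δ t) : Val β' δ' t := by
  have hc : ∀ {β β' : ThetaGrp.thetaPts A L T} {x : T ⟶ A}, ThetaGrp.IsOverPt β x → ThetaGrp.IsOverPt β' x →
      ∃ c, ThetaGrp.IsOverPt c 1 ∧ β' = c * β := fun {β β' x} hβ hβ' => by
    obtain ⟨v, hv⟩ := (β⁻¹).2
    refine ⟨β' * β⁻¹, ?_, (inv_mul_cancel_right β' β).symm⟩
    have h1 := isOverPt_mul hv hβ
    rw [inv_mul_cancel] at h1
    have h2 := isOverPt_mul hβ' hv
    rwa [mul_comm, ← isOverPt_unique isOverPt_one h1] at h2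
  have hnat : ∀ {c : ThetaGrp.thetaPts A L T}, ThetaGrp.IsOverPt c 1 → ∀ β : ThetaGrp.thetaPts A L T,
      c.1.hom ≫ β.1.hom = β.1.hom ≫ c.1.hom := fun hc β =>
    (congrArg (fun z => z.1.hom) (commute_of_isOverPt_one hL hc β)).symm
  obtain ⟨c, hc₁, rfl⟩ := hc hβ hβ'
  obtain ⟨d, hd₁, rfl⟩ := hc hδ hδ'
  unfold Val at h ⊢
  show (β.1.hom ≫ c.1.hom) ≫ δ.1.hom ≫ d.1.hom = premul ((δ.1.hom ≫ d.1.hom) ≫ β.1.hom ≫ c.1.hom) _
  simp only [Category.assoc]
  rw [reassoc_of% (hnat hc₁ δ), reassoc_of% (hnat hd₁ β), reassoc_of% h, hnat hc₁ d, premul_comp,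
    Category.assoc]

theorem val_baseChange {T T' : Over (Spec (CommRingCat.of k))} (g : T' ⟶ T) {β δ : ThetaGrp.thetaPts A L T}
    {β' δ' : ThetaGrp.thetaPts A L T'} (hb : ThetaGrp.IsBaseChange β' g β) (hd : ThetaGrp.IsBaseChange δ' g δ)
    {t : Γ(T.left, ⊤)} (h : Val β δ t) : Val β' δ' (g.left.appTop t) := by
  unfold Val at h ⊢
  unfold ThetaGrp.IsBaseChange at hb hd
  haveI := isIso_fib_bcLift A L g
  refine cart_ext (ThetaGrp.bcLift A L g) base_comm ?_
  rw [premul_comp, Category.assoc, Category.assoc, hb, hd, reassoc_of% hb, h, comp_premul, reassoc_of% hd]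
  congr 1
  rw [← CommRingCat.comp_apply, ← Scheme.Hom.comp_appTop, ← CommRingCat.comp_apply, ← Scheme.Hom.comp_appTop]
  congr 3
  show (A ◁ g).left ≫ (snd A T).left = (snd A T').left ≫ g.left
  rw [← Over.comp_left, ← Over.comp_left, whiskerLeft_snd]

theorem val_baseChange' {T T' : Over (Spec (CommRingCat.of k))} (g : T' ⟶ T) {β δ : ThetaGrp.thetaPts A L T}
    {β' δ' : ThetaGrp.thetaPts A L T'} {x y : T ⟶ A} (hβ : ThetaGrp.IsOverPt β x) (hδ : ThetaGrp.IsOverPt δ y)
    (hβ' : ThetaGrp.IsOverPt β' (g ≫ x)) (hδ' : ThetaGrp.IsOverPt δ' (g ≫ y))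
    {t : Γ(T.left, ⊤)} (h : Val β δ t) : Val β' δ' (g.left.appTop t) := by
  obtain ⟨β'', h1, hb⟩ := exists_baseChange g hβ
  obtain ⟨δ'', h2, hd⟩ := exists_baseChange g hδ
  exact val_congr hL h1 hβ' h2 hδ' (val_baseChange hL g hb hd h)

end Groth.Agent.H26Theta
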