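import Groth.Agent.H26Theta.PullPts
import Groth.Agent.H26Theta.Pairing
import Groth.Agent.H26Theta.Descend
import Groth.Agent.H26Theta.KernelPair
import Groth.Agent.H19Grp.HomFlat

/-!
# Descent of a point of the theta group commuting with the kernel
-/

set_option autoImplicit false
set_option linter.style.haveILetI false
set_option linter.unusedSectionVars false
set_option backward.isDefEq.respectTransparency false
set_option backward.isDefEq.respectTransparency.types false
universe u

open CategoryTheory CategoryTheory.Limits MonoidalCategory CartesianMonoidalCategory MonObj GrpObj AlgebraicGeometry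
open ThetaGrp Groth.Agent
open Groth.Agent.H25Theta (pb)

noncomputable section

namespace Groth.Agent.H26Theta

variable {k : Type u} [Field k] {A B : Over (Spec (CommRingCat.of k))}
  [GrpObj A] [IsCommMonObj A] [IsProper A.hom] [GeometricallyIntegral A.hom]
  [GrpObj B] [IsCommMonObj B] [IsProper B.hom] [GeometricallyIntegral B.hom]
  {f : A ⟶ B} [IsMonHom f] {N : Over (Spec (CommRingCat.of k))} {i : N ⟶ A} {M : B.left.Modules}

set_option maxHeartbeats 1600000 in
/-- A point of the pullback commuting with the points over the kernel descends. -/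
theorem exists_descended_pt (hf : Surjective f.left) (hN : AlgGrp.IsKernel i f) (hM : PicF.IsInvertible M)
    {T₁ : Over (Spec (CommRingCat.of k))} {x : T₁ ⟶ A} {β : thetaPts A (pb f.left M) T₁} (hβ : IsOverPt β x)
    (hperp : ∀ (β' γn : thetaPts A (pb f.left M) (N ⊗ T₁)), IsOverPt β' (snd N T₁ ≫ x) →
      IsOverPt γn (fst N T₁ ≫ i) → β' * γn = γn * β') :
    ∃ δ : thetaPts B M T₁, IsOverPt δ (x ≫ f) := by
  let L := pb f.left M
  have hif : i ≫ f = (1 : N ⟶ B) := hN.w.trans (by rw [Hom.one_def])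
  let T₂ := N ⊗ T₁
  let p : T₂ ⟶ T₁ := snd N T₁
  obtain ⟨γn, hγn, qn⟩ := exists_lift_pt (f := f) (M := M) (x := fst N T₁ ≫ i)
    (δ := (1 : thetaPts B M T₂)) (by rw [Category.assoc, hif, MonObj.comp_one]; exact isOverPt_one)
  obtain ⟨β', hβ', hβbc⟩ := exists_baseChange p hβ
  have hcomm : β' * γn = γn * β' := hperp β' γn hβ' hγn
  have qn' : γn.1.hom ≫ qm f M T₂ = qm f M T₂ := qn.trans (Category.comp_id _)
  have hbq : bcLift A L p ≫ qm f M T₁ = qm f M T₂ ≫ bcLift B M p := bcLift_qm f M p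
  let p₁ := bcLift A L p
  let p₂ := γn.1.hom ≫ bcLift A L p
  haveI : IsIso (fib p₁) := isIso_fib_bcLift A L p
  haveI := isIso_fib β.1
  haveI : Surjective (f ▷ T₁).left :=
    MorphismProperty.of_isPullback (P := @Surjective) (isPullback_whiskerRight f T₁) hf
  haveI : LocallyOfFiniteType A.hom := inferInstance
  haveI : Smooth B.hom := by
    haveI : GrpObj (Over.mk B.hom) := inferInstanceAs (GrpObj B)
    exact smooth_of_grpObj B.hom
  haveI : QuasiCompact f.left := by
    haveI : QuasiCompact (f.left ≫ B.hom) := by rw [Over.w f]; infer_instance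
    exact QuasiCompact.of_comp f.left B.hom
  haveI := hf
  haveI : Flat f.left := H19Grp.flat_of_surjective f
  haveI : Flat (f ▷ T₁).left := MorphismProperty.of_isPullback (P := @Flat) (isPullback_whiskerRight f T₁) ‹_›
  haveI : QuasiCompact (f ▷ T₁).left :=
    MorphismProperty.of_isPullback (P := @QuasiCompact) (isPullback_whiskerRight f T₁) ‹_›
  haveI : Flat (qm f M T₁).base := by rw [qm_base]; infer_instance
  haveI : Surjective (qm f M T₁).base := by rw [qm_base]; infer_instance
  haveI : QuasiCompact (qm f M T₁).base := by rw [qm_base]; infer_instance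
  have hinvB : PicF.IsInvertible (pb (fst B T₁).left M) := H11Ample.isInvertible_pullback _ hM
  have hP : IsPullback p₁.base p₂.base (qm f M T₁).base (qm f M T₁).base := by
    rw [qm_base]
    show IsPullback (A ◁ p).left (γn.1.hom.base ≫ (A ◁ p).left) (f ▷ T₁).left (f ▷ T₁).left
    rw [hγn, ← Over.comp_left]
    exact (isPullback_kernel_pair hN T₁).map (Over.forget _)
  have hq : p₁ ≫ qm f M T₁ = p₂ ≫ qm f M T₁ := by
    simp only [p₁, p₂, Category.assoc]
    rw [hbq, reassoc_of% qn']
  have hcb : β'.1.hom ≫ γn.1.hom = γn.1.hom ≫ β'.1.hom :=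
    (congrArg (fun z : thetaPts A L T₂ => z.1.hom) hcomm).symm
  -- descent of a point commuting with the kernel, applied to the point and to its inverse
  have hdesc : ∀ (g : thetaObj A L T₁ ⟶ thetaObj A L T₁) (g' : thetaObj A L T₂ ⟶ thetaObj A L T₂) (y : T₁ ⟶ A),
      IsIso (fib g) → g.base = (transl A y).left → g' ≫ bcLift A L p = bcLift A L p ≫ g →
      γn.1.hom ≫ g' = g' ≫ γn.1.hom →
      ∃ d : thetaObj B M T₁ ⟶ thetaObj B M T₁, d.base = (transl B (y ≫ f)).left ∧
        qm f M T₁ ≫ d = g ≫ qm f M T₁ := fun g g' y hi hb hbc hc => by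
    haveI := hi
    haveI : IsIso (fib (g ≫ qm f M T₁)) := cart_comp _ _ hi inferInstance
    refine exists_descend (qm f M T₁) (g ≫ qm f M T₁) _ ?_ hinvB p₁ p₂ hP hq ?_
    · show (qm f M T₁).base ≫ (transl B (y ≫ f)).left = g.base ≫ (qm f M T₁).base
      rw [qm_base, hb, ← Over.comp_left, ← Over.comp_left, whiskerRight_transl]
    · simp only [p₁, p₂, Category.assoc]
      rw [← reassoc_of% hbc, reassoc_of% hc, hbq, reassoc_of% qn']
  have hβ'b : β'.1.hom ≫ bcLift A L p = bcLift A L p ≫ β.1.hom := hβbc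
  obtain ⟨d, hdb, hd⟩ := hdesc β.1.hom β'.1.hom x (isIso_fib β.1) hβ hβ'b hcb.symm
  obtain ⟨v, hv⟩ := (β⁻¹).2
  obtain ⟨e, heb, he⟩ := hdesc β.1.inv β'.1.inv v (isIso_fib β.1.symm) hv
    (by rw [Iso.inv_comp_eq, reassoc_of% hβ'b, Iso.hom_inv_id, Category.comp_id])
    (by rw [Iso.comp_inv_eq, Category.assoc, ← hcb, Iso.inv_hom_id_assoc])
  have hvw : v * x = 1 := by
    have h1 := isOverPt_mul hβ (show IsOverPt β⁻¹ v from hv)
    rw [mul_inv_cancel] at h1
    exact isOverPt_unique h1 isOverPt_one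
  have hid : ∀ (a b : thetaObj B M T₁ ⟶ thetaObj B M T₁) (g h : thetaObj A L T₁ ⟶ thetaObj A L T₁) (y z : T₁ ⟶ A),
      a.base = (transl B (y ≫ f)).left → b.base = (transl B (z ≫ f)).left → z * y = 1 →
      qm f M T₁ ≫ a = g ≫ qm f M T₁ → qm f M T₁ ≫ b = h ≫ qm f M T₁ → g ≫ h = 𝟙 _ →
      a ≫ b = 𝟙 _ := fun a b g h y z ha hb hzy hga hgb hgh => by
    refine descend_ext (qm f M T₁) hinvB ?_ ?_
    · show a.base ≫ b.base = 𝟙 (B ⊗ T₁).left
      rw [ha, hb, ← Over.comp_left, ← transl_mul, ← MonObj.mul_comp, mul_comm, hzy, MonObj.one_comp, transl_one]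
      rfl
    · rw [reassoc_of% hga, hgb, ← Category.assoc, hgh, Category.id_comp, Category.comp_id]
  exact ⟨⟨⟨d, e, hid d e _ _ _ _ hdb heb hvw hd he β.1.hom_inv_id,
    hid e d _ _ _ _ heb hdb (by rw [mul_comm]; exact hvw) he hd β.1.inv_hom_id⟩, x ≫ f, hdb⟩, hdb⟩


end Groth.Agent.H26Theta
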