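import Groth.Agent.H26Theta.Cart

/-!
# Homomorphisms into the theta group from families of points
-/

set_option autoImplicit false
set_option linter.style.haveILetI false
set_option backward.isDefEq.respectTransparency false
set_option backward.isDefEq.respectTransparency.types false
universe u

open CategoryTheory CategoryTheory.Limits MonoidalCategory CartesianMonoidalCategory MonObj AlgebraicGeometry
open Groth.Agent

noncomputable section

namespace Groth.Agent.H26Theta

variable {k : Type u} [Field k] {A : Over (Spec (CommRingCat.of k))} [GrpObj A] {L : A.left.Modules}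

/-- A multiplicative family of points, compatible with base change, comes from a homomorphism. -/
theorem exists_hom_of_family {G : Over (Spec (CommRingCat.of k))} [GrpObj G] {u₀ : ThetaGrp.thetaPts A L G}
    (hG : ThetaGrp.IsThetaGrpSch A L G u₀) {N : Over (Spec (CommRingCat.of k))} [GrpObj N]
    (β : ∀ {T : Over (Spec (CommRingCat.of k))}, (T ⟶ N) → ThetaGrp.thetaPts A L T)
    (hmul : ∀ {T : Over (Spec (CommRingCat.of k))} (n n' : T ⟶ N), β n * β n' = β (n * n'))
    (hbc : ∀ {T T' : Over (Spec (CommRingCat.of k))} (g : T' ⟶ T) (n : T ⟶ N),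
      ThetaGrp.IsBaseChange (β (g ≫ n)) g (β n)) :
    ∃ j : N ⟶ G, IsMonHom j ∧ ∀ {T : Over (Spec (CommRingCat.of k))} (n : T ⟶ N) (δ : ThetaGrp.thetaPts A L T),
      ThetaGrp.IsBaseChange δ (n ≫ j) u₀ ↔ δ = β n := by
  obtain ⟨j, hj, -⟩ := hG.univ N (β (𝟙 N))
  have hjn : ∀ {T : Over (Spec (CommRingCat.of k))} (n : T ⟶ N), ThetaGrp.IsBaseChange (β n) (n ≫ j) u₀ :=
    fun n => by
      have h := hbc n (𝟙 N)
      rw [Category.comp_id] at h
      exact isBaseChange_comp h hj
  have huniq : ∀ {T : Over (Spec (CommRingCat.of k))} {δ : ThetaGrp.thetaPts A L T} {g g' : T ⟶ G},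
      ThetaGrp.IsBaseChange δ g u₀ → ThetaGrp.IsBaseChange δ g' u₀ → g = g' :=
    fun h h' => (hG.univ _ _).unique h h'
  have hjmul : ∀ {T : Over (Spec (CommRingCat.of k))} (n n' : T ⟶ N), (n * n') ≫ j = (n ≫ j) * (n' ≫ j) :=
    fun n n' => huniq (hjn _) (hmul n n' ▸ hG.mul _ _ _ _ _ (hjn n) (hjn n'))
  have hone : η[N] ≫ j = η[G] := by
    have h := hjmul (1 : 𝟙_ (Over (Spec (CommRingCat.of k))) ⟶ N) 1
    rw [_root_.mul_one, left_eq_mul] at h
    simpa [Hom.one_def] using h
  refine ⟨j, ⟨hone, ?_⟩, fun n δ => ⟨fun h => (hG.exists_bc _ _).unique h (hjn n), fun h => h ▸ hjn n⟩⟩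
  have h := hjmul (fst N N) (snd N N)
  rw [show μ[N] = fst N N * snd N N by simp [Hom.mul_def], h]
  simp [Hom.mul_def]

end Groth.Agent.H26Theta
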