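import Groth.Agent.H26Theta.DescendPt
import Groth.Agent.H26Theta.Hom
import Groth.Agent.S1130
import Groth.Agent.H23Para.FlatDescent

/-!
# Effective descent of an invertible module with a lift of the kernel to the theta group
-/

set_option autoImplicit false
set_option linter.style.haveILetI false
set_option linter.unusedSectionVars false
set_option backward.isDefEq.respectTransparency false
set_option backward.isDefEq.respectTransparency.types false
universe u

open CategoryTheory CategoryTheory.Limits MonoidalCategory CartesianMonoidalCategory MonObj GrpObj AlgebraicGeometry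
open Pseudofunctor Opposite Groth.Agent
open Groth.Agent.H25Theta (pb)

noncomputable section

namespace Groth.Agent.H26Theta

/-- Precomposition with a morphism of modules. -/
theorem pre_comp {b c : Pairs.{u}} {F : b.base.Modules} (h : F ⟶ b.fiber) (X : b ⟶ c) :
    ({ base := 𝟙 b.base, fiber := h ≫ fib (𝟙 b) } : (⟨b.base, F⟩ : Pairs.{u}) ⟶ b) ≫ X =
      { base := X.base, fiber := h ≫ fib X } := by
  refine CoGrothendieck.Hom.ext _ _ (Category.id_comp _) ?_
  change (h ≫ fib (𝟙 b)) ≫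
    (Scheme.Modules.pullback (𝟙 b : b ⟶ b).base).map (fib X) ≫
      (Scheme.Modules.pullbackComp (𝟙 b : b ⟶ b).base X.base).hom.app c.fiber = _
  rw [Category.assoc, ← comp_fiber']
  obtain ⟨k1, k2⟩ := (CoGrothendieck.Hom.ext_iff _ _).1 (Category.id_comp X)
  exact (congrArg (h ≫ ·) k2).trans (Category.assoc _ _ _).symm

/-- The morphism of pairs over the identity given by a morphism of modules. -/
def pre {Y : Scheme.{u}} {F G : Y.Modules} (h : F ⟶ G) : (⟨Y, F⟩ : Pairs.{u}) ⟶ ⟨Y, G⟩ :=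
  { base := 𝟙 Y, fiber := h ≫ fib (𝟙 (⟨Y, G⟩ : Pairs.{u})) }

theorem pre_base {Y : Scheme.{u}} {F G : Y.Modules} (h : F ⟶ G) : (pre h).base = 𝟙 Y := rfl

theorem pre_comp_mk {Y X : Scheme.{u}} {F G : Y.Modules} {M : X.Modules} (h : F ⟶ G) (v : Y ⟶ X)
    (φ : G ⟶ (Scheme.Modules.pullback v).obj M) :
    pre h ≫ ({ base := v, fiber := φ } : (⟨Y, G⟩ : Pairs.{u}) ⟶ ⟨X, M⟩) =
      ({ base := v, fiber := h ≫ φ } : (⟨Y, F⟩ : Pairs.{u}) ⟶ ⟨X, M⟩) :=
  pre_comp (b := ⟨Y, G⟩) h _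

theorem pre_comp_toPair {Y X : Scheme.{u}} {F : Y.Modules} {M : X.Modules} (v : Y ⟶ X)
    (h : F ⟶ (Scheme.Modules.pullback v).obj M) :
    pre h ≫ toPair v M = ({ base := v, fiber := h } : (⟨Y, F⟩ : Pairs.{u}) ⟶ ⟨X, M⟩) := by
  refine (pre_comp (b := ⟨Y, _⟩) h _).trans ?_
  exact congrArg (fun ψ => ({ base := v, fiber := ψ } : (⟨Y, F⟩ : Pairs.{u}) ⟶ ⟨X, M⟩)) (Category.comp_id h)

/-- Changing the base of a morphism of pairs. -/
theorem eq_mk {a b : Pairs.{u}} (g : a ⟶ b) {v : a.base ⟶ b.base} (h : g.base = v) :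
    g = { base := v, fiber := fib g ≫ (Scheme.Modules.pullbackCongr h).hom.app b.fiber } := by
  subst h
  refine CoGrothendieck.Hom.ext _ _ rfl ?_
  simp [Scheme.Modules.pullbackCongr]

variable {k : Type u} [Field k] {A : Over (Spec (CommRingCat.of k))} [GrpObj A] [IsCommMonObj A]
  {L : A.left.Modules}

/-- The morphism of pairs over the point `b` made from translating the point `a`. -/
theorem exists_edge {Z : Over (Spec (CommRingCat.of k))} (a b : Z ⟶ A) (β : ThetaGrp.thetaPts A L Z)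
    (hβ : ThetaGrp.IsOverPt β (a⁻¹ * b)) :
    ∃ σ : (⟨Z.left, pb a.left L⟩ : Pairs.{u}) ⟶ ThetaGrp.thetaObj A L Z,
      σ.base = (lift a (𝟙 Z)).left ∧ σ ≫ proj A L Z = toPair a.left L ∧
      (σ ≫ β.1.hom).base = (lift b (𝟙 Z)).left := by
  obtain ⟨σ, hσ, hσp⟩ := exists_lift (toPair a.left L) (proj A L Z) (lift a (𝟙 Z)).left
    (by show (lift a (𝟙 Z)).left ≫ (fst A Z).left = a.left
        rw [← Over.comp_left, lift_fst])
  refine ⟨σ, hσ, hσp, ?_⟩
  show σ.base ≫ β.1.hom.base = _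
  rw [hσ, hβ, ← Over.comp_left]
  refine congrArg CommaMorphism.left ?_
  apply CartesianMonoidalCategory.hom_ext
  · rw [Category.assoc, ThetaGrp.transl_fst, MonObj.comp_mul, lift_fst, lift_snd_assoc, Category.id_comp,
      lift_fst, mul_inv_cancel_left]
  · rw [Category.assoc, ThetaGrp.transl_snd, lift_snd, lift_snd]

variable {B : Over (Spec (CommRingCat.of k))} [GrpObj B] [IsCommMonObj B] {f : A ⟶ B} [IsMonHom f]
  {N : Over (Spec (CommRingCat.of k))} [GrpObj N] {i : N ⟶ A} [IsMonHom i]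

set_option maxHeartbeats 1600000 in
/-- A multiplicative family of points over the kernel gives a descended module. -/
theorem exists_descended_module [IsProper A.hom] [GeometricallyIntegral A.hom] [IsProper B.hom]
    [GeometricallyIntegral B.hom] (hf : Surjective f.left) (hN : AlgGrp.IsKernel i f)
    (hL : PicF.IsInvertible L)
    (β : ∀ {T : Over (Spec (CommRingCat.of k))}, (T ⟶ N) → ThetaGrp.thetaPts A L T)
    (hover : ∀ {T : Over (Spec (CommRingCat.of k))} (n : T ⟶ N), ThetaGrp.IsOverPt (β n) (n ≫ i))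
    (hmul : ∀ {T : Over (Spec (CommRingCat.of k))} (n n' : T ⟶ N), β n * β n' = β (n * n'))
    (hbc : ∀ {T T' : Over (Spec (CommRingCat.of k))} (g : T' ⟶ T) (n : T ⟶ N),
      ThetaGrp.IsBaseChange (β (g ≫ n)) g (β n)) :
    ∃ M : B.left.Modules, PicF.IsInvertible M ∧ Nonempty ((Scheme.Modules.pullback f.left).obj M ≅ L) := by
  have hif : i ≫ f = (1 : N ⟶ B) := hN.w.trans (by rw [Hom.one_def])
  have hinj : ∀ {Z : Over (Spec (CommRingCat.of k))} (n n' : Z ⟶ N), n ≫ i = n' ≫ i → n = n' :=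
    fun n n' h => hN.hom_ext h (toUnit_unique _ _)
  have hker : ∀ (Z : Over (Spec (CommRingCat.of k))) (a b : Z ⟶ A), a ≫ f = b ≫ f →
      ∃ n : Z ⟶ N, n ≫ i = a⁻¹ * b := fun Z a b h => by
    refine ⟨hN.lift (a⁻¹ * b) (toUnit Z) ?_, hN.lift_fst _ _ _⟩
    rw [MonObj.mul_comp, GrpObj.inv_comp, h, inv_mul_cancel, Hom.one_def]
  choose nn hnn using hker
  have hone : ∀ {Z : Over (Spec (CommRingCat.of k))}, β (1 : Z ⟶ N) = 1 := fun {Z} => by
    have h := hmul (1 : Z ⟶ N) 1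
    rwa [_root_.mul_one, mul_eq_left] at h
  choose σ hσb hσp hσβ using fun (Z : Over (Spec (CommRingCat.of k))) (a b : Z ⟶ A) (h : a ≫ f = b ≫ f) =>
    exists_edge a b (β (nn Z a b h)) (by rw [← hnn Z a b h]; exact hover _)
  have hσu : ∀ (Z : Over (Spec (CommRingCat.of k))) (a b b' : Z ⟶ A) (h : a ≫ f = b ≫ f) (h' : a ≫ f = b' ≫ f),
      σ Z a b h = σ Z a b' h' := fun Z a b b' h h' => by
    haveI := isIso_fib_toPair (fst A Z).left L
    exact cart_ext (proj A L Z) (by rw [hσb, hσb]) (by rw [hσp, hσp])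
  have hex : ∀ (Z : Over (Spec (CommRingCat.of k))) (a b : Z ⟶ A) (h : a ≫ f = b ≫ f),
      ∃ hm : pb a.left L ⟶ pb b.left L,
        (σ Z a b h ≫ (β (nn Z a b h)).1.hom) ≫ proj A L Z =
          ({ base := b.left, fiber := hm } : (⟨Z.left, pb a.left L⟩ : Pairs.{u}) ⟶ ⟨A.left, L⟩) := fun Z a b h =>
    ⟨_, eq_mk ((σ Z a b h ≫ (β (nn Z a b h)).1.hom) ≫ proj A L Z) (v := b.left) (by
      show (σ Z a b h ≫ (β (nn Z a b h)).1.hom).base ≫ (fst A Z).left = _
      rw [hσβ, ← Over.comp_left, lift_fst])⟩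
  choose hm hhm using hex
  -- naturality
  have hnat : ∀ {Z Z' : Over (Spec (CommRingCat.of k))} (g : Z' ⟶ Z) (a b : Z ⟶ A) (h : a ≫ f = b ≫ f)
      (h' : (g ≫ a) ≫ f = (g ≫ b) ≫ f),
      @CategoryStruct.comp Pairs.{u} _ ⟨Z'.left, pb (g ≫ a).left L⟩ ⟨Z.left, pb a.left L⟩ ⟨A.left, L⟩
          ({ base := g.left, fiber := (Scheme.Modules.pullbackComp g.left a.left).inv.app L } :
            (⟨Z'.left, pb (g ≫ a).left L⟩ : Pairs.{u}) ⟶ ⟨Z.left, pb a.left L⟩)
          ({ base := b.left, fiber := hm Z a b h } : (⟨Z.left, pb a.left L⟩ : Pairs.{u}) ⟶ ⟨A.left, L⟩) =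
        ({ base := (g ≫ b).left, fiber := hm Z' (g ≫ a) (g ≫ b) h' } :
          (⟨Z'.left, pb (g ≫ a).left L⟩ : Pairs.{u}) ⟶ ⟨A.left, L⟩) := by
    intro Z Z' g a b h h'
    let sg : (⟨Z'.left, pb (g ≫ a).left L⟩ : Pairs.{u}) ⟶ ⟨Z.left, pb a.left L⟩ :=
      { base := g.left, fiber := (Scheme.Modules.pullbackComp g.left a.left).inv.app L }
    rw [← hhm, ← hhm]
    have hsg : sg ≫ toPair a.left L = toPair (g ≫ a).left L := by
      refine CoGrothendieck.Hom.ext _ _ rfl ?_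
      change (Scheme.Modules.pullbackComp g.left a.left).inv.app L ≫
        (Scheme.Modules.pullback g.left).map (𝟙 _) ≫ (Scheme.Modules.pullbackComp g.left a.left).hom.app L = _
      erw [CategoryTheory.Functor.map_id, Category.id_comp, Iso.inv_hom_id_app, eqToHom_refl, Category.comp_id]
      rfl
    have hn : nn Z' (g ≫ a) (g ≫ b) h' = g ≫ nn Z a b h := hinj _ _ (by
      rw [hnn, Category.assoc, hnn, MonObj.comp_mul, GrpObj.comp_inv])
    have hσn : σ Z' (g ≫ a) (g ≫ b) h' ≫ ThetaGrp.bcLift A L g = sg ≫ σ Z a b h := by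
      haveI := isIso_fib_toPair (fst A Z).left L
      refine cart_ext (proj A L Z) ?_ ?_
      · show (σ Z' (g ≫ a) (g ≫ b) h').base ≫ (A ◁ g).left = g.left ≫ (σ Z a b h).base
        rw [hσb, hσb, ← Over.comp_left, ← Over.comp_left]
        refine congrArg CommaMorphism.left ?_
        apply CartesianMonoidalCategory.hom_ext <;> simp
      · rw [Category.assoc, Category.assoc, bcLift_proj, hσp, hσp, hsg]
    show sg ≫ (σ Z a b h ≫ (β (nn Z a b h)).1.hom) ≫ proj A L Z =
      (σ Z' (g ≫ a) (g ≫ b) h' ≫ (β (nn Z' (g ≫ a) (g ≫ b) h')).1.hom) ≫ proj A L Z'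
    rw [Category.assoc, Category.assoc, ← reassoc_of% hσn, hn]
    have hb : (β (g ≫ nn Z a b h)).1.hom ≫ ThetaGrp.bcLift A L g =
        ThetaGrp.bcLift A L g ≫ (β (nn Z a b h)).1.hom := hbc g _
    rw [← reassoc_of% hb, bcLift_proj]
  -- composition
  have hcomp : ∀ (Z : Over (Spec (CommRingCat.of k))) (a b c : Z ⟶ A) (h₁ : a ≫ f = b ≫ f) (h₂ : b ≫ f = c ≫ f),
      hm Z a b h₁ ≫ hm Z b c h₂ = hm Z a c (h₁.trans h₂) := by
    intro Z a b c h₁ h₂
    let t := pre (hm Z a b h₁)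
    have e1 : t ≫ toPair b.left L = (σ Z a b h₁ ≫ (β (nn Z a b h₁)).1.hom) ≫ proj A L Z := by
      rw [hhm]
      exact pre_comp_toPair b.left (hm Z a b h₁)
    have e2 : t ≫ σ Z b c h₂ = σ Z a b h₁ ≫ (β (nn Z a b h₁)).1.hom := by
      haveI := isIso_fib_toPair (fst A Z).left L
      refine cart_ext (proj A L Z) ?_ ?_
      · rw [hσβ]
        show (pre (hm Z a b h₁)).base ≫ (σ Z b c h₂).base = _
        rw [pre_base, Category.id_comp, hσb]
      · rw [Category.assoc, hσp, e1]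
    have e3 : t ≫ (σ Z b c h₂ ≫ (β (nn Z b c h₂)).1.hom) ≫ proj A L Z =
        (σ Z a c (h₁.trans h₂) ≫ (β (nn Z a c (h₁.trans h₂))).1.hom) ≫ proj A L Z := by
      rw [Category.assoc, reassoc_of% e2]
      have hn : nn Z a c (h₁.trans h₂) = nn Z b c h₂ * nn Z a b h₁ := hinj _ _ (by
        rw [hnn, MonObj.mul_comp, hnn, hnn, mul_comm (b⁻¹ * c), _root_.mul_assoc, mul_inv_cancel_left])
      rw [hn, ← hmul, hσu Z a c b _ h₁]
      show _ = (σ Z a b h₁ ≫ ((β (nn Z a b h₁)).1.hom ≫ (β (nn Z b c h₂)).1.hom)) ≫ _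
      simp only [Category.assoc]
    rw [hhm, hhm] at e3
    have e4 := (pre_comp_mk (hm Z a b h₁) c.left (hm Z b c h₂)).symm.trans e3
    obtain ⟨k1, k2⟩ := (CoGrothendieck.Hom.ext_iff _ _).1 e4
    simp only [eqToHom_refl, Category.comp_id] at k2
    exact k2
  have hself : ∀ (Z : Over (Spec (CommRingCat.of k))) (a : Z ⟶ A), hm Z a a rfl = 𝟙 _ := fun Z a => by
    have h1 : nn Z a a rfl = 1 := hinj _ _ (by rw [hnn, inv_mul_cancel, MonObj.one_comp])
    have e : (σ Z a a rfl ≫ (β (nn Z a a rfl)).1.hom) ≫ proj A L Z = toPair a.left L := by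
      rw [h1, hone]
      show (σ Z a a rfl ≫ 𝟙 _) ≫ _ = _
      rw [Category.comp_id, hσp]
    rw [hhm] at e
    obtain ⟨k1, k2⟩ := (CoGrothendieck.Hom.ext_iff _ _).1 e
    simp only [eqToHom_refl, Category.comp_id] at k2
    exact k2
  -- the descent datum
  let ov : ∀ {Y : Scheme.{u}} (q : Y ⟶ B.left) (a : Y ⟶ A.left), a ≫ f.left = q →
      (Over.mk (q ≫ B.hom) ⟶ A) := fun q a h => Over.homMk a (by
    show a ≫ A.hom = q ≫ B.hom
    rw [← h, Category.assoc, Over.w f])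
  have hov : ∀ {Y : Scheme.{u}} (q : Y ⟶ B.left) (a b : Y ⟶ A.left) (ha : a ≫ f.left = q) (hb : b ≫ f.left = q),
      ov q a ha ≫ f = ov q b hb ≫ f := fun q a b ha hb => Over.OverMorphism.ext (ha.trans hb.symm)
  let D : Desc.modPF.{u}.DescentData (fun _ : PUnit.{u + 1} => f.left) :=
    { obj := fun _ => L
      hom := fun Y q i₁ i₂ a b ha hb => hm _ (ov q a ha) (ov q b hb) (hov q a b ha hb)
      pullHom_hom := by
        intro Y' Y g q q' hq i₁ i₂ a b ha hb ga gb hga hgb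
        subst hga hgb hq
        let g' : Over.mk ((g ≫ q) ≫ B.hom) ⟶ Over.mk (q ≫ B.hom) := Over.homMk g (by simp)
        have h' : (g' ≫ ov q a ha) ≫ f = (g' ≫ ov q b hb) ≫ f := by
          simp only [Category.assoc, hov q a b ha hb]
        have e := hnat g' (ov q a ha) (ov q b hb) (hov q a b ha hb) h'
        obtain ⟨k1, k2⟩ := (CoGrothendieck.Hom.ext_iff _ _).1 e
        simp only [Pseudofunctor.LocallyDiscreteOpToCat.pullHom, mapComp'_eq_mapComp]
        refine Eq.trans ?_ (k2.trans (Category.comp_id _))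
        rfl
      hom_self := fun Y q i g hg => hself _ (ov q g hg)
      hom_comp := fun Y q i₁ i₂ i₃ a b c ha hb hc => hcomp _ _ _ _ (hov q a b ha hb) (hov q b c hb hc) }
  haveI : LocallyOfFiniteType A.hom := inferInstance
  haveI : Smooth B.hom := by
    haveI : GrpObj (Over.mk B.hom) := inferInstanceAs (GrpObj B)
    exact smooth_of_grpObj B.hom
  haveI : QuasiCompact f.left := by
    haveI : QuasiCompact (f.left ≫ B.hom) := by rw [Over.w f]; infer_instance
    exact QuasiCompact.of_comp f.left B.hom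
  haveI := hf
  haveI : Flat f.left := H19Grp.flat_of_surjective f
  obtain ⟨M, hM, ⟨e⟩⟩ := S1130.result (fun _ : PUnit.{u + 1} => f.left)
    (by rw [Presieve.ofArrows_pUnit]; exact Scheme.Hom.singleton_mem_fpqcPrecoverage f.left) D
    (fun _ => H8Props.FinLocFree.isQCoh_of_isFinLocFree L (H28Pinch.isFinLocFree_of_isInvertible hL))
  let eL : (Scheme.Modules.pullback f.left).obj M ≅ L :=
    { hom := e.hom.hom PUnit.unit
      inv := e.inv.hom PUnit.unit
      hom_inv_id := by rw [← DescentData.comp_hom, e.hom_inv_id, DescentData.id_hom]; rfl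
      inv_hom_id := by rw [← DescentData.comp_hom, e.inv_hom_id, DescentData.id_hom] }
  haveI := hM
  exact ⟨M, H23Para.isInvertible_of_pullback f.left M (Groth.Agent.H11Tilde.isInvertible_of_iso eL.symm hL), ⟨eL⟩⟩

end Groth.Agent.H26Theta
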