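import Groth.Agent.H25AbCube.PoincareSub
import Groth.Prelude.Def_ThetaK

/-!
# Existence of the subscheme fixing a class
-/

set_option autoImplicit false
set_option linter.style.haveILetI false
set_option linter.unusedSectionVars false
set_option backward.isDefEq.respectTransparency false
universe u

open CategoryTheory CategoryTheory.Limits MonoidalCategory CartesianMonoidalCategory MonObj AlgebraicGeometry
open Groth.Agent Groth.Agent.H25Theta Groth.Agent.H25AbCube

noncomputable section

namespace Groth.Agent.H26Theta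

variable {k : Type u} [Field k] {A : Over (Spec (CommRingCat.of k))} [GrpObj A] [IsCommMonObj A] [IsProper A.hom]
  [GeometricallyIntegral A.hom]

theorem whisk {T : Over (Spec (CommRingCat.of k))} (a : T ⟶ A) :
    A ◁ a = lift (fst A T) (snd A T ≫ a) := by
  apply CartesianMonoidalCategory.hom_ext <;> simp

/-- The subscheme `K(L)` exists. -/
theorem exists_isKL (L : A.left.Modules) (hL : PicF.IsInvertible L) :
    ∃ (K : Over (Spec (CommRingCat.of k))) (i : K ⟶ A), ThetaGrp.IsKL A L i := by
  set l := pc L hL with hl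
  obtain ⟨Z, _, j, _, hj, hZ⟩ := exists_orth l (𝟙 A)
  refine ⟨Z, j, hj, fun T a => ?_⟩
  rw [hZ T a]
  have hp : pairing l (𝟙 A) a = ev (theta l) (A ◁ a) := by
    rw [pairing, Category.comp_id, whisk, th_eq]
  have hmu : (A ◁ a) ≫ μ[A] = fst A T * (snd A T ≫ a) := by
    rw [whisk]; rfl
  have key : ∀ (N : T.left.Modules) (hN : PicF.IsInvertible N),
      AgPol.IsLambdaSheaf ((A ◁ a) ≫ μ[A]).left (fst A T).left (snd A T ≫ a).left L
        ((Scheme.Modules.pullback (snd A T).left).obj N) ↔
      pairing l (𝟙 A) a = ev (pc N hN) (snd A T) := fun N hN => by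
    have h1 := H11Ample.isInvertible_pullback (snd A T).left hN
    have h2 := H11Ample.isInvertible_pullback (fst A T).left hL
    have h3 := H11Ample.isInvertible_pullback (snd A T ≫ a).left hL
    have h4 := H11Ample.isInvertible_pullback ((A ◁ a) ≫ μ[A]).left hL
    unfold AgPol.IsLambdaSheaf
    rw [hp, ← pc_eq_iff (H11Ample.isInvertible_tensor (H11Ample.isInvertible_tensor h1 h2) h3) h4,
      pc_tensor (H11Ample.isInvertible_tensor h1 h2) h3, pc_tensor h1 h2, pullP_pc _ L hL, pullP_pc _ L hL,
      pullP_pc _ L hL, pullP_pc _ N hN]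
    show ev (pc N hN) (snd A T) + ev l (fst A T) + ev l (snd A T ≫ a) = ev l ((A ◁ a) ≫ μ[A]) ↔ _
    rw [hmu, whisk, th_eq, th, sub_sub, sub_eq_iff_eq_add, add_assoc, eq_comm]
  constructor
  · rintro ⟨M, hM, h⟩
    exact ⟨pc M hM, (key M hM).1 h⟩
  · rintro ⟨N, hN⟩
    obtain ⟨M, hM, rfl⟩ := exists_rep N
    exact ⟨M, hM, (key M hM).2 hN⟩

end Groth.Agent.H26Theta
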