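import Groth.Prelude.Def_ThetaGrp
import Mathlib.AlgebraicGeometry.Morphisms.Finite
import Mathlib.RingTheory.TensorProduct.IsBaseChangeFree
import Mathlib.LinearAlgebra.Dimension.Free
import Mathlib.AlgebraicGeometry.Properties

/-!
# Coordinates on the product with a finite scheme over a field
-/

set_option autoImplicit false
set_option linter.style.haveILetI false
set_option backward.isDefEq.respectTransparency false
set_option backward.isDefEq.respectTransparency.types false
universe u

open CategoryTheory CategoryTheory.Limits MonoidalCategory CartesianMonoidalCategory AlgebraicGeometry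

noncomputable section

namespace Groth.Agent.H26Theta

variable {k : Type u} [Field k]

/-- The structure map of the functions of a scheme over a field. -/
def cst (T : Over (Spec (CommRingCat.of k))) : k →+* Γ(T.left, ⊤) :=
  ((Scheme.ΓSpecIso (CommRingCat.of k)).inv ≫ T.hom.appTop).hom

theorem cst_appTop {T T' : Over (Spec (CommRingCat.of k))} (g : T' ⟶ T) (c : k) :
    g.left.appTop (cst T c) = cst T' c := by
  show _ = T'.hom.appTop _
  rw [← Over.w g, Scheme.Hom.comp_appTop]
  rfl

/-- Functions on the product with a finite scheme over a field, in coordinates. -/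
theorem exists_coord (N : Over (Spec (CommRingCat.of k))) [IsFinite N.hom] [Nonempty N.left] :
    ∃ (n : ℕ) (b : Fin n → Γ(N.left, ⊤)), 0 < n ∧
      (∀ g : Γ(N.left, ⊤), ∃! c : Fin n → k, g = ∑ j, cst N (c j) * b j) ∧
      ∀ (T : Over (Spec (CommRingCat.of k))) [IsAffine T.left] (G : Γ((N ⊗ T).left, ⊤)),
        ∃! r : Fin n → Γ(T.left, ⊤), G = ∑ j, (snd N T).left.appTop (r j) * (fst N T).left.appTop (b j) := by
  letI : Algebra k Γ(N.left, ⊤) := (cst N).toAlgebra
  haveI : Module.Finite k Γ(N.left, ⊤) := by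
    have h1 : N.hom.appTop.hom.Finite := N.hom.finite_appTop
    have h2 : (cst N).Finite := RingHom.Finite.comp h1
      (RingHom.Finite.of_surjective _ (ConcreteCategory.bijective_of_isIso (Scheme.ΓSpecIso (CommRingCat.of k)).inv).2)
    exact h2
  haveI : Nonempty (⊤ : N.left.Opens) := ⟨⟨Classical.arbitrary _, trivial⟩⟩
  haveI : Nontrivial Γ(N.left, ⊤) := inferInstance
  let b := Module.finBasis k Γ(N.left, ⊤)
  refine ⟨_, b, Module.finrank_pos, fun g => ⟨fun j => b.repr g j, (b.sum_repr g).symm.trans
    (Finset.sum_congr rfl fun j _ => Algebra.smul_def _ _), fun c hc => ?_⟩, fun T _ G => ?_⟩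
  · funext j
    rw [hc, show ∑ j, cst N (c j) * b j = ∑ j, c j • b j from
      Finset.sum_congr rfl fun j _ => (Algebra.smul_def _ _).symm, b.repr_sum_self]
  haveI : IsAffine N.left := isAffine_of_isAffineHom N.hom
  let P := N ⊗ T
  letI : Algebra k Γ(T.left, ⊤) := (cst T).toAlgebra
  letI : Algebra k Γ(P.left, ⊤) := (cst P).toAlgebra
  letI : Algebra Γ(N.left, ⊤) Γ(P.left, ⊤) := ((fst N T).left.appTop).hom.toAlgebra
  letI : Algebra Γ(T.left, ⊤) Γ(P.left, ⊤) := ((snd N T).left.appTop).hom.toAlgebra
  haveI : IsScalarTower k Γ(N.left, ⊤) Γ(P.left, ⊤) :=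
    IsScalarTower.of_algebraMap_eq fun c => (cst_appTop (fst N T) c).symm
  haveI : IsScalarTower k Γ(T.left, ⊤) Γ(P.left, ⊤) :=
    IsScalarTower.of_algebraMap_eq fun c => (cst_appTop (snd N T) c).symm
  have hP : IsPullback (fst N T).left (snd N T).left N.hom T.hom := IsPullback.of_hasPullback N.hom T.hom
  have hpush := isPushout_appTop_of_isPullback hP
  have hpush' : IsPushout (CommRingCat.ofHom (cst N)) (CommRingCat.ofHom (cst T))
      (fst N T).left.appTop (snd N T).left.appTop :=
    hpush.of_iso (Scheme.ΓSpecIso (CommRingCat.of k)) (Iso.refl _) (Iso.refl _) (Iso.refl _)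
      (by simp [cst, CommRingCat.ofHom]) (by simp [cst, CommRingCat.ofHom]) (by simp) (by simp)
  have hA : Algebra.IsPushout k Γ(T.left, ⊤) Γ(N.left, ⊤) Γ(P.left, ⊤) :=
    (CommRingCat.isPushout_iff_isPushout.1 hpush').symm
  have hbc := hA.out
  let B := IsBaseChange.basis b hbc
  have hB : ∀ j, B j = (fst N T).left.appTop (b j) := fun j => by
    simp only [B, IsBaseChange.basis_apply]
    rfl
  have hsum : ∀ r : Fin _ → Γ(T.left, ⊤), ∑ j, r j • B j =
      ∑ j, (snd N T).left.appTop (r j) * (fst N T).left.appTop (b j) := fun r => by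
    refine Finset.sum_congr rfl fun j _ => ?_
    rw [hB, Algebra.smul_def]
    rfl
  refine ⟨fun j => B.repr G j, ?_, fun r hr => ?_⟩
  · exact (B.sum_repr G).symm.trans (hsum _)
  · funext j
    rw [hr, ← hsum r, B.repr_sum_self]

end Groth.Agent.H26Theta
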