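import Groth.Agent.H26Theta.Scalar

/-!
# Points of the theta group of a pullback along a homomorphism
-/

set_option autoImplicit false
set_option linter.style.haveILetI false
set_option linter.unusedSectionVars false
set_option backward.isDefEq.respectTransparency false
set_option backward.isDefEq.respectTransparency.types false
universe u

open CategoryTheory CategoryTheory.Limits MonoidalCategory CartesianMonoidalCategory MonObj AlgebraicGeometry
open Groth.Agent
open Groth.Agent.H25Theta (pb pC pI pT pO tI IsTranslEq)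

noncomputable section

namespace Groth.Agent.H26Theta

variable {k : Type u} [Field k] {A B : Over (Spec (CommRingCat.of k))} [GrpObj A] [GrpObj B]
  (f : A ⟶ B) (M : B.left.Modules)

theorem exists_qm (T : Over (Spec (CommRingCat.of k))) :
    ∃ q : ThetaGrp.thetaObj A (pb f.left M) T ⟶ ThetaGrp.thetaObj B M T,
      q.base = (f ▷ T).left ∧ q ≫ proj B M T = proj A (pb f.left M) T ≫ toPair f.left M :=
  exists_lift (proj A (pb f.left M) T ≫ toPair f.left M) (proj B M T) (f ▷ T).left
    (by show (f ▷ T).left ≫ (fst B T).left = (fst A T).left ≫ f.left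
        rw [← Over.comp_left, ← Over.comp_left, whiskerRight_fst])

/-- The morphism of pairs over `f × T`. -/
def qm (T : Over (Spec (CommRingCat.of k))) : ThetaGrp.thetaObj A (pb f.left M) T ⟶ ThetaGrp.thetaObj B M T :=
  (exists_qm f M T).choose

theorem qm_base (T : Over (Spec (CommRingCat.of k))) : (qm f M T).base = (f ▷ T).left :=
  (exists_qm f M T).choose_spec.1

theorem qm_proj (T : Over (Spec (CommRingCat.of k))) :
    qm f M T ≫ proj B M T = proj A (pb f.left M) T ≫ toPair f.left M :=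
  (exists_qm f M T).choose_spec.2

instance isIso_fib_qm (T : Over (Spec (CommRingCat.of k))) : IsIso (fib (qm f M T)) :=
  cart_of_comp _ (proj B M T)
    (by rw [qm_proj]; exact cart_comp _ _ (isIso_fib_toPair _ _) (isIso_fib_toPair _ _)) (isIso_fib_toPair _ _)

theorem bcLift_qm {T T' : Over (Spec (CommRingCat.of k))} (g : T' ⟶ T) :
    ThetaGrp.bcLift A (pb f.left M) g ≫ qm f M T = qm f M T' ≫ ThetaGrp.bcLift B M g := by
  refine cart_ext (proj B M T) ?_ ?_
  · show (A ◁ g).left ≫ (qm f M T).base = (qm f M T').base ≫ (B ◁ g).left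
    rw [qm_base, qm_base, ← Over.comp_left, ← Over.comp_left, whisker_exchange]
  · rw [Category.assoc, Category.assoc, qm_proj, bcLift_proj, qm_proj, ← Category.assoc, bcLift_proj]

variable [IsMonHom f]

theorem whiskerRight_transl {T : Over (Spec (CommRingCat.of k))} (x : T ⟶ A) :
    f ▷ T ≫ ThetaGrp.transl B (x ≫ f) = ThetaGrp.transl A x ≫ f ▷ T := by
  apply CartesianMonoidalCategory.hom_ext
  · rw [Category.assoc, Category.assoc, ThetaGrp.transl_fst, whiskerRight_fst, MonObj.comp_mul, whiskerRight_fst,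
      whiskerRight_snd_assoc, ← Category.assoc (ThetaGrp.transl A x), ThetaGrp.transl_fst, MonObj.mul_comp,
      Category.assoc]
  · rw [Category.assoc, Category.assoc, ThetaGrp.transl_snd, whiskerRight_snd, ThetaGrp.transl_snd]

variable {f M}

/-- The lift of a point along the homomorphism. -/
theorem exists_lift_pt {T : Over (Spec (CommRingCat.of k))} {x : T ⟶ A} {δ : ThetaGrp.thetaPts B M T}
    (hδ : ThetaGrp.IsOverPt δ (x ≫ f)) : ∃ β : ThetaGrp.thetaPts A (pb f.left M) T,
      ThetaGrp.IsOverPt β x ∧ β.1.hom ≫ qm f M T = qm f M T ≫ δ.1.hom := by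
  haveI : IsIso (fib (qm f M T ≫ δ.1.hom)) := cart_comp _ _ inferInstance (isIso_fib δ.1)
  refine exists_pt_lift A (pb f.left M) x (qm f M T ≫ δ.1.hom) (qm f M T) ?_
  show (ThetaGrp.transl A x).left ≫ (qm f M T).base = (qm f M T).base ≫ δ.1.hom.base
  rw [qm_base, hδ, ← Over.comp_left, ← Over.comp_left, whiskerRight_transl]

theorem isTranslEq_pullback {T : Over (Spec (CommRingCat.of k))} {x : T ⟶ A} {N : T.left.Modules}
    (h : IsTranslEq B M (x ≫ f) N) : IsTranslEq A (pb f.left M) x N := by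
  obtain ⟨e⟩ := h
  let w := f ▷ T
  have e1 : w.left ≫ (fst B T).left = (fst A T).left ≫ f.left := by
    rw [← Over.comp_left, ← Over.comp_left, whiskerRight_fst]
  have e2 : w.left ≫ (snd B T).left = (snd A T).left := by rw [← Over.comp_left, whiskerRight_snd]
  have e3 : w.left ≫ (ThetaGrp.transl B (x ≫ f) ≫ fst B T).left =
      (ThetaGrp.transl A x ≫ fst A T).left ≫ f.left := by
    rw [← Over.comp_left, ← Over.comp_left, ← Category.assoc, whiskerRight_transl, Category.assoc,
      Category.assoc, whiskerRight_fst]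
  exact ⟨tI (pC _ _ rfl M ≪≫ (pC _ _ e1 M).symm) (pC _ _ e2 N).symm ≪≫ (pT _ _ _).symm ≪≫
    (Scheme.Modules.pullback w.left).mapIso e ≪≫ pC _ _ e3 M ≪≫ (pC _ _ rfl M).symm⟩

/-- If some point of the pullback lies over `x` and `x` is translation-invariant up to a twist downstairs, then
a point downstairs lies over the image of `x`. -/
theorem exists_pushed_pt (hM : PicF.IsInvertible M) {T : Over (Spec (CommRingCat.of k))} {x : T ⟶ A}
    {N : T.left.Modules} (hN : IsTranslEq B M (x ≫ f) N) {β : ThetaGrp.thetaPts A (pb f.left M) T}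
    (hβ : ThetaGrp.IsOverPt β x) : ∃ δ : ThetaGrp.thetaPts B M T, ThetaGrp.IsOverPt δ (x ≫ f) := by
  have hL' : PicF.IsInvertible (pb f.left M) := H11Ample.isInvertible_pullback _ hM
  obtain ⟨a⟩ := H25Theta.eq_pullback_of_translEq A _ hL' x N (isTranslEq_pullback hN)
  obtain ⟨b⟩ := H25Theta.eq_pullback_of_translEq A _ hL' x _ ((exists_pt_iff A _ x).1 ⟨β, hβ⟩)
  exact (exists_pt_iff B M _).2 (H25Theta.isTranslEq_congr B M (a ≪≫ b.symm) hN)

theorem exists_one_smul [IsCommMonObj A] {T : Over (Spec (CommRingCat.of k))} {L : A.left.Modules}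
    {β β' : ThetaGrp.thetaPts A L T} {x : T ⟶ A} (h : ThetaGrp.IsOverPt β x) (h' : ThetaGrp.IsOverPt β' x) :
    ∃ c : ThetaGrp.thetaPts A L T, ThetaGrp.IsOverPt c 1 ∧ β' = c * β := by
  obtain ⟨v, hv⟩ := (β⁻¹).2
  refine ⟨β' * β⁻¹, ?_, (inv_mul_cancel_right β' β).symm⟩
  have h1 := isOverPt_mul hv h
  rw [inv_mul_cancel] at h1
  have h2 := isOverPt_mul h' hv
  have hone : ThetaGrp.IsOverPt (1 : ThetaGrp.thetaPts A L T) (1 : T ⟶ A) := by
    show (1 : Aut (ThetaGrp.thetaObj A L T)).hom.base = _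
    rw [ThetaGrp.transl_one]; rfl
  rwa [mul_comm, ← isOverPt_unique hone h1] at h2

/-- Lifts commute exactly as their images do. -/
theorem commute_lifts [IsCommMonObj A] {T : Over (Spec (CommRingCat.of k))} {x y : T ⟶ A}
    {β γ' : ThetaGrp.thetaPts A (pb f.left M) T} {δ δ' : ThetaGrp.thetaPts B M T}
    (hβ : ThetaGrp.IsOverPt β x) (hγ : ThetaGrp.IsOverPt γ' y) (qβ : β.1.hom ≫ qm f M T = qm f M T ≫ δ.1.hom)
    (qγ : γ'.1.hom ≫ qm f M T = qm f M T ≫ δ'.1.hom) (h : δ * δ' = δ' * δ) : β * γ' = γ' * β := by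
  apply Subtype.ext
  apply Aut.ext
  refine cart_ext (qm f M T) ?_ ?_
  · have ha := isOverPt_mul hβ hγ
    have hb := isOverPt_mul hγ hβ
    rw [mul_comm] at hb
    exact ha.trans hb.symm
  · show (γ'.1.hom ≫ β.1.hom) ≫ qm f M T = (β.1.hom ≫ γ'.1.hom) ≫ qm f M T
    rw [Category.assoc, Category.assoc, qβ, qγ, reassoc_of% qγ, reassoc_of% qβ]
    exact congrArg (qm f M T ≫ ·) (congrArg (fun z => z.1.hom) h)

/-- Commutation does not depend on the lifts. -/
theorem commute_congr [IsCommMonObj A] [IsProper A.hom] [GeometricallyIntegral A.hom] {L : A.left.Modules}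
    (hL : PicF.IsInvertible L) {T : Over (Spec (CommRingCat.of k))} {x y : T ⟶ A}
    {β β' γ₁ γ₂ : ThetaGrp.thetaPts A L T} (hβ : ThetaGrp.IsOverPt β x) (hβ' : ThetaGrp.IsOverPt β' x)
    (hγ : ThetaGrp.IsOverPt γ₁ y) (hγ' : ThetaGrp.IsOverPt γ₂ y) (h : β * γ₁ = γ₁ * β) :
    β' * γ₂ = γ₂ * β' := by
  obtain ⟨c, hc, rfl⟩ := exists_one_smul hβ hβ'
  obtain ⟨d, hd, rfl⟩ := exists_one_smul hγ hγ'
  have k₁ : Commute c (d * γ₁) := commute_of_isOverPt_one hL hc _
  have k₂ : Commute β d := (commute_of_isOverPt_one hL hd β).symm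
  exact (k₁.mul_left (k₂.mul_right h)).eq

end Groth.Agent.H26Theta
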