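import Groth.Agent.H26Theta.GluePts
import Groth.Agent.H26Theta.PullPts

/-!
# Points of the theta group over a subgroup as functions
-/

set_option autoImplicit false
set_option linter.style.haveILetI false
set_option linter.unusedSectionVars false
set_option backward.isDefEq.respectTransparency false
set_option backward.isDefEq.respectTransparency.types false
universe u

open CategoryTheory CategoryTheory.Limits MonoidalCategory CartesianMonoidalCategory MonObj AlgebraicGeometry
open Opposite TopologicalSpace Pseudofunctor Groth.Agent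

noncomputable section

namespace Groth.Agent.H26Theta

variable {k : Type u} [Field k] {A : Over (Spec (CommRingCat.of k))} [GrpObj A] {L : A.left.Modules}
  {N : Over (Spec (CommRingCat.of k))} [GrpObj N] {i : N ⟶ A} [IsMonHom i]
  (P₀ : unitPair N.left ⟶ (⟨A.left, L⟩ : Pairs.{u})) (h₀ : P₀.base = i.left)

include h₀ in
theorem exists_frame (T : Over (Spec (CommRingCat.of k))) : ∃ q : unitPair (N ⊗ T).left ⟶ ThetaGrp.thetaObj A L T,
    q.base = (i ▷ T).left ∧ q ≫ proj A L T = unitMap (fst N T).left ≫ P₀ := by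
  refine exists_lift (unitMap (fst N T).left ≫ P₀) (proj A L T) _ ?_
  show (i ▷ T).left ≫ (fst A T).left = (fst N T).left ≫ P₀.base
  rw [h₀, ← Over.comp_left, ← Over.comp_left, whiskerRight_fst]

/-- The frame along the subgroup. -/
def frame (T : Over (Spec (CommRingCat.of k))) : unitPair (N ⊗ T).left ⟶ ThetaGrp.thetaObj A L T :=
  (exists_frame P₀ h₀ T).choose

theorem frame_base (T : Over (Spec (CommRingCat.of k))) : (frame P₀ h₀ T).base = (i ▷ T).left :=
  (exists_frame P₀ h₀ T).choose_spec.1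

theorem frame_proj (T : Over (Spec (CommRingCat.of k))) :
    frame P₀ h₀ T ≫ proj A L T = unitMap (fst N T).left ≫ P₀ :=
  (exists_frame P₀ h₀ T).choose_spec.2

theorem isIso_fib_frame [IsIso (fib P₀)] (T : Over (Spec (CommRingCat.of k))) : IsIso (fib (frame P₀ h₀ T)) :=
  cart_of_comp _ (proj A L T) (by rw [frame_proj]; exact cart_comp _ _ inferInstance inferInstance)
    (isIso_fib_toPair _ _)

theorem unitMap_frame {T T' : Over (Spec (CommRingCat.of k))} (g : T' ⟶ T) :
    unitMap (N ◁ g).left ≫ frame P₀ h₀ T = frame P₀ h₀ T' ≫ ThetaGrp.bcLift A L g := by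
  haveI := isIso_fib_toPair (fst A T).left L
  refine cart_ext (proj A L T) ?_ ?_
  · show (N ◁ g).left ≫ (frame P₀ h₀ T).base = (frame P₀ h₀ T').base ≫ (A ◁ g).left
    rw [frame_base, frame_base, ← Over.comp_left, ← Over.comp_left, whisker_exchange]
  · rw [Category.assoc, Category.assoc, frame_proj, bcLift_proj, frame_proj, ← Category.assoc, unitMap_comp,
      ← Over.comp_left, whiskerLeft_fst]

/-- The function of a point over a translation by a point of the subgroup. -/
def Fn {T : Over (Spec (CommRingCat.of k))} (β : ThetaGrp.thetaPts A L T) (n : T ⟶ N)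
    (f : Γ((N ⊗ T).left, ⊤)) : Prop :=
  frame P₀ h₀ T ≫ β.1.hom = premul (unitMap (ThetaGrp.transl N n).left ≫ frame P₀ h₀ T) f

theorem isIso_fib_translFrame [IsIso (fib P₀)] {T : Over (Spec (CommRingCat.of k))} (n : T ⟶ N) :
    IsIso (fib (unitMap (ThetaGrp.transl N n).left ≫ frame P₀ h₀ T)) :=
  cart_comp _ _ inferInstance (isIso_fib_frame P₀ h₀ T)

theorem exists_fn [IsIso (fib P₀)] {T : Over (Spec (CommRingCat.of k))} {β : ThetaGrp.thetaPts A L T} {n : T ⟶ N}
    (h : ThetaGrp.IsOverPt β (n ≫ i)) : ∃ f, Fn P₀ h₀ β n f := by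
  haveI := isIso_fib_translFrame P₀ h₀ n
  refine exists_premul_eq (a := unitPair (N ⊗ T).left) H11Ample.isInvertible_structureModule _ _ ?_
  show (frame P₀ h₀ T).base ≫ β.1.hom.base = (ThetaGrp.transl N n).left ≫ (frame P₀ h₀ T).base
  rw [frame_base, h, ← Over.comp_left, ← Over.comp_left, whiskerRight_transl]

theorem fn_unique [IsIso (fib P₀)] {T : Over (Spec (CommRingCat.of k))} {β : ThetaGrp.thetaPts A L T} {n : T ⟶ N}
    {f f' : Γ((N ⊗ T).left, ⊤)} (h : Fn P₀ h₀ β n f) (h' : Fn P₀ h₀ β n f') : f = f' := by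
  haveI := isIso_fib_translFrame P₀ h₀ n
  exact premul_injective H11Ample.isInvertible_structureModule _ (h.symm.trans h')

theorem fn_bcPt [IsIso (fib P₀)] {T T' : Over (Spec (CommRingCat.of k))} (g : T' ⟶ T)
    {β : ThetaGrp.thetaPts A L T} {n : T ⟶ N} (hβ : ThetaGrp.IsOverPt β (n ≫ i)) {f : Γ((N ⊗ T).left, ⊤)}
    (h : Fn P₀ h₀ β n f) : Fn P₀ h₀ (bcPt g β) (g ≫ n) ((N ◁ g).left.appTop f) := by
  haveI := isIso_fib_bcLift A L g
  have h1 : (bcPt g β).1.hom ≫ ThetaGrp.bcLift A L g = ThetaGrp.bcLift A L g ≫ β.1.hom := isBaseChange_bcPt g β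
  have hb : (unitMap (ThetaGrp.transl N (g ≫ n)).left ≫ frame P₀ h₀ T') ≫ ThetaGrp.bcLift A L g =
      unitMap (N ◁ g).left ≫ unitMap (ThetaGrp.transl N n).left ≫ frame P₀ h₀ T := by
    rw [Category.assoc, ← unitMap_frame, ← Category.assoc, unitMap_comp, ← Over.comp_left, whiskerLeft_transl,
      Over.comp_left, ← unitMap_comp, Category.assoc]
  refine cart_ext (ThetaGrp.bcLift A L g) ?_ ?_
  · show (frame P₀ h₀ T').base ≫ (bcPt g β).1.hom.base =
      (ThetaGrp.transl N (g ≫ n)).left ≫ (frame P₀ h₀ T').base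
    rw [frame_base, isOverPt_baseChange (isBaseChange_bcPt g β) hβ, ← Over.comp_left, ← Over.comp_left,
      ← Category.assoc, whiskerRight_transl]
  · rw [Category.assoc, h1, ← Category.assoc, ← unitMap_frame, Category.assoc, h, comp_premul, premul_comp, hb]
    rfl

theorem fn_mul [IsIso (fib P₀)] {T : Over (Spec (CommRingCat.of k))} {β₁ β₂ : ThetaGrp.thetaPts A L T}
    {n₁ n₂ : T ⟶ N} {f₁ f₂ : Γ((N ⊗ T).left, ⊤)} (h₁ : Fn P₀ h₀ β₁ n₁ f₁) (h₂ : Fn P₀ h₀ β₂ n₂ f₂) :
    Fn P₀ h₀ (β₁ * β₂) (n₂ * n₁) (f₂ * (ThetaGrp.transl N n₂).left.appTop f₁) := by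
  show frame P₀ h₀ T ≫ β₂.1.hom ≫ β₁.1.hom = _
  rw [← Category.assoc, h₂, premul_comp, Category.assoc, h₁, comp_premul, premul_premul, ← Category.assoc,
    unitMap_comp, ← Over.comp_left, ← ThetaGrp.transl_mul, mul_comm f₂]
  rfl

theorem fn_one {T : Over (Spec (CommRingCat.of k))} : Fn P₀ h₀ (1 : ThetaGrp.thetaPts A L T) (1 : T ⟶ N) 1 := by
  show frame P₀ h₀ T ≫ 𝟙 _ = _
  rw [premul_one, Category.comp_id, ThetaGrp.transl_one]
  haveI := isIso_fib_toPair (fst A T).left L
  refine cart_ext (proj A L T) (Category.id_comp _).symm ?_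
  rw [Category.assoc, frame_proj, ← Category.assoc, unitMap_comp]
  simp

theorem fn_scale {T : Over (Spec (CommRingCat.of k))} {β β' : ThetaGrp.thetaPts A L T} {n : T ⟶ N}
    {f : Γ((N ⊗ T).left, ⊤)} (h : Fn P₀ h₀ β n f) {t : Γ(T.left, ⊤)}
    (ht : β'.1.hom = premul β.1.hom ((snd A T).left.appTop t)) :
    Fn P₀ h₀ β' n (f * (snd N T).left.appTop t) := by
  show frame P₀ h₀ T ≫ β'.1.hom = _
  rw [ht, comp_premul, h, premul_premul, ← CommRingCat.comp_apply, ← Scheme.Hom.comp_appTop, frame_base,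
    ← Over.comp_left, whiskerRight_snd]

variable [IsProper A.hom] [GeometricallyIntegral A.hom]

theorem exists_scale_hom {T : Over (Spec (CommRingCat.of k))} {β : ThetaGrp.thetaPts A L T} {x : T ⟶ A}
    (hx : ThetaGrp.IsOverPt β x) {t s : Γ(T.left, ⊤)} (h : t * s = 1) :
    ∃ β' : ThetaGrp.thetaPts A L T, β'.1.hom = premul β.1.hom ((snd A T).left.appTop t) ∧
      ThetaGrp.IsOverPt β' x := by
  let g := premul β.1.hom ((snd A T).left.appTop t)
  haveI : IsIso g.base := by
    show IsIso β.1.hom.base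
    rw [hx]
    exact isIso_transl_left A x
  haveI := isIso_fib β.1
  haveI : IsIso (fib g) := isIso_fib_premul β.1.hom (r := (snd A T).left.appTop t) (s := (snd A T).left.appTop s)
    (by rw [← map_mul, h, map_one])
  haveI := isIso_of_components g
  exact ⟨⟨asIso g, x, hx⟩, rfl, hx⟩

end Groth.Agent.H26Theta
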