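import Mathlib.AlgebraicGeometry.Morphisms.FlatRank
import Mathlib.RingTheory.LocalRing.Module
import Mathlib.RingTheory.Artinian.Module
import Mathlib.RingTheory.Spectrum.Prime.FreeLocus
import Mathlib.LinearAlgebra.Dimension.Free

/-!
# Multiplicativity of the rank over a finite scheme over a field
-/

set_option autoImplicit false
set_option linter.style.haveILetI false
set_option backward.isDefEq.respectTransparency false
set_option backward.isDefEq.respectTransparency.types false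
universe u

open CategoryTheory CategoryTheory.Limits AlgebraicGeometry
open scoped TensorProduct

noncomputable section

namespace Groth.Agent.H26Theta

theorem free_of_rankAtStalk_eq {R M : Type u} [CommRing R] [IsArtinianRing R] [AddCommGroup M] [Module R M]
    [Module.Finite R M] [Module.Flat R M] (d : ℕ) (h : ∀ p, Module.rankAtStalk (R := R) M p = d) :
    Module.Free R M := by
  refine Module.free_of_flat_of_finrank_eq _ _ d fun P => ?_
  letI : Field (R ⧸ P.1) := Ideal.Quotient.field P.1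
  have h1 := Module.rankAtStalk_baseChange (R := R) (M := M) (S := R ⧸ P.1) (⊥ : PrimeSpectrum (R ⧸ P.1))
  rw [h, Module.rankAtStalk_eq_finrank_of_free] at h1
  exact h1

theorem finrank_comp_field {k : Type u} [Field k] {X Y : Scheme.{u}} (p : X ⟶ Y) (g : Y ⟶ Spec (CommRingCat.of k))
    [IsFinite p] [Flat p] [IsFinite g] (d : ℕ) (hd : ∀ y, p.finrank y = d) (s : Spec (CommRingCat.of k)) :
    (p ≫ g).finrank s = d * g.finrank s := by
  haveI : IsAffine Y := isAffine_of_isAffineHom g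
  haveI : IsAffine X := isAffine_of_isAffineHom p
  let φ := p.appTop
  let ψ := (Scheme.ΓSpecIso (CommRingCat.of k)).inv ≫ g.appTop
  have hψ : Y.isoSpec.inv ≫ g = Spec.map ψ := by
    rw [← Scheme.isoSpec_inv_naturality, Spec.map_comp]
    congr 1
    rw [← cancel_epi (Spec (CommRingCat.of k)).isoSpec.hom, Iso.hom_inv_id, Scheme.isoSpec, asIso_hom,
      toSpecΓ_SpecMap_ΓSpecIso_inv]
  have hφ : X.isoSpec.inv ≫ p ≫ Y.isoSpec.hom = Spec.map φ := by
    rw [← Category.assoc, ← Scheme.isoSpec_inv_naturality, Category.assoc, Iso.inv_hom_id, Category.comp_id]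
  haveI : IsFinite (Spec.map φ) := hφ ▸ inferInstance
  haveI : Flat (Spec.map φ) := hφ ▸ inferInstance
  haveI : IsFinite (Spec.map ψ) := hψ ▸ inferInstance
  algebraize [φ.hom, ψ.hom, (ψ ≫ φ).hom]
  haveI : Module.Finite Γ(Y, ⊤) Γ(X, ⊤) := (IsFinite.SpecMap_iff φ).1 ‹_›
  haveI : Module.Flat Γ(Y, ⊤) Γ(X, ⊤) := (Flat.SpecMap_iff (f := φ)).1 ‹_›
  haveI : Module.Finite k Γ(Y, ⊤) := (IsFinite.SpecMap_iff ψ).1 ‹_›
  haveI : IsArtinianRing Γ(Y, ⊤) := IsArtinianRing.of_finite k Γ(Y, ⊤)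
  have hst : IsScalarTower k Γ(Y, ⊤) Γ(X, ⊤) := IsScalarTower.of_algebraMap_eq fun _ => rfl
  haveI : Module.Finite k Γ(X, ⊤) := Module.Finite.trans Γ(Y, ⊤) Γ(X, ⊤)
  have hrk : ∀ q, Module.rankAtStalk (R := Γ(Y, ⊤)) Γ(X, ⊤) q = d := fun q => by
    have h1 : Scheme.Hom.finrank (Spec.map φ) q = d := by
      rw [← hφ, Scheme.Hom.finrank_comp_left_of_isIso,
        Scheme.Hom.finrank_of_isPullback (fst := 𝟙 X) (snd := p ≫ Y.isoSpec.hom) (f := p) (g := Y.isoSpec.inv)
          (IsPullback.of_horiz_isIso ⟨by simp⟩) q, hd]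
    rwa [show φ = CommRingCat.ofHom (algebraMap Γ(Y, ⊤) Γ(X, ⊤)) from rfl,
      Scheme.Hom.finrank_SpecMap_algebraMap] at h1
  haveI := free_of_rankAtStalk_eq d hrk
  have hkY : Scheme.Hom.finrank g s = Module.finrank k Γ(Y, ⊤) := by
    rw [show g = Y.isoSpec.hom ≫ Spec.map ψ by rw [← hψ, Iso.hom_inv_id_assoc], Scheme.Hom.finrank_comp_left_of_isIso,
      show ψ = CommRingCat.ofHom (algebraMap k Γ(Y, ⊤)) from rfl, Scheme.Hom.finrank_SpecMap_algebraMap,
      Module.rankAtStalk_eq_finrank_of_free]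
    rfl
  have hkX : Scheme.Hom.finrank (p ≫ g) s = Module.finrank k Γ(X, ⊤) := by
    haveI : IsFinite (Spec.map (ψ ≫ φ)) := by rw [Spec.map_comp]; infer_instance
    haveI : Flat (Spec.map (ψ ≫ φ)) := by
      rw [Flat.SpecMap_iff]
      exact RingHom.flat_algebraMap_iff.2 (inferInstanceAs (Module.Flat k Γ(X, ⊤)))
    rw [show p ≫ g = X.isoSpec.hom ≫ Spec.map (ψ ≫ φ) by
        rw [Spec.map_comp, ← hψ, ← hφ]; simp, Scheme.Hom.finrank_comp_left_of_isIso,
      show ψ ≫ φ = CommRingCat.ofHom (algebraMap k Γ(X, ⊤)) from rfl, Scheme.Hom.finrank_SpecMap_algebraMap,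
      Module.rankAtStalk_eq_finrank_of_free]
    rfl
  rcases subsingleton_or_nontrivial Γ(Y, ⊤) with h | h
  · haveI : Subsingleton Γ(X, ⊤) := Module.subsingleton Γ(Y, ⊤) _
    rw [hkX, hkY, Module.finrank_zero_of_subsingleton, Module.finrank_zero_of_subsingleton, mul_zero]
  · have hd' : Module.finrank Γ(Y, ⊤) Γ(X, ⊤) = d := by
      obtain ⟨q⟩ := (inferInstance : Nonempty (PrimeSpectrum Γ(Y, ⊤)))
      rw [← hrk q, Module.rankAtStalk_eq_finrank_of_free]
      rfl
    rw [hkX, hkY, ← Module.finrank_mul_finrank k Γ(Y, ⊤) Γ(X, ⊤), hd', mul_comm]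

end Groth.Agent.H26Theta
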