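import Groth.Agent.H26Theta.FinFrame
import Groth.Agent.H26Theta.FinCoord
import Groth.Agent.H26Base.Finite
import Mathlib.AlgebraicGeometry.Morphisms.QuasiFinite
import Mathlib.LinearAlgebra.Eigenspace.Triangularizable
import Mathlib.LinearAlgebra.Matrix.ToLin

/-!
# Splitting the theta group over a finite isotropic subgroup
-/

set_option autoImplicit false
set_option linter.style.haveILetI false
set_option linter.unusedSectionVars false
set_option backward.isDefEq.respectTransparency false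
set_option backward.isDefEq.respectTransparency.types false
universe u

open CategoryTheory CategoryTheory.Limits MonoidalCategory CartesianMonoidalCategory MonObj AlgebraicGeometry
open Opposite TopologicalSpace Pseudofunctor Groth.Agent
open Groth.Agent.H11Tilde (homOfGlobal IsGen)
open Groth.Agent.H13Desc.EtSh (Inv)
open Groth.Agent.H25Theta (pb IsTranslEq mumford_iff)

noncomputable section

namespace Groth.Agent.H26Theta

theorem exists_common_eigvec {k : Type u} [Field k] [IsAlgClosed k] {V : Type*} [AddCommGroup V]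
    [Module k V] [FiniteDimensional k V] [Nontrivial V] {J : Type*} (f : J → Module.End k V)
    (hf : ∀ i j, Commute (f i) (f j)) : ∃ v : V, v ≠ 0 ∧ ∀ i, ∃ c : k, f i v = c • v := by
  classical
  have hex : ∃ n, ∃ W : Submodule k V, W ≠ ⊥ ∧ (∀ i, ∀ x ∈ W, f i x ∈ W) ∧ Module.finrank k W = n :=
    ⟨_, ⊤, top_ne_bot, fun _ _ _ => Submodule.mem_top, rfl⟩
  obtain ⟨W, hW0, hWs, hWn⟩ := Nat.find_spec hex
  obtain ⟨v, hv, hv0⟩ := Submodule.exists_mem_ne_zero_of_ne_bot hW0
  haveI : Nontrivial W := Submodule.nontrivial_iff_ne_bot.2 hW0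
  refine ⟨v, hv0, fun i => ?_⟩
  obtain ⟨c, hc⟩ := Module.End.exists_eigenvalue ((f i).restrict (hWs i))
  obtain ⟨x, hx⟩ := hc.exists_hasEigenvector
  let W' : Submodule k V := W ⊓ (f i).eigenspace c
  have hne : W' ≠ ⊥ := (Submodule.ne_bot_iff _).2 ⟨x, ⟨x.2, Module.End.mem_eigenspace_iff.2
    (congrArg Subtype.val hx.apply_eq_smul)⟩, fun h => hx.2 (Subtype.ext h)⟩
  have hst : ∀ j, ∀ y ∈ W', f j y ∈ W' := fun j y hy => ⟨hWs j y hy.1, Module.End.mem_eigenspace_iff.2 (by
    rw [← Module.End.mul_apply, (hf i j).eq, Module.End.mul_apply, Module.End.mem_eigenspace_iff.1 hy.2, map_smul])⟩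
  have hle : Module.finrank k W ≤ Module.finrank k W' := hWn.le.trans (Nat.find_min' hex ⟨W', hne, hst, rfl⟩)
  have hmem : v ∈ W' := (Submodule.eq_of_le_of_finrank_le (show W' ≤ W from inf_le_left) hle).ge hv
  exact ⟨c, Module.End.mem_eigenspace_iff.1 hmem.2⟩

variable {k : Type u} [Field k] {A : Over (Spec (CommRingCat.of k))} [GrpObj A] {L : A.left.Modules}
  {N : Over (Spec (CommRingCat.of k))} [GrpObj N]

/-- An invertible module has a frame along a finite subscheme. -/
theorem exists_finite_frame (hL : PicF.IsInvertible L) (i : N ⟶ A) [IsFinite N.hom] :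
    ∃ P : unitPair N.left ⟶ (⟨A.left, L⟩ : Pairs.{u}), P.base = i.left ∧ IsIso (fib P) := by
  haveI : IsAffine N.left := isAffine_of_isAffineHom N.hom
  have hM := H11Ample.isInvertible_pullback i.left hL
  haveI : Subsingleton ↥(Spec (CommRingCat.of k)) := inferInstanceAs (Subsingleton (PrimeSpectrum k))
  have huniv : (Set.univ : Set N.left).Finite := by
    refine (N.hom.finite_preimage_singleton (IsLocalRing.closedPoint k)).subset fun z _ => ?_
    exact Set.mem_singleton_iff.2 (Subsingleton.elim _ _)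
  obtain ⟨s, hs⟩ := H26Base.exists_gen_of_local hM huniv fun x V hx => H26Base.exists_gen_le_of_isAffine hM x V hx
  refine ⟨arr i.left s, rfl, H11Tilde.isIso_homOfGlobal _ _ fun W => ?_⟩
  have h := (H11Ample.isGen_gen (L := Inv L i.left) s).bijective (W := W) fun z _ => hs (Set.mem_univ z)
  rwa [H10Coh.mres_mres] at h

variable {m : ℕ} (b : Fin m → Γ(N.left, ⊤))

/-- A function given by coordinates. -/
def co (T : Over (Spec (CommRingCat.of k))) (r : Fin m → Γ(T.left, ⊤)) : Γ((N ⊗ T).left, ⊤) :=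
  ∑ j, (snd N T).left.appTop (r j) * (fst N T).left.appTop (b j)

theorem appTop_comp_apply {X Y Z : Scheme.{u}} (f : X ⟶ Y) (g : Y ⟶ Z) (a : Γ(Z, ⊤)) :
    f.appTop (g.appTop a) = (f ≫ g).appTop a := by
  rw [Scheme.Hom.comp_appTop]; rfl

theorem co_map {T T' : Over (Spec (CommRingCat.of k))} (g : T' ⟶ T) (r : Fin m → Γ(T.left, ⊤)) :
    (N ◁ g).left.appTop (co b T r) = co b T' (fun j => g.left.appTop (r j)) := by
  simp only [co, map_sum, map_mul, appTop_comp_apply, ← Over.comp_left, whiskerLeft_snd, whiskerLeft_fst]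

/-- The matrix of the operator of a function and a translation. -/
def Mat {T : Over (Spec (CommRingCat.of k))} (n : T ⟶ N) (f : Γ((N ⊗ T).left, ⊤))
    (M : Matrix (Fin m) (Fin m) Γ(T.left, ⊤)) : Prop :=
  ∀ j, f * (ThetaGrp.transl N n).left.appTop ((fst N T).left.appTop (b j)) = co b T (fun i => M i j)

theorem transl_co {T : Over (Spec (CommRingCat.of k))} (n : T ⟶ N) (r : Fin m → Γ(T.left, ⊤)) :
    (ThetaGrp.transl N n).left.appTop (co b T r) =
      ∑ j, (snd N T).left.appTop (r j) * (ThetaGrp.transl N n).left.appTop ((fst N T).left.appTop (b j)) := by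
  simp only [co, map_sum, map_mul]
  refine Finset.sum_congr rfl fun j _ => ?_
  rw [appTop_comp_apply (ThetaGrp.transl N n).left (snd N T).left, ← Over.comp_left, ThetaGrp.transl_snd]

theorem Mat.apply_co {T : Over (Spec (CommRingCat.of k))} {n : T ⟶ N} {f : Γ((N ⊗ T).left, ⊤)}
    {M : Matrix (Fin m) (Fin m) Γ(T.left, ⊤)} (h : Mat b n f M) (r : Fin m → Γ(T.left, ⊤)) :
    f * (ThetaGrp.transl N n).left.appTop (co b T r) = co b T (M.mulVec r) := by
  rw [transl_co, Finset.mul_sum]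
  simp only [mul_left_comm f, h _, co, Finset.mul_sum, Matrix.mulVec, dotProduct, map_sum, map_mul, Finset.sum_mul]
  rw [Finset.sum_comm]
  exact Finset.sum_congr rfl fun _ _ => Finset.sum_congr rfl fun _ _ => by ring

theorem Mat.map {T T' : Over (Spec (CommRingCat.of k))} (g : T' ⟶ T) {n : T ⟶ N} {f : Γ((N ⊗ T).left, ⊤)}
    {M : Matrix (Fin m) (Fin m) Γ(T.left, ⊤)} (h : Mat b n f M) :
    Mat b (g ≫ n) ((N ◁ g).left.appTop f) (M.map g.left.appTop) := fun j => by
  have e := congrArg (N ◁ g).left.appTop (h j)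
  rw [map_mul, co_map] at e
  simp only [appTop_comp_apply, ← Over.comp_left] at e ⊢
  rw [← Category.assoc, ← whiskerLeft_transl] at e
  simp only [Category.assoc, whiskerLeft_fst] at e
  exact e

theorem Mat.mul {T : Over (Spec (CommRingCat.of k))} {n₁ n₂ : T ⟶ N} {f₁ f₂ : Γ((N ⊗ T).left, ⊤)}
    {M₁ M₂ : Matrix (Fin m) (Fin m) Γ(T.left, ⊤)} (h₁ : Mat b n₁ f₁ M₁) (h₂ : Mat b n₂ f₂ M₂) :
    Mat b (n₂ * n₁) (f₂ * (ThetaGrp.transl N n₂).left.appTop f₁) (M₂ * M₁) := fun j => by
  rw [ThetaGrp.transl_mul, Over.comp_left, ← appTop_comp_apply, _root_.mul_assoc, ← map_mul, h₁ j, h₂.apply_co]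
  rfl

theorem mat_one {T : Over (Spec (CommRingCat.of k))} : Mat b (1 : T ⟶ N) 1 1 := fun j => by
  rw [ThetaGrp.transl_one, _root_.one_mul, Over.id_left, Scheme.Hom.id_appTop]
  rw [co, Finset.sum_eq_single j (fun x _ hx => by rw [Matrix.one_apply_ne hx, map_zero, MulZeroClass.zero_mul])
    (fun h => absurd (Finset.mem_univ j) h), Matrix.one_apply_eq, map_one, _root_.one_mul]
  rfl

theorem Mat.scale {T : Over (Spec (CommRingCat.of k))} {n : T ⟶ N} {f : Γ((N ⊗ T).left, ⊤)}
    {M : Matrix (Fin m) (Fin m) Γ(T.left, ⊤)} (h : Mat b n f M) (t : Γ(T.left, ⊤)) :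
    Mat b n (f * (snd N T).left.appTop t) (t • M) := fun j => by
  rw [mul_right_comm, h j, co, Finset.sum_mul]
  simp only [co, Matrix.smul_apply, smul_eq_mul, map_mul]
  exact Finset.sum_congr rfl fun _ _ => by ring

variable (hb : ∀ (T : Over (Spec (CommRingCat.of k))) [IsAffine T.left] (G : Γ((N ⊗ T).left, ⊤)),
  ∃! r : Fin m → Γ(T.left, ⊤), G = co b T r)

include hb in
theorem co_injective {T : Over (Spec (CommRingCat.of k))} [IsAffine T.left] {r r' : Fin m → Γ(T.left, ⊤)}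
    (h : co b T r = co b T r') : r = r' :=
  (hb T _).unique rfl h

include hb in
theorem exists_mat {T : Over (Spec (CommRingCat.of k))} [IsAffine T.left] (n : T ⟶ N) (f : Γ((N ⊗ T).left, ⊤)) :
    ∃ M, Mat b n f M := by
  choose r hr _ using fun j => hb T (f * (ThetaGrp.transl N n).left.appTop ((fst N T).left.appTop (b j)))
  exact ⟨fun i j => r j i, hr⟩

include hb in
theorem Mat.unique {T : Over (Spec (CommRingCat.of k))} [IsAffine T.left] {n : T ⟶ N} {f : Γ((N ⊗ T).left, ⊤)}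
    {M M' : Matrix (Fin m) (Fin m) Γ(T.left, ⊤)} (h : Mat b n f M) (h' : Mat b n f M') : M = M' :=
  funext fun i => funext fun j => congrFun (co_injective b hb ((h j).symm.trans (h' j))) i

theorem isOverPt_inv {T : Over (Spec (CommRingCat.of k))} {β : ThetaGrp.thetaPts A L T} {x : T ⟶ A}
    (h : ThetaGrp.IsOverPt β x) : ThetaGrp.IsOverPt β⁻¹ x⁻¹ := by
  obtain ⟨v, hv⟩ := (β⁻¹).2
  have h1 := isOverPt_mul hv h
  rw [inv_mul_cancel] at h1
  have hone : ThetaGrp.IsOverPt (1 : ThetaGrp.thetaPts A L T) (1 : T ⟶ A) := by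
    show (1 : Aut (ThetaGrp.thetaObj A L T)).hom.base = _
    rw [ThetaGrp.transl_one]; rfl
  rw [← eq_inv_of_mul_eq_one_right (isOverPt_unique hone h1).symm]
  exact hv

variable [IsAlgClosed k] [IsCommMonObj A] [IsProper A.hom] [GeometricallyIntegral A.hom]

set_option maxHeartbeats 3200000 in
/-- A finite isotropic subgroup of `K(L)` lifts to the theta group. -/
theorem exists_family (hL : PicF.IsInvertible L) (i : N ⟶ A) [IsMonHom i] [Mono i] [IsFinite N.hom]
    (hK : ThetaGrp.IsMumfordTriv A L i) (hiso : ThetaGrp.IsIsotropic L i) :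
    ∃ β : ∀ {T : Over (Spec (CommRingCat.of k))}, (T ⟶ N) → ThetaGrp.thetaPts A L T,
      (∀ {T : Over (Spec (CommRingCat.of k))} (n : T ⟶ N), ThetaGrp.IsOverPt (β n) (n ≫ i)) ∧
      (∀ {T : Over (Spec (CommRingCat.of k))} (n n' : T ⟶ N), β n * β n' = β (n * n')) ∧
      ∀ {T T' : Over (Spec (CommRingCat.of k))} (g : T' ⟶ T) (n : T ⟶ N),
        ThetaGrp.IsBaseChange (β (g ≫ n)) g (β n) := by
  obtain ⟨P₀, h₀, hc₀⟩ := exists_finite_frame hL i
  haveI := hc₀
  haveI : Nonempty N.left := ⟨(η[N]).left (IsLocalRing.closedPoint k)⟩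
  obtain ⟨m, b, hm, hbk, hb⟩ := exists_coord N
  haveI : IsAffine N.left := isAffine_of_isAffineHom N.hom
  haveI : IsAffine (N ⊗ N).left := inferInstanceAs (IsAffine (pullback N.hom N.hom))
  -- a point over the universal point
  obtain ⟨M, -, hMe⟩ := (mumford_iff A L hL i).1 hK
  obtain ⟨a⟩ := H25Theta.eq_pullback_of_translEq A L hL i M hMe
  let φ : Coh.structureModule N.left ≅ pb i.left L :=
    @asIso _ _ _ _ (fib P₀) hc₀ ≪≫ (Scheme.Modules.pullbackCongr h₀).app L
  obtain ⟨β₀, hβ₀⟩ := (exists_pt_iff A L i).2 (H25Theta.isTranslEq_congr A L (a ≪≫ φ.symm) hMe)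
  have hβ₀' : ThetaGrp.IsOverPt β₀ (𝟙 N ≫ i) := by rwa [Category.id_comp]
  obtain ⟨f₀, hf₀⟩ := exists_fn P₀ h₀ hβ₀'
  obtain ⟨M₀, hM₀⟩ := exists_mat b hb (𝟙 N) f₀
  -- the inverse
  have hβi : ThetaGrp.IsOverPt β₀⁻¹ ((𝟙 N)⁻¹ ≫ i) := by
    rw [GrpObj.inv_comp, Category.id_comp]; exact isOverPt_inv hβ₀
  obtain ⟨f₁, hf₁⟩ := exists_fn P₀ h₀ hβi
  obtain ⟨M₁, hM₁⟩ := exists_mat b hb (𝟙 N)⁻¹ f₁
  have hinv : M₁ * M₀ = 1 := by
    have h2 := fn_mul P₀ h₀ hf₀ hf₁
    have h3 := hM₀.mul b hM₁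
    rw [mul_inv_cancel, inv_mul_cancel] at h2
    rw [inv_mul_cancel, fn_unique P₀ h₀ h2 (fn_one P₀ h₀)] at h3
    exact h3.unique b hb (mat_one b)
  -- the constant matrices commute
  choose C hC _ using fun p q => hbk (M₀ p q)
  let Cl : Fin m → Matrix (Fin m) (Fin m) k := fun l p q => C p q l
  have hbcN : ∀ (p : N ⊗ N ⟶ N), ThetaGrp.IsOverPt (bcPt p β₀) (p ≫ i) :=
    fun p => isOverPt_baseChange (isBaseChange_bcPt p β₀) hβ₀
  have hF : ∀ (p : N ⊗ N ⟶ N), Fn P₀ h₀ (bcPt p β₀) p ((N ◁ p).left.appTop f₀) ∧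
      Mat b p ((N ◁ p).left.appTop f₀) (M₀.map p.left.appTop) := fun p => by
    have h1 := fn_bcPt P₀ h₀ p hβ₀' hf₀
    have h2 := hM₀.map b p
    rw [Category.comp_id] at h1 h2
    exact ⟨h1, h2⟩
  have hMM : M₀.map (fst N N).left.appTop * M₀.map (snd N N).left.appTop =
      M₀.map (snd N N).left.appTop * M₀.map (fst N N).left.appTop := by
    have hc : bcPt (fst N N) β₀ * bcPt (snd N N) β₀ = bcPt (snd N N) β₀ * bcPt (fst N N) β₀ :=
      hiso _ _ _ _ _ (hbcN _) (hbcN _)
    have e1 := fn_mul P₀ h₀ (hF (fst N N)).1 (hF (snd N N)).1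
    have e2 := fn_mul P₀ h₀ (hF (snd N N)).1 (hF (fst N N)).1
    have g1 := (hF (fst N N)).2.mul b (hF (snd N N)).2
    have g2 := (hF (snd N N)).2.mul b (hF (fst N N)).2
    have hn : snd N N * fst N N = fst N N * snd N N := by
      rw [← cancel_mono i, MonObj.mul_comp, MonObj.mul_comp, mul_comm]
    rw [hc, hn] at e1
    rw [hn, fn_unique P₀ h₀ e1 e2] at g1
    exact (g1.unique b hb g2).symm
  have hcomm : ∀ l l', Cl l * Cl l' = Cl l' * Cl l := by
    intro l l'
    ext p q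
    have e := congrFun (congrFun hMM p) q
    simp only [Matrix.mul_apply, Matrix.map_apply] at e
    have key : ∀ D : Fin m → Fin m → k,
        ∑ l, ∑ l', cst (N ⊗ N) (D l l') * ((fst N N).left.appTop (b l) * (snd N N).left.appTop (b l')) =
          co b N (fun l => ∑ l', cst N (D l l') * b l') := fun D => by
      simp only [co, map_sum, map_mul, cst_appTop, Finset.sum_mul]
      exact Finset.sum_congr rfl fun _ _ => Finset.sum_congr rfl fun _ _ => by ring
    have e1 : ∀ r, (fst N N).left.appTop (M₀ p r) * (snd N N).left.appTop (M₀ r q) =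
        ∑ l, ∑ l', cst (N ⊗ N) (Cl l p r * Cl l' r q) *
          ((fst N N).left.appTop (b l) * (snd N N).left.appTop (b l')) := fun r => by
      rw [hC p r, hC r q]
      simp only [map_sum, map_mul, cst_appTop, Finset.sum_mul, Finset.mul_sum, Cl]
      rw [Finset.sum_comm]
      exact Finset.sum_congr rfl fun _ _ => Finset.sum_congr rfl fun _ _ => by ring
    have e2 : ∀ r, (snd N N).left.appTop (M₀ p r) * (fst N N).left.appTop (M₀ r q) =
        ∑ l, ∑ l', cst (N ⊗ N) (Cl l' p r * Cl l r q) *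
          ((fst N N).left.appTop (b l) * (snd N N).left.appTop (b l')) := fun r => by
      rw [hC p r, hC r q]
      simp only [map_sum, map_mul, cst_appTop, Finset.sum_mul, Finset.mul_sum, Cl]
      exact Finset.sum_congr rfl fun _ _ => Finset.sum_congr rfl fun _ _ => by ring
    have swap : ∀ D : Fin m → Fin m → Fin m → k,
        ∑ r, ∑ l, ∑ l', cst (N ⊗ N) (D r l l') * ((fst N N).left.appTop (b l) * (snd N N).left.appTop (b l')) =
          co b N (fun l => ∑ l', cst N (∑ r, D r l l') * b l') := fun D => by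
      rw [← key, Finset.sum_comm]
      refine Finset.sum_congr rfl fun l _ => ?_
      rw [Finset.sum_comm]
      simp only [map_sum, Finset.sum_mul]
    simp only [e1, e2] at e
    rw [swap fun r l l' => Cl l p r * Cl l' r q, swap fun r l l' => Cl l' p r * Cl l r q] at e
    have e4 := congrFun ((hbk _).unique rfl (congrFun (co_injective b hb e) l)) l'
    simpa [Matrix.mul_apply] using e4
  -- the eigenvector
  haveI : Nonempty (Fin m) := ⟨⟨0, hm⟩⟩
  obtain ⟨v₁, hv₁, hlam⟩ := exists_common_eigvec (fun l => Matrix.mulVecLin (Cl l)) fun l l' => by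
    show Matrix.mulVecLin (Cl l) * Matrix.mulVecLin (Cl l') = _
    rw [Module.End.mul_eq_comp, Module.End.mul_eq_comp, ← Matrix.mulVecLin_mul, ← Matrix.mulVecLin_mul, hcomm]
  obtain ⟨i₀, hi₀⟩ := Function.ne_iff.1 hv₁
  choose lam hlam using hlam
  let v : Fin m → k := (v₁ i₀)⁻¹ • v₁
  have hv : ∀ l, (Cl l).mulVec v = lam l • v := fun l => by
    show Matrix.mulVecLin (Cl l) ((v₁ i₀)⁻¹ • v₁) = _
    rw [map_smul, hlam l, smul_comm]
  have hv0 : v i₀ = 1 := inv_mul_cancel₀ hi₀
  let vT : ∀ T : Over (Spec (CommRingCat.of k)), Fin m → Γ(T.left, ⊤) := fun T j => cst T (v j)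
  let χ : Γ(N.left, ⊤) := ∑ l, cst N (lam l) * b l
  have hMv : M₀.mulVec (vT N) = χ • vT N := by
    funext p
    show ∑ q, M₀ p q * cst N (v q) = χ * cst N (v p)
    simp only [hC p, χ, Finset.sum_mul]
    rw [Finset.sum_comm]
    refine Finset.sum_congr rfl fun l _ => ?_
    have h := congrArg (cst N) (congrFun (hv l) p)
    simp only [Matrix.mulVec, dotProduct, map_sum, map_mul, Pi.smul_apply, smul_eq_mul, Cl] at h
    calc ∑ q, cst N (C p q l) * b l * cst N (v q) = (∑ q, cst N (C p q l) * cst N (v q)) * b l := by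
          rw [Finset.sum_mul]; exact Finset.sum_congr rfl fun _ _ => by ring
      _ = _ := by rw [h]; ring
  have hχ : χ * M₁.mulVec (vT N) i₀ = 1 := by
    have h := congrArg (fun w => M₁.mulVec w i₀) hMv
    simp only [Matrix.mulVec_mulVec, hinv, Matrix.one_mulVec, Matrix.mulVec_smul, Pi.smul_apply, smul_eq_mul] at h
    rw [← h]
    show cst N (v i₀) = 1
    rw [hv0, map_one]
  -- normalisation
  obtain ⟨β₁, hβ₁, hβ₁o⟩ := exists_scale_hom hβ₀' (t := M₁.mulVec (vT N) i₀) (s := χ) (by rw [mul_comm, hχ])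
  have hf : Fn P₀ h₀ β₁ (𝟙 N) _ := fn_scale P₀ h₀ hf₀ hβ₁
  have hMs := hM₀.scale b (M₁.mulVec (vT N) i₀)
  have hfix : (M₁.mulVec (vT N) i₀ • M₀).mulVec (vT N) = vT N := by
    rw [Matrix.smul_mulVec, hMv, smul_smul, mul_comm, hχ, one_smul]
  have hvg : ∀ {T T' : Over (Spec (CommRingCat.of k))} (g : T' ⟶ T), (fun j => g.left.appTop (vT T j)) = vT T' :=
    fun g => funext fun j => cst_appTop g (v j)
  have hfixT : ∀ {T : Over (Spec (CommRingCat.of k))} (n : T ⟶ N), ∃ f M, Fn P₀ h₀ (bcPt n β₁) n f ∧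
      Mat b n f M ∧ M.mulVec (vT T) = vT T := fun {T} n => by
    have h1 := fn_bcPt P₀ h₀ n hβ₁o hf
    have h2 := hMs.map b n
    rw [Category.comp_id] at h1 h2
    refine ⟨_, _, h1, h2, funext fun j => ?_⟩
    rw [← hvg n]
    exact (RingHom.map_mulVec n.left.appTop.hom _ _ j).symm.trans (congrArg n.left.appTop (congrFun hfix j))
  have hover : ∀ {T : Over (Spec (CommRingCat.of k))} (n : T ⟶ N), ThetaGrp.IsOverPt (bcPt n β₁) (n ≫ i) :=
    fun n => by
      have h := isOverPt_baseChange (isBaseChange_bcPt n β₁) hβ₁o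
      rwa [Category.id_comp] at h
  -- multiplicativity over the universal pair
  have huniv : bcPt (fst N N) β₁ * bcPt (snd N N) β₁ = bcPt (fst N N * snd N N) β₁ := by
    obtain ⟨fa, Ma, ha1, ha2, ha3⟩ := hfixT (fst N N)
    obtain ⟨fb, Mb, hb1, hb2, hb3⟩ := hfixT (snd N N)
    obtain ⟨fc, Mc, hc1, hc2, hc3⟩ := hfixT (fst N N * snd N N)
    have hn : snd N N * fst N N = fst N N * snd N N := by
      rw [← cancel_mono i, MonObj.mul_comp, MonObj.mul_comp, mul_comm]
    have e1 := fn_mul P₀ h₀ ha1 hb1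
    have g1 := ha2.mul b hb2
    rw [hn] at e1 g1
    have ho : ThetaGrp.IsOverPt (bcPt (fst N N) β₁ * bcPt (snd N N) β₁) ((fst N N * snd N N) ≫ i) := by
      have h := isOverPt_mul (hover (fst N N)) (hover (snd N N))
      rwa [← MonObj.mul_comp, hn] at h
    have hc := hover (fst N N * snd N N)
    let γ₂ := bcPt (fst N N * snd N N) β₁
    haveI := isIso_fib γ₂.1
    obtain ⟨r, hr⟩ := exists_premul_eq (H11Ample.isInvertible_pullback _ hL)
      (bcPt (fst N N) β₁ * bcPt (snd N N) β₁).1.hom γ₂.1.hom (ho.trans hc.symm)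
    obtain ⟨t, rfl⟩ := exists_appTop_snd (N ⊗ N) r
    have e2 := fn_scale P₀ h₀ hc1 hr
    rw [fn_unique P₀ h₀ e1 e2] at g1
    have h3 := congrArg (fun M => Matrix.mulVec M (vT (N ⊗ N)) i₀) ((hc2.scale b t).unique b hb g1)
    simp only [Matrix.smul_mulVec, hc3, ← Matrix.mulVec_mulVec, ha3, hb3, Pi.smul_apply, smul_eq_mul] at h3
    have hv1 : vT (N ⊗ N) i₀ = 1 := by show cst _ (v i₀) = 1; rw [hv0, map_one]
    rw [hv1, _root_.mul_one] at h3
    apply Subtype.ext
    apply Aut.ext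
    rw [hr, h3, map_one, premul_one]
  refine ⟨fun n => bcPt n β₁, hover, fun n n' => ?_, fun g n => ?_⟩
  · have h := congrArg (bcPt (lift n n')) huniv
    rwa [bcPt_mul, ← bcPt_comp, ← bcPt_comp, ← bcPt_comp, MonObj.comp_mul, lift_fst, lift_snd] at h
  · show ThetaGrp.IsBaseChange (bcPt (g ≫ n) β₁) g (bcPt n β₁)
    rw [bcPt_comp]
    exact isBaseChange_bcPt _ _

end Groth.Agent.H26Theta
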