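import Groth.Agent.H26Theta.Section
import Groth.Agent.H26Theta.Scalar
import Groth.Agent.H11Ample.RelQuasiAffine

/-!
# Points of the theta group as frames of the module along points
-/

set_option autoImplicit false
set_option linter.style.haveILetI false
set_option linter.unusedSectionVars false
set_option backward.isDefEq.respectTransparency false
set_option backward.isDefEq.respectTransparency.types false
universe u

open CategoryTheory CategoryTheory.Limits MonoidalCategory CartesianMonoidalCategory MonObj AlgebraicGeometry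
open Opposite TopologicalSpace Pseudofunctor Bicategory Groth.Agent
open Groth.Agent.H11Tilde (homOfGlobal IsGen)
open Groth.Agent.H11Ample (one)
open Groth.Agent.H13Desc.EtSh (Inv rm)
open Groth.Agent.H25Theta (pb pC pI pT pO tI IsTranslEq mumford_iff)

noncomputable section

namespace Groth.Agent.H26Theta

variable {k : Type u} [Field k] {A : Over (Spec (CommRingCat.of k))} [GrpObj A] {L : A.left.Modules}

theorem exists_unitArr (hL : PicF.IsInvertible L) :
    ∃ e : unitPair (𝟙_ (Over (Spec (CommRingCat.of k)))).left ⟶ (⟨A.left, L⟩ : Pairs.{u}),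
      e.base = η[A].left ∧ IsIso (fib e) := by
  haveI : Subsingleton (𝟙_ (Over (Spec (CommRingCat.of k)))).left := inferInstanceAs (Subsingleton (PrimeSpectrum k))
  haveI : Nonempty (𝟙_ (Over (Spec (CommRingCat.of k)))).left := inferInstanceAs (Nonempty (PrimeSpectrum k))
  obtain ⟨c⟩ := H25Theta.nonempty_iso_of_subsingleton (H11Ample.isInvertible_pullback η[A].left hL)
  exact ⟨{ base := η[A].left, fiber := c.inv }, rfl, c.symm.isIso_hom⟩

theorem lift_one_fst (T : Over (Spec (CommRingCat.of k))) :
    (lift (1 : T ⟶ A) (𝟙 T)).left ≫ (fst A T).left = (toUnit T).left ≫ η[A].left := by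
  rw [← Over.comp_left, ← Over.comp_left, lift_fst]
  exact congrArg CommaMorphism.left Hom.one_def

theorem exists_eps (hL : PicF.IsInvertible L) (T : Over (Spec (CommRingCat.of k))) :
    ∃ e : unitPair T.left ⟶ ThetaGrp.thetaObj A L T, e.base = (lift (1 : T ⟶ A) (𝟙 T)).left ∧
      e ≫ proj A L T = unitMap (toUnit T).left ≫ (exists_unitArr hL).choose := by
  refine exists_lift (unitMap (toUnit T).left ≫ (exists_unitArr hL).choose) (proj A L T) _ ?_
  show (lift (1 : T ⟶ A) (𝟙 T)).left ≫ (fst A T).left = (toUnit T).left ≫ (exists_unitArr hL).choose.base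
  rw [(exists_unitArr hL).choose_spec.1, lift_one_fst]

/-- The zero section with its frame. -/
def eps (hL : PicF.IsInvertible L) (T : Over (Spec (CommRingCat.of k))) :
    unitPair T.left ⟶ ThetaGrp.thetaObj A L T :=
  (exists_eps hL T).choose

theorem eps_base (hL : PicF.IsInvertible L) (T : Over (Spec (CommRingCat.of k))) :
    (eps hL T).base = (lift (1 : T ⟶ A) (𝟙 T)).left :=
  (exists_eps hL T).choose_spec.1

theorem eps_proj (hL : PicF.IsInvertible L) (T : Over (Spec (CommRingCat.of k))) :
    eps hL T ≫ proj A L T = unitMap (toUnit T).left ≫ (exists_unitArr hL).choose :=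
  (exists_eps hL T).choose_spec.2

theorem isIso_fib_eps (hL : PicF.IsInvertible L) (T : Over (Spec (CommRingCat.of k))) : IsIso (fib (eps hL T)) :=
  cart_of_comp _ (proj A L T)
    (by rw [eps_proj]; exact cart_comp _ _ inferInstance (exists_unitArr hL).choose_spec.2) (isIso_fib_toPair _ _)

theorem unitMap_eps (hL : PicF.IsInvertible L) {T T' : Over (Spec (CommRingCat.of k))} (g : T' ⟶ T) :
    unitMap g.left ≫ eps hL T = eps hL T' ≫ ThetaGrp.bcLift A L g := by
  refine cart_ext (proj A L T) ?_ ?_
  · show g.left ≫ (eps hL T).base = (eps hL T').base ≫ (A ◁ g).left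
    rw [eps_base, eps_base, ← Over.comp_left, ← Over.comp_left, comp_lift, MonObj.comp_one, Category.comp_id,
      lift_whiskerLeft, Category.id_comp]
  · rw [Category.assoc, Category.assoc, eps_proj, bcLift_proj, eps_proj, ← Category.assoc, unitMap_comp,
      ← Over.comp_left, Subsingleton.elim (g ≫ toUnit T) (toUnit T')]

/-- The frame of a point of the theta group. -/
def phi (hL : PicF.IsInvertible L) {T : Over (Spec (CommRingCat.of k))} (β : ThetaGrp.thetaPts A L T) :
    unitPair T.left ⟶ (⟨A.left, L⟩ : Pairs.{u}) :=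
  eps hL T ≫ β.1.hom ≫ proj A L T

theorem phi_base (hL : PicF.IsInvertible L) {T : Over (Spec (CommRingCat.of k))} {β : ThetaGrp.thetaPts A L T}
    {x : T ⟶ A} (h : ThetaGrp.IsOverPt β x) : (phi hL β).base = x.left := by
  show (eps hL T).base ≫ β.1.hom.base ≫ (fst A T).left = x.left
  rw [eps_base, h, ← Over.comp_left, ← Over.comp_left, ThetaGrp.transl_fst, MonObj.comp_mul, lift_fst,
    lift_snd_assoc, Category.id_comp, _root_.one_mul]

theorem isIso_fib_phi (hL : PicF.IsInvertible L) {T : Over (Spec (CommRingCat.of k))} (β : ThetaGrp.thetaPts A L T) :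
    IsIso (fib (phi hL β)) :=
  cart_comp _ _ (isIso_fib_eps hL T) (cart_comp _ _ (isIso_fib β.1) (isIso_fib_toPair _ _))

/-- Frames commute with base change. -/
theorem phi_baseChange (hL : PicF.IsInvertible L) {T T' : Over (Spec (CommRingCat.of k))} {g : T' ⟶ T}
    {δ : ThetaGrp.thetaPts A L T'} {β : ThetaGrp.thetaPts A L T} (h : ThetaGrp.IsBaseChange δ g β) :
    phi hL δ = unitMap g.left ≫ phi hL β := by
  unfold phi
  rw [reassoc_of% (unitMap_eps hL g), ← bcLift_proj A L g, reassoc_of% h]

/-- Base changes exist and are unique. -/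
theorem existsUnique_baseChange {T T' : Over (Spec (CommRingCat.of k))} (g : T' ⟶ T)
    (β : ThetaGrp.thetaPts A L T) : ∃! δ : ThetaGrp.thetaPts A L T', ThetaGrp.IsBaseChange δ g β := by
  obtain ⟨x, hx⟩ := β.2
  haveI := isIso_fib_bcLift A L g
  haveI : IsIso (fib (ThetaGrp.bcLift A L g ≫ β.1.hom)) := cart_comp _ _ inferInstance (isIso_fib β.1)
  obtain ⟨δ, hδ, h⟩ := exists_pt_lift A L (g ≫ x) (ThetaGrp.bcLift A L g ≫ β.1.hom) (ThetaGrp.bcLift A L g) (by
    show (ThetaGrp.transl A (g ≫ x)).left ≫ (A ◁ g).left = (A ◁ g).left ≫ β.1.hom.base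
    rw [hx, ← Over.comp_left, ← Over.comp_left, whiskerLeft_transl])
  refine ⟨δ, h, fun δ' h' => ?_⟩
  apply Subtype.ext
  apply Aut.ext
  exact cart_ext (ThetaGrp.bcLift A L g) ((isOverPt_baseChange h' hx).trans hδ.symm) (h'.trans h.symm)

variable [IsProper A.hom] [GeometricallyIntegral A.hom]

/-- A point is rescaled by a unit. -/
theorem exists_scale (hL : PicF.IsInvertible L) {T : Over (Spec (CommRingCat.of k))} (β : ThetaGrp.thetaPts A L T)
    {t s : Γ(T.left, ⊤)} (h : t * s = 1) :
    ∃ β' : ThetaGrp.thetaPts A L T, phi hL β' = premul (phi hL β) t := by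
  obtain ⟨x, hx⟩ := β.2
  let g := premul β.1.hom ((snd A T).left.appTop t)
  haveI : IsIso g.base := by
    show IsIso β.1.hom.base
    rw [hx]
    exact isIso_transl_left A x
  haveI := isIso_fib β.1
  haveI : IsIso (fib g) := isIso_fib_premul β.1.hom (r := (snd A T).left.appTop t) (s := (snd A T).left.appTop s)
    (by rw [← map_mul, h, map_one])
  haveI := isIso_of_components g
  refine ⟨⟨asIso g, x, hx⟩, ?_⟩
  show eps hL T ≫ premul β.1.hom _ ≫ proj A L T = _
  rw [premul_comp, comp_premul]
  congr 1
  rw [← CommRingCat.comp_apply, ← Scheme.Hom.comp_appTop, eps_base, ← Over.comp_left, lift_snd, Over.id_left,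
    Scheme.Hom.id_appTop]
  rfl

theorem phi_injective (hL : PicF.IsInvertible L) {T : Over (Spec (CommRingCat.of k))} :
    Function.Injective (phi hL : ThetaGrp.thetaPts A L T → _) := by
  intro β β' h
  obtain ⟨x, hx⟩ := β.2
  obtain ⟨y, hy⟩ := β'.2
  have hxy : x = y :=
    Over.OverMorphism.ext ((phi_base hL hx).symm.trans ((congrArg (fun P => P.base) h).trans (phi_base hL hy)))
  subst hxy
  haveI := isIso_fib β.1
  obtain ⟨r, hr⟩ := exists_premul_eq (H11Ample.isInvertible_pullback _ hL) β'.1.hom β.1.hom (hy.trans hx.symm)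
  obtain ⟨t, rfl⟩ := exists_appTop_snd T r
  have h2 : phi hL β' = premul (phi hL β) t := by
    unfold phi
    rw [hr, premul_comp, comp_premul]
    congr 1
    rw [← CommRingCat.comp_apply, ← Scheme.Hom.comp_appTop, eps_base, ← Over.comp_left, lift_snd, Over.id_left,
      Scheme.Hom.id_appTop]
    rfl
  haveI := isIso_fib_phi hL β
  rw [← h] at h2
  have h3 : t = 1 := premul_injective H11Ample.isInvertible_structureModule (phi hL β) (h2.symm.trans (premul_one _).symm)
  apply Subtype.ext
  apply Aut.ext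
  rw [hr, h3, map_one, premul_one]

/-- A cartesian morphism with the same base as a frame is a frame. -/
theorem exists_phi_eq (hL : PicF.IsInvertible L) {T : Over (Spec (CommRingCat.of k))} (β : ThetaGrp.thetaPts A L T)
    (P : unitPair T.left ⟶ (⟨A.left, L⟩ : Pairs.{u})) [IsIso (fib P)] (h : P.base = (phi hL β).base) :
    ∃ β' : ThetaGrp.thetaPts A L T, phi hL β' = P := by
  haveI := isIso_fib_phi hL β
  obtain ⟨r, hr⟩ := exists_premul_eq H11Ample.isInvertible_structureModule P (phi hL β) h
  obtain ⟨s, hs⟩ := exists_premul_eq H11Ample.isInvertible_structureModule (phi hL β) P h.symm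
  have : r * s = 1 := by
    refine premul_injective (H11Ample.isInvertible_structureModule (X := T.left)) (phi hL β) ?_
    rw [← premul_premul, ← hr, ← hs, premul_one]
  exact hr ▸ exists_scale hL β this

/-- A cartesian morphism over a point of `K(L)` is a frame. -/
theorem exists_phi_of_mumford (hL : PicF.IsInvertible L) {T : Over (Spec (CommRingCat.of k))} (x : T ⟶ A)
    (hx : ThetaGrp.IsMumfordTriv A L x) (P : unitPair T.left ⟶ (⟨A.left, L⟩ : Pairs.{u})) [hP : IsIso (fib P)]
    (h : P.base = x.left) : ∃ β : ThetaGrp.thetaPts A L T, ThetaGrp.IsOverPt β x ∧ phi hL β = P := by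
  obtain ⟨M, -, hM⟩ := (mumford_iff A L hL x).1 hx
  obtain ⟨a⟩ := H25Theta.eq_pullback_of_translEq A L hL x M hM
  let b : Coh.structureModule T.left ≅ pb x.left L :=
    @asIso _ _ _ _ (fib P) hP ≪≫ (Scheme.Modules.pullbackCongr h).app L
  obtain ⟨β, hβ⟩ := (exists_pt_iff A L x).2 (H25Theta.isTranslEq_congr A L (a ≪≫ b.symm) hM)
  obtain ⟨β', hβ'⟩ := exists_phi_eq hL β P (h.trans (phi_base hL hβ).symm)
  refine ⟨β', ?_, hβ'⟩
  obtain ⟨y, hy⟩ := β'.2
  have e : y = x := Over.OverMorphism.ext ((phi_base hL hy).symm.trans ((congrArg (fun P => P.base) hβ').trans h))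
  exact e ▸ hy

end Groth.Agent.H26Theta
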