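import Groth.Agent.H26Theta.FrameSec
import Groth.Agent.H8Props.WeilRes.Glue
import Groth.Agent.H13Desc.EtAssocSheaf.Fpqc
import Groth.Agent.H11Tilde.TransposeComp
import Mathlib.CategoryTheory.Monoidal.Cartesian.Grp

/-!
# The group functor of the theta group and its gluing
-/

set_option autoImplicit false
set_option linter.style.haveILetI false
set_option linter.unusedSectionVars false
set_option backward.isDefEq.respectTransparency false
set_option backward.isDefEq.respectTransparency.types false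
universe u

open CategoryTheory CategoryTheory.Limits MonoidalCategory CartesianMonoidalCategory MonObj AlgebraicGeometry
open Opposite TopologicalSpace Pseudofunctor Bicategory Groth.Agent
open Groth.Agent.H11Tilde (homOfGlobal IsGen)
open Groth.Agent.H11Ample (one)
open Groth.Agent.H13Desc.EtSh (Inv rm)
open Groth.Agent.H25Theta (pb pC pI pT pO tI IsTranslEq mumford_iff)
open Groth.Agent.H8Props.WeilRes (IsZariskiGluing isZariskiGluing_yoneda coverOfFamily)

noncomputable section

namespace Groth.Agent.H26Theta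

variable {k : Type u} [Field k] {A : Over (Spec (CommRingCat.of k))} [GrpObj A] {L : A.left.Modules}

/-- The base change of a point. -/
def bcPt {T T' : Over (Spec (CommRingCat.of k))} (g : T' ⟶ T) (β : ThetaGrp.thetaPts A L T) :
    ThetaGrp.thetaPts A L T' :=
  (existsUnique_baseChange g β).exists.choose

theorem isBaseChange_bcPt {T T' : Over (Spec (CommRingCat.of k))} (g : T' ⟶ T) (β : ThetaGrp.thetaPts A L T) :
    ThetaGrp.IsBaseChange (bcPt g β) g β :=
  (existsUnique_baseChange g β).exists.choose_spec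

theorem eq_bcPt {T T' : Over (Spec (CommRingCat.of k))} {g : T' ⟶ T} {β : ThetaGrp.thetaPts A L T}
    {δ : ThetaGrp.thetaPts A L T'} (h : ThetaGrp.IsBaseChange δ g β) : δ = bcPt g β :=
  (existsUnique_baseChange g β).unique h (isBaseChange_bcPt g β)

theorem bcLift_id (T : Over (Spec (CommRingCat.of k))) : ThetaGrp.bcLift A L (𝟙 T) = 𝟙 _ := by
  refine cart_ext (proj A L T) ?_ (by rw [bcLift_proj, Category.id_comp])
  show (A ◁ 𝟙 T).left = 𝟙 _
  rw [MonoidalCategory.whiskerLeft_id]
  rfl

theorem bcPt_id {T : Over (Spec (CommRingCat.of k))} (β : ThetaGrp.thetaPts A L T) : bcPt (𝟙 T) β = β :=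
  (eq_bcPt (by unfold ThetaGrp.IsBaseChange; rw [bcLift_id, Category.comp_id, Category.id_comp])).symm

theorem bcPt_comp {T T' T'' : Over (Spec (CommRingCat.of k))} (g : T'' ⟶ T') (h : T' ⟶ T)
    (β : ThetaGrp.thetaPts A L T) : bcPt (g ≫ h) β = bcPt g (bcPt h β) :=
  (eq_bcPt (isBaseChange_comp (isBaseChange_bcPt g _) (isBaseChange_bcPt h β))).symm

theorem bcPt_mul {T T' : Over (Spec (CommRingCat.of k))} (g : T' ⟶ T) (β β' : ThetaGrp.thetaPts A L T) :
    bcPt g (β * β') = bcPt g β * bcPt g β' := by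
  refine (eq_bcPt ?_).symm
  have h1 := isBaseChange_bcPt g β
  have h2 := isBaseChange_bcPt g β'
  unfold ThetaGrp.IsBaseChange at h1 h2 ⊢
  show ((bcPt g β').1.hom ≫ (bcPt g β).1.hom) ≫ _ = _ ≫ β'.1.hom ≫ β.1.hom
  rw [Category.assoc, h1, reassoc_of% h2]

variable (A L)

/-- The group functor of the theta group. -/
def thetaFunctor : (Over (Spec (CommRingCat.of k)))ᵒᵖ ⥤ GrpCat.{u} where
  obj T := GrpCat.of (ThetaGrp.thetaPts A L T.unop)
  map g := GrpCat.ofHom (MonoidHom.mk' (bcPt g.unop) (bcPt_mul g.unop))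
  map_id T := GrpCat.hom_ext (MonoidHom.ext fun β => bcPt_id β)
  map_comp g h := GrpCat.hom_ext (MonoidHom.ext fun β => bcPt_comp h.unop g.unop β)

theorem thetaFunctor_map {T T' : Over (Spec (CommRingCat.of k))} (g : T' ⟶ T) (β : ThetaGrp.thetaPts A L T) :
    (thetaFunctor A L ⋙ forget _).map g.op β = bcPt g β := rfl

variable {A L}

theorem phi_bcPt (hL : PicF.IsInvertible L) {T T' : Over (Spec (CommRingCat.of k))} (g : T' ⟶ T)
    (β : ThetaGrp.thetaPts A L T) : phi hL (bcPt g β) = unitMap g.left ≫ phi hL β :=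
  phi_baseChange hL (isBaseChange_bcPt g β)

/-- Module components become invertible after pullback along a cartesian first factor. -/
theorem isIso_map_fib {a b c : Pairs.{u}} (g : a ⟶ b) (q : b ⟶ c) [hg : IsIso (fib g)] (h : IsIso (fib (g ≫ q))) :
    IsIso ((Scheme.Modules.pullback g.base).map (fib q)) := by
  have h' : IsIso (fib g ≫ (Scheme.Modules.pullback g.base).map (fib q) ≫
      (Scheme.Modules.pullbackComp g.base q.base).hom.app c.fiber) := comp_fiber' g q ▸ h
  haveI := @IsIso.of_isIso_comp_left _ _ _ _ _ (fib g) _ hg h'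
  exact IsIso.of_isIso_comp_right ((Scheme.Modules.pullback g.base).map (fib q))
    ((Scheme.Modules.pullbackComp g.base q.base).hom.app c.fiber)

variable [IsProper A.hom] [GeometricallyIntegral A.hom]

/-- A point over a translation satisfies the condition of `K(L)`. -/
theorem mumford_of_isOverPt (hL : PicF.IsInvertible L) {T : Over (Spec (CommRingCat.of k))}
    {β : ThetaGrp.thetaPts A L T} {x : T ⟶ A} (h : ThetaGrp.IsOverPt β x) : ThetaGrp.IsMumfordTriv A L x :=
  (mumford_iff A L hL x).2 ⟨_, H11Ample.isInvertible_structureModule, (exists_pt_iff A L x).1 ⟨β, h⟩⟩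

/-- Points of the theta group glue. -/
theorem isZariskiGluing_thetaFunctor (hL : PicF.IsInvertible L) {K : Over (Spec (CommRingCat.of k))} {iK : K ⟶ A}
    (hK : ThetaGrp.IsKL A L iK) : IsZariskiGluing (thetaFunctor A L ⋙ forget _) := by
  intro T κ C π ho hc s hs
  haveI := hK.closed
  haveI : Mono iK := Over.mono_of_mono_left iK
  let s' : ∀ i, ThetaGrp.thetaPts A L (C i) := s
  choose x hx using fun i => (s' i).2
  choose y hy using fun i => (hK.univ _ (x i)).1 (mumford_of_isOverPt hL (hx i))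
  have hphi : ∀ (i j : κ) (Z : Over (Spec (CommRingCat.of k))) (a : Z ⟶ C i) (b : Z ⟶ C j), a ≫ π i = b ≫ π j →
      unitMap a.left ≫ phi hL (s' i) = unitMap b.left ≫ phi hL (s' j) := fun i j Z a b e => by
    rw [← phi_bcPt, ← phi_bcPt]
    exact congrArg (phi hL) (hs i j Z a b e)
  have hxx : ∀ (i j : κ) (Z : Over (Spec (CommRingCat.of k))) (a : Z ⟶ C i) (b : Z ⟶ C j), a ≫ π i = b ≫ π j →
      a ≫ x i = b ≫ x j := fun i j Z a b e => by
    refine Over.OverMorphism.ext ?_
    rw [Over.comp_left, Over.comp_left, ← phi_base hL (hx i), ← phi_base hL (hx j)]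
    exact congrArg (fun P => P.base) (hphi i j Z a b e)
  obtain ⟨y₀, hy₀, -⟩ := isZariskiGluing_yoneda K T κ C π ho hc y fun i j Z a b e =>
    show a ≫ y i = b ≫ y j by rw [← cancel_mono iK, Category.assoc, Category.assoc, hy, hy, hxx i j Z a b e]
  let x₀ : T ⟶ A := y₀ ≫ iK
  have hx₀ : ∀ i, (π i).left ≫ x₀.left = (x i).left := fun i => by
    rw [← Over.comp_left, ← hy i, ← show π i ≫ y₀ = y i from hy₀ i, Category.assoc]
  let 𝒰 := coverOfFamily T C π ho hc
  choose σ hσ using fun i => eq_arr' (phi hL (s' i)) (x := (π i).left ≫ x₀.left)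
    ((phi_base hL (hx i)).trans (hx₀ i).symm)
  obtain ⟨σ₀, hσ₀⟩ := H13Desc.EtSh.exists_glue_openCover L x₀.left 𝒰 σ (by
    intro i j Z a b q ha hb e
    let Z' : Over (Spec (CommRingCat.of k)) := Over.mk (a ≫ (C i).hom)
    let a' : Z' ⟶ C i := Over.homMk a rfl
    let b' : Z' ⟶ C j := Over.homMk b (by
      show b ≫ (C j).hom = a ≫ (C i).hom
      rw [← Over.w (π i), ← Over.w (π j), ← Category.assoc, ← Category.assoc]
      exact congrArg (· ≫ T.hom) e.symm)
    have h := hphi i j Z' a' b' (Over.OverMorphism.ext e)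
    change unitMap a ≫ phi hL (s' i) = unitMap b ≫ phi hL (s' j) at h
    rw [hσ i, hσ j] at h
    refine arr_injective q ?_
    exact (unitMap_arr a _ _ q ha).symm.trans (h.trans (unitMap_arr b _ _ q hb)))
  let P : unitPair T.left ⟶ (⟨A.left, L⟩ : Pairs.{u}) := arr x₀.left σ₀
  have hP : ∀ i, unitMap (π i).left ≫ P = phi hL (s' i) := fun i => by
    rw [hσ i]
    exact (unitMap_arr (π i).left x₀.left σ₀ _ rfl).trans (congrArg (arr _) (hσ₀ i))
  haveI : IsIso (fib P) := by
    refine H11Tilde.TransposeComp.isIso_of_pullback_cover (fib P) fun z => ?_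
    obtain ⟨i, w, hw⟩ := hc z
    exact ⟨(C i).left, (π i).left, ho i, ⟨w, hw⟩,
      isIso_map_fib (unitMap (π i).left) P (by rw [hP i]; exact isIso_fib_phi hL _)⟩
  obtain ⟨β, hβ, hβP⟩ := exists_phi_of_mumford hL x₀ ((hK.univ _ x₀).2 ⟨y₀, rfl⟩) P rfl
  refine ⟨β, fun i => ?_, fun β' hβ' => ?_⟩
  · refine phi_injective hL ?_
    change phi hL (bcPt (π i) β) = phi hL (s' i)
    rw [phi_bcPt, hβP, hP]
  · let β'' : ThetaGrp.thetaPts A L T := β'
    obtain ⟨x', hx'⟩ := β''.2
    have h1 : ∀ i, unitMap (π i).left ≫ phi hL β'' = phi hL (s' i) := fun i => by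
      rw [← phi_bcPt]
      exact congrArg (phi hL) (hβ' i)
    have e : x'.left = x₀.left := 𝒰.hom_ext _ _ fun i => by
      show (π i).left ≫ x'.left = (π i).left ≫ x₀.left
      rw [hx₀, ← phi_base hL hx', ← phi_base hL (hx i)]
      exact congrArg (fun P => P.base) (h1 i)
    obtain ⟨σ', hσ'⟩ := eq_arr' (phi hL β'') ((phi_base hL hx').trans e)
    refine phi_injective hL ?_
    change phi hL β'' = phi hL β
    rw [hβP, hσ']
    refine congrArg (arr x₀.left) (H13Desc.EtSh.eq_of_openCover L x₀.left 𝒰 _ _ fun i => arr_injective _ ?_)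
    have e2 := h1 i
    rw [hσ', ← hP i] at e2
    exact (unitMap_arr (π i).left x₀.left σ' _ rfl).symm.trans (e2.trans (unitMap_arr (π i).left x₀.left σ₀ _ rfl))

end Groth.Agent.H26Theta
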