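import Groth.Agent.H26Theta.Perp
import Mathlib.RingTheory.Artinian.Module
import Mathlib.FieldTheory.IsAlgClosed.Basic

/-!
# Every non-trivial finite subgroup of `K(L)` contains a non-trivial isotropic one
-/

set_option autoImplicit false
set_option linter.style.haveILetI false
set_option linter.unusedSectionVars false
set_option backward.isDefEq.respectTransparency false
set_option backward.isDefEq.respectTransparency.types false
universe u

open CategoryTheory CategoryTheory.Limits MonoidalCategory CartesianMonoidalCategory MonObj AlgebraicGeometry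
open Opposite TopologicalSpace Pseudofunctor Groth.Agent

noncomputable section

namespace Groth.Agent.H26Theta

/-- An ideal of codimension two inside an augmentation ideal. -/
theorem exists_codim_two {k : Type u} [Field k] [IsAlgClosed k] {R : Type u} [CommRing R] (σ : k →+* R)
    (hσ : σ.Finite) (ε₀ : R →+* k) (h₀ : ∀ c, ε₀ (σ c) = c) (hne : RingHom.ker ε₀ ≠ ⊥) :
    ∃ (J : Ideal R) (e : R), ε₀ e = 0 ∧ e ∉ J ∧ (∀ a ∈ J, ε₀ a = 0) ∧
      ∀ r, ∃ c₀ c₁ : k, r - (σ c₀ + σ c₁ * e) ∈ J := by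
  letI := σ.toAlgebra
  haveI : Module.Finite k R := hσ
  haveI : IsNoetherianRing R := isNoetherian_of_tower k inferInstance
  obtain ⟨J, hJm, hJmax⟩ := set_has_maximal_iff_noetherian.2 (inferInstance : IsNoetherian R R)
    {J : Ideal R | J < RingHom.ker ε₀} ⟨⊥, bot_lt_iff_ne_bot.2 hne⟩
  have hJm : J < RingHom.ker ε₀ := hJm
  obtain ⟨e, he, heJ⟩ := SetLike.exists_of_lt hJm
  have hsup : J ⊔ Ideal.span {e} = RingHom.ker ε₀ := by
    by_contra h
    refine hJmax (J ⊔ Ideal.span {e}) (lt_of_le_of_ne (sup_le hJm.le ((Ideal.span_singleton_le_iff_mem _).2 he)) h) ?_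
    exact left_lt_sup.2 fun h' => heJ (h' (Ideal.mem_span_singleton_self e))
  refine ⟨J, e, he, heJ, fun a ha => hJm.le ha, fun r => ?_⟩
  let I : Ideal R := J.colon (Ideal.span {e})
  have hmem : ∀ s, s ∈ I ↔ s * e ∈ J := fun s => Submodule.mem_colon_span_singleton
  haveI : I.IsMaximal := by
    rw [Ideal.isMaximal_iff]
    refine ⟨fun h => heJ (by simpa using (hmem 1).1 h), fun I' s hII' hs hs' => ?_⟩
    have hlt : J < J ⊔ Ideal.span {s * e} :=
      left_lt_sup.2 fun h' => hs ((hmem s).2 (h' (Ideal.mem_span_singleton_self _)))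
    have he' : e ∈ J ⊔ Ideal.span {s * e} := by
      have hm : RingHom.ker ε₀ ≤ J ⊔ Ideal.span {s * e} := by
        by_contra h
        refine hJmax _ (lt_of_le_not_ge (sup_le hJm.le ((Ideal.span_singleton_le_iff_mem _).2 ?_)) h) hlt
        exact Ideal.mul_mem_left _ s he
      exact hm he
    obtain ⟨a, ha, b, hb, hab⟩ := Submodule.mem_sup.1 he'
    obtain ⟨c, rfl⟩ := Ideal.mem_span_singleton'.1 hb
    have h1 : 1 - c * s ∈ I := (hmem _).2 (by rwa [show (1 - c * s) * e = a by linear_combination -hab])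
    simpa using I'.add_mem (hII' h1) (I'.mul_mem_left c hs')
  letI : Field (R ⧸ I) := Ideal.Quotient.field I
  obtain ⟨a, ha, b, hb, hab⟩ := Submodule.mem_sup.1 (show r - σ (ε₀ r) ∈ J ⊔ Ideal.span {e} by
    rw [hsup, RingHom.mem_ker, map_sub, h₀, sub_self])
  obtain ⟨s, rfl⟩ := Ideal.mem_span_singleton'.1 hb
  obtain ⟨c₁, hc₁⟩ := (IsAlgClosed.algebraMap_bijective_of_isIntegral (k := k) (K := R ⧸ I)).2 (Ideal.Quotient.mk I s)
  have hs : r - σ (ε₀ r) - s * e ∈ J := by rwa [← hab, add_sub_cancel_right]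
  have h2 : (s - σ c₁) * e ∈ J := (hmem _).1 (Ideal.Quotient.eq.1 hc₁.symm)
  refine ⟨ε₀ r, c₁, ?_⟩
  rw [show r - (σ (ε₀ r) + σ c₁ * e) = (r - σ (ε₀ r) - s * e) + (s - σ c₁) * e by ring]
  exact J.add_mem hs h2

variable {k : Type u} [Field k] [IsAlgClosed k] {A : Over (Spec (CommRingCat.of k))} [GrpObj A] [IsCommMonObj A]
  [IsProper A.hom] [GeometricallyIntegral A.hom] {L : A.left.Modules}
  {K : Over (Spec (CommRingCat.of k))} [GrpObj K] {iK : K ⟶ A} [IsMonHom iK] [IsClosedImmersion iK.left]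
  [IsFinite K.hom]

theorem scale_unique (hL : PicF.IsInvertible L) {T : Over (Spec (CommRingCat.of k))}
    {u v : ThetaGrp.thetaPts A L T} {t t' : Γ(T.left, ⊤)} (h : u.1.hom = premul v.1.hom ((snd A T).left.appTop t))
    (h' : u.1.hom = premul v.1.hom ((snd A T).left.appTop t')) : t = t' := by
  haveI := isIso_fib v.1
  exact appTop_snd_injective (A := A) T
    (premul_injective (H11Ample.isInvertible_pullback _ hL) v.1.hom (h.symm.trans h'))

theorem exists_unit_augmentation (K : Over (Spec (CommRingCat.of k))) (o : 𝟙_ _ ⟶ K) :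
    ∃ ε₀ : Γ(K.left, ⊤) →+* k, (∀ c, ε₀ (cst K c) = c) ∧ ∀ a, o.left.appTop a = cst (𝟙_ _) (ε₀ a) := by
  have hb : Function.Bijective (cst (k := k) (𝟙_ _)) := by
    show Function.Bijective ((Scheme.ΓSpecIso (CommRingCat.of k)).inv ≫ (𝟙 _ : Spec _ ⟶ _).appTop)
    rw [Scheme.Hom.id_appTop]
    exact ConcreteCategory.bijective_of_isIso ((Scheme.ΓSpecIso (CommRingCat.of k)).inv ≫ 𝟙 _)
  let e := RingEquiv.ofBijective (cst (k := k) (𝟙_ _)) hb
  refine ⟨e.symm.toRingHom.comp o.left.appTop.hom, fun c => ?_, fun a => (e.apply_symm_apply _).symm⟩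
  show e.symm (o.left.appTop (cst K c)) = c
  rw [cst_appTop]
  exact e.symm_apply_apply c

set_option maxHeartbeats 1600000 in
/-- A non-trivial finite subgroup with a lift has a non-trivial point orthogonal to itself. -/
theorem exists_selfPerp (hL : PicF.IsInvertible L) {βK : ThetaGrp.thetaPts A L K}
    (hβK : ThetaGrp.IsOverPt βK iK) (hne : iK ≠ 1) :
    ∃ (Q : Over (Spec (CommRingCat.of k))) (jQ : Q ⟶ K), IsFinite Q.hom ∧ Nonempty Q.left ∧ jQ ≫ iK ≠ 1 ∧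
      ThetaGrp.IsPerpPt L (jQ ≫ iK) (jQ ≫ iK) := by
  haveI : IsAffine K.left := isAffine_of_isAffineHom K.hom
  haveI : Mono iK := Over.mono_of_mono_left iK
  obtain ⟨ε₀, hε₀, ho⟩ := exists_unit_augmentation K η[K]
  have hone : ∀ {T : Over (Spec (CommRingCat.of k))} (a : Γ(K.left, ⊤)),
      (1 : T ⟶ K).left.appTop a = cst T (ε₀ a) := fun {T} a => by
    rw [show (1 : T ⟶ K) = toUnit T ≫ η[K] from Hom.one_def, Over.comp_left, ← appTop_comp_apply, ho, cst_appTop]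
  have hker : RingHom.ker ε₀ ≠ ⊥ := fun h => hne (by
    have e : (𝟙 K) = 1 := Over.OverMorphism.ext (ext_of_isAffine (by
      ext a
      rw [hone, Over.id_left, Scheme.Hom.id_appTop]
      have h1 : a - cst K (ε₀ a) ∈ RingHom.ker ε₀ := by rw [RingHom.mem_ker, map_sub, hε₀, sub_self]
      rw [h, Ideal.mem_bot, sub_eq_zero] at h1
      exact h1))
    rw [← Category.id_comp iK, e, MonObj.one_comp])
  have hfin : (cst K).Finite := RingHom.Finite.comp K.hom.finite_appTop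
    (RingHom.Finite.of_surjective _ (ConcreteCategory.bijective_of_isIso (Scheme.ΓSpecIso (CommRingCat.of k)).inv).2)
  obtain ⟨J, e, he0, heJ, hJ0, hdec⟩ := exists_codim_two (cst K) hfin ε₀ hε₀ hker
  obtain ⟨Z, jZ, hjZ, hjk, hjs, hZ⟩ := exists_zero_locus J
  haveI := hjZ
  let Q : Over (Spec (CommRingCat.of k)) := Over.mk (jZ ≫ K.hom)
  let jQ : Q ⟶ K := Over.homMk jZ rfl
  haveI : IsFinite Q.hom := inferInstanceAs (IsFinite (jZ ≫ K.hom))
  obtain ⟨o₀, ho₀⟩ := (hZ _ (η[K]).left).2 fun a ha => by rw [ho, hJ0 a ha, map_zero]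
  let o : 𝟙_ _ ⟶ Q := Over.homMk o₀ (by show o₀ ≫ jZ ≫ K.hom = _; rw [reassoc_of% ho₀]; exact Over.w η[K])
  have hoj : o ≫ jQ = η[K] := Over.OverMorphism.ext ho₀
  haveI : Nonempty Q.left := ⟨o.left (IsLocalRing.closedPoint k)⟩
  haveI : IsAffine Q.left := isAffine_of_isAffineHom Q.hom
  let ε : Γ(Q.left, ⊤) := jQ.left.appTop e
  have hoε : ∀ (T : Over (Spec (CommRingCat.of k))), (toUnit T ≫ o).left.appTop ε = 0 := fun T => by
    rw [appTop_comp_apply, ← Over.comp_left, Category.assoc, hoj, ← Hom.one_def, hone, he0, map_zero]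
  have hspan : ∀ a : Γ(Q.left, ⊤), ∃ c₀ c₁ : k, a = cst Q c₀ + cst Q c₁ * ε := fun a => by
    obtain ⟨r, rfl⟩ := hjs a
    obtain ⟨c₀, c₁, hc⟩ := hdec r
    refine ⟨c₀, c₁, ?_⟩
    have h := (hjk _).2 hc
    rw [map_sub, sub_eq_zero, map_add, map_mul] at h
    rw [h, ← cst_appTop jQ c₀, ← cst_appTop jQ c₁]
    rfl
  have hxne : jQ ≫ iK ≠ 1 := fun h => by
    rw [← MonObj.one_comp iK, cancel_mono] at h
    refine heJ ((hjk e).1 ?_)
    show jQ.left.appTop e = 0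
    rw [h, hone, he0, map_zero]
  refine ⟨Q, jQ, inferInstance, inferInstance, hxne, ?_⟩
  let β := bcPt jQ βK
  have hβ : ThetaGrp.IsOverPt β (jQ ≫ iK) := isOverPt_baseChange (isBaseChange_bcPt jQ βK) hβK
  rw [isPerpPt_iff hL hβK hβ]
  let y : Q ⊗ Q ⟶ K := (snd Q Q ≫ jQ) * (fst Q Q ≫ jQ)
  let γ₀ := bcPt y βK
  let β₁ := bcPt (snd Q Q ≫ jQ) βK
  let β₂ := bcPt (fst Q Q) β
  have h1 : ThetaGrp.IsOverPt β₁ (snd Q Q ≫ jQ ≫ iK) := by
    rw [← Category.assoc]; exact isOverPt_baseChange (isBaseChange_bcPt _ βK) hβK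
  have h2 : ThetaGrp.IsOverPt β₂ (fst Q Q ≫ jQ ≫ iK) := isOverPt_baseChange (isBaseChange_bcPt _ β) hβ
  have hy : y ≫ iK = (snd Q Q ≫ jQ ≫ iK) * (fst Q Q ≫ jQ ≫ iK) := by
    simp only [y, MonObj.mul_comp, Category.assoc]
  have hg : ThetaGrp.IsOverPt γ₀ ((snd Q Q ≫ jQ ≫ iK) * (fst Q Q ≫ jQ ≫ iK)) := by
    rw [← hy]; exact isOverPt_baseChange (isBaseChange_bcPt y βK) hβK
  have hu : ThetaGrp.IsOverPt (β₁ * β₂) ((snd Q Q ≫ jQ ≫ iK) * (fst Q Q ≫ jQ ≫ iK)) := by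
    rw [mul_comm]; exact isOverPt_mul h1 h2
  have hv : ThetaGrp.IsOverPt (β₂ * β₁) ((snd Q Q ≫ jQ ≫ iK) * (fst Q Q ≫ jQ ≫ iK)) := isOverPt_mul h2 h1
  obtain ⟨t, ht⟩ := exists_scale_of_isOverPt hL hu hg
  let sw : Q ⊗ Q ⟶ Q ⊗ Q := lift (snd Q Q) (fst Q Q)
  have hswy : sw ≫ y = y := by
    rw [← cancel_mono iK, Category.assoc, hy, MonObj.comp_mul, lift_snd_assoc, lift_fst_assoc]
    exact mul_comm _ _
  have hswu : bcPt sw (β₁ * β₂) = β₂ * β₁ := by
    simp only [β₁, β₂, β, bcPt_mul, ← bcPt_comp, sw, lift_snd_assoc, lift_fst_assoc, lift_fst]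
  have ht2 := bcPt_scale_hom sw hu hg ht
  rw [hswu, show bcPt sw γ₀ = γ₀ by simp only [γ₀, ← bcPt_comp, hswy]] at ht2
  -- the two axes
  let e₁ : Q ⟶ Q ⊗ Q := lift (𝟙 Q) (toUnit Q ≫ o)
  have haxis : bcPt e₁ (β₁ * β₂) = bcPt e₁ (β₂ * β₁) := by
    rw [bcPt_mul, bcPt_mul]
    refine commute_of_isOverPt_one hL ?_ _
    have h := isOverPt_baseChange (isBaseChange_bcPt e₁ β₁) h1
    rwa [lift_snd_assoc, Category.assoc, reassoc_of% hoj, ← Category.assoc, ← Hom.one_def, MonObj.one_comp] at h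
  have he : e₁.left.appTop t = e₁.left.appTop (sw.left.appTop t) := by
    refine scale_unique hL (bcPt_scale_hom e₁ hu hg ht) ?_
    rw [haxis]
    exact bcPt_scale_hom e₁ hv hg ht2
  -- symmetry of functions with equal restrictions to the axes
  let a := (fst Q Q).left.appTop ε
  let b := (snd Q Q).left.appTop ε
  obtain ⟨c₀, c₁, c₂, c₃, hc⟩ : ∃ c₀ c₁ c₂ c₃ : k, t = cst _ c₀ + cst _ c₁ * a + cst _ c₂ * b + cst _ c₃ * (a * b) := by
    obtain ⟨m, bb, -, -, hb⟩ := exists_coord Q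
    obtain ⟨r, hr, -⟩ := hb Q t
    choose p₀ p₁ hp using fun l => hspan (bb l)
    choose q₀ q₁ hq using fun l => hspan (r l)
    refine ⟨∑ l, q₀ l * p₀ l, ∑ l, q₀ l * p₁ l, ∑ l, q₁ l * p₀ l, ∑ l, q₁ l * p₁ l, ?_⟩
    rw [hr]
    simp only [map_sum, map_mul, Finset.sum_mul, ← Finset.sum_add_distrib, hp, hq, map_add, cst_appTop, a, b]
    exact Finset.sum_congr rfl fun l _ => by ring
  have hsw : sw.left.appTop t = cst _ c₀ + cst _ c₁ * b + cst _ c₂ * a + cst _ c₃ * (b * a) := by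
    simp only [hc, map_add, map_mul, cst_appTop, a, b, appTop_comp_apply, ← Over.comp_left, sw, lift_fst, lift_snd]
  rw [hsw, hc] at he
  simp only [map_add, map_mul, cst_appTop, a, b, appTop_comp_apply, ← Over.comp_left, e₁, lift_fst, lift_snd,
    Over.id_left, Scheme.Hom.id_appTop] at he
  simp only [hoε, MulZeroClass.mul_zero, MulZeroClass.zero_mul, add_zero] at he
  have he' : cst Q c₁ * ε = cst Q c₂ * ε := add_left_cancel he
  have heq : sw.left.appTop t = t := by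
    have ha := congrArg (fst Q Q).left.appTop he'
    have hb := congrArg (snd Q Q).left.appTop he'
    simp only [map_mul, cst_appTop] at ha hb
    rw [hsw, hc]
    linear_combination hb - ha
  rw [heq] at ht2
  apply Subtype.ext
  apply Aut.ext
  exact ht.trans ht2.symm

/-- A non-trivial finite subgroup with a lift contains a non-trivial isotropic closed subgroup. -/
theorem exists_isotropic_sub (hL : PicF.IsInvertible L) {βK : ThetaGrp.thetaPts A L K}
    (hβK : ThetaGrp.IsOverPt βK iK) (hne : iK ≠ 1) :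
    ∃ (C : Over (Spec (CommRingCat.of k))) (_ : GrpObj C) (j : C ⟶ A), IsMonHom j ∧ IsClosedImmersion j.left ∧
      IsFinite C.hom ∧ j ≠ 1 ∧ ThetaGrp.IsIsotropic L j ∧ ∃ z : C ⟶ K, z ≫ iK = j := by
  obtain ⟨Q, jQ, hQf, hQn, hxne, hself⟩ := exists_selfPerp hL hβK hne
  haveI := hQf; haveI := hQn
  have hβQ : ThetaGrp.IsOverPt (bcPt jQ βK) (jQ ≫ iK) := isOverPt_baseChange (isBaseChange_bcPt jQ βK) hβK
  obtain ⟨C₁, g₁, j₁, hj₁, hc₁, hf₁, hC₁⟩ := exists_perp hL hβK hβQ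
  haveI := hj₁; haveI := hc₁; haveI := hf₁
  obtain ⟨⟨z₁, hz₁⟩, hperp₁⟩ := (hC₁ C₁ j₁).1 ⟨𝟙 _, Category.id_comp _⟩
  have hβ₁ : ThetaGrp.IsOverPt (bcPt z₁ βK) j₁ := by
    rw [← hz₁]; exact isOverPt_baseChange (isBaseChange_bcPt z₁ βK) hβK
  haveI : Nonempty C₁.left := ⟨(η[C₁]).left (IsLocalRing.closedPoint k)⟩
  obtain ⟨C, gC, j, hj, hc, hf, hC⟩ := exists_perp hL hβ₁ hβ₁
  obtain ⟨⟨z, hz⟩, hperp⟩ := (hC C j).1 ⟨𝟙 _, Category.id_comp _⟩
  refine ⟨C, gC, j, hj, hc, hf, fun h => ?_, fun T x y β β' hβ hβ' => ?_, z ≫ z₁, by rw [Category.assoc, hz₁, hz]⟩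
  · obtain ⟨c, hc'⟩ := (hC Q (jQ ≫ iK)).2 ⟨(hC₁ Q (jQ ≫ iK)).2 ⟨⟨jQ, rfl⟩, hself⟩, fun T' f y β β' hβ hβ' => by
      obtain ⟨-, hy⟩ := (hC₁ T' (y ≫ j₁)).1 ⟨y, rfl⟩
      exact (hy T' (𝟙 T') f β' β (by rw [Category.id_comp]; exact hβ') hβ).symm⟩
    exact hxne (by rw [← hc', h, MonObj.comp_one])
  · exact hperp T x (y ≫ z) β β' hβ (by rw [Category.assoc, hz]; exact hβ')

end Groth.Agent.H26Theta
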