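import Groth.Agent.H25Theta.Basic
import Groth.Agent.H19Grp.Transporter

/-!
# The group structure of `K(L)`
-/

set_option autoImplicit false
set_option linter.style.haveILetI false
set_option linter.unusedSectionVars false
set_option backward.isDefEq.respectTransparency false
set_option backward.isDefEq.respectTransparency.types false
universe u

open CategoryTheory CategoryTheory.Limits MonoidalCategory CartesianMonoidalCategory MonObj AlgebraicGeometry
open Groth.Agent Groth.Agent.H25Theta

noncomputable section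

namespace Groth.Agent.H26Theta

variable {k : Type u} [Field k] {A : Over (Spec (CommRingCat.of k))} [GrpObj A] [IsProper A.hom]
  [GeometricallyIntegral A.hom] {L : A.left.Modules}

theorem exists_grpObj_KL (hL : PicF.IsInvertible L) {K : Over (Spec (CommRingCat.of k))} {iK : K ⟶ A}
    (hK : ThetaGrp.IsKL A L iK) : ∃ _ : GrpObj K, IsMonHom iK := by
  haveI := hK.closed
  haveI : Mono iK := Over.mono_of_mono_left iK
  have hiff : ∀ (T : Over (Spec (CommRingCat.of k))) (x : T ⟶ A),
      (∃ y : T ⟶ K, y ≫ iK = x) ↔ ∃ M, PicF.IsInvertible M ∧ IsTranslEq A L x M :=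
    fun T x => (hK.univ T x).symm.trans (mumford_iff A L hL x)
  refine H19Grp.exists_grpObj_of_closed iK ((hiff _ 1).2 ⟨_, H11Ample.isInvertible_structureModule, isTranslEq_one A L⟩)
    (fun T a b => ?_) fun T a => ?_
  · obtain ⟨M, hM, h⟩ := (hiff T (a ≫ iK)).1 ⟨a, rfl⟩
    obtain ⟨N, hN, h'⟩ := (hiff T (b ≫ iK)).1 ⟨b, rfl⟩
    exact (hiff T _).2 ⟨_, H11Ample.isInvertible_tensor hM hN, isTranslEq_mul A L h h'⟩
  · obtain ⟨M, hM, h⟩ := (hiff T (a ≫ iK)).1 ⟨a, rfl⟩
    obtain ⟨N, hN, h'⟩ := isTranslEq_inv A L hM h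
    exact (hiff T _).2 ⟨N, hN, h'⟩

end Groth.Agent.H26Theta
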