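import Groth.Agent.H26Theta.FinSplit
import Groth.Agent.H19Grp.Transporter

/-!
# The orthogonal of a finite subscheme of `K(L)`
-/

set_option autoImplicit false
set_option linter.style.haveILetI false
set_option linter.unusedSectionVars false
set_option backward.isDefEq.respectTransparency false
set_option backward.isDefEq.respectTransparency.types false
universe u

open CategoryTheory CategoryTheory.Limits MonoidalCategory CartesianMonoidalCategory MonObj AlgebraicGeometry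
open Opposite TopologicalSpace Pseudofunctor Groth.Agent
open Groth.Agent.H25Theta (pb IsTranslEq mumford_iff)

noncomputable section

namespace Groth.Agent.H26Theta

/-- Factorisation through the closed subscheme of an ideal of an affine scheme. -/
theorem exists_zero_locus {K : Scheme.{u}} [IsAffine K] (I : Ideal Γ(K, ⊤)) :
    ∃ (Z : Scheme.{u}) (j : Z ⟶ K), IsClosedImmersion j ∧ (∀ a, j.appTop a = 0 ↔ a ∈ I) ∧
      Function.Surjective j.appTop ∧ ∀ (T : Scheme.{u}) (z : T ⟶ K),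
        (∃ c : T ⟶ Z, c ≫ j = z) ↔ ∀ a ∈ I, z.appTop a = 0 := by
  let q := CommRingCat.ofHom (Ideal.Quotient.mk I)
  let j := Spec.map q ≫ K.isoSpec.inv
  haveI : IsClosedImmersion (Spec.map q) := IsClosedImmersion.spec_of_surjective q Ideal.Quotient.mk_surjective
  have hj : j.appTop = q ≫ (Scheme.ΓSpecIso _).inv := by
    simp only [j, Scheme.Hom.comp_appTop]
    have e : K.isoSpec.inv.appTop = (Scheme.ΓSpecIso Γ(K, ⊤)).inv := by
      rw [← cancel_mono (Scheme.ΓSpecIso Γ(K, ⊤)).hom, Iso.inv_hom_id, ← Scheme.toSpecΓ_appTop,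
        ← Scheme.Hom.comp_appTop, Scheme.toSpecΓ_isoSpec_inv]
      rfl
    rw [e, ← Scheme.ΓSpecIso_inv_naturality]
  have hinv := ConcreteCategory.bijective_of_isIso (Scheme.ΓSpecIso (CommRingCat.of (Γ(K, ⊤) ⧸ I))).inv
  refine ⟨_, j, inferInstanceAs (IsClosedImmersion (_ ≫ _)), fun a => ?_, ?_, fun T z => ⟨fun ⟨c, hc⟩ a ha => ?_, fun h => ?_⟩⟩
  · rw [hj]
    exact ⟨fun h => Ideal.Quotient.eq_zero_iff_mem.1 (hinv.1 (h.trans (map_zero _).symm)),
      fun h => by
        show (Scheme.ΓSpecIso (CommRingCat.of (Γ(K, ⊤) ⧸ I))).inv (Ideal.Quotient.mk I a) = 0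
        rw [Ideal.Quotient.eq_zero_iff_mem.2 h, map_zero]⟩
  · rw [hj]
    exact hinv.2.comp Ideal.Quotient.mk_surjective
  · rw [← hc, Scheme.Hom.comp_appTop, hj]
    show c.appTop ((Scheme.ΓSpecIso _).inv (Ideal.Quotient.mk I a)) = 0
    rw [Ideal.Quotient.eq_zero_iff_mem.2 ha, map_zero, map_zero]
  · let φ := CommRingCat.ofHom (Ideal.Quotient.lift I z.appTop.hom h)
    refine ⟨T.toSpecΓ ≫ Spec.map φ, ext_of_isAffine ?_⟩
    rw [Scheme.Hom.comp_appTop, hj, Scheme.Hom.comp_appTop]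
    have e2 := Scheme.ΓSpecIso_inv_naturality φ
    simp only [Category.assoc, ← reassoc_of% e2]
    simp
    ext a
    rfl

variable {k : Type u} [Field k] {A : Over (Spec (CommRingCat.of k))} [GrpObj A] [IsCommMonObj A] [IsProper A.hom]
  [GeometricallyIntegral A.hom] {L : A.left.Modules}

theorem bcPt_scale_hom {T T' : Over (Spec (CommRingCat.of k))} (g : T' ⟶ T) {u v : ThetaGrp.thetaPts A L T}
    {x : T ⟶ A} (hu : ThetaGrp.IsOverPt u x) (hv : ThetaGrp.IsOverPt v x) {t : Γ(T.left, ⊤)}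
    (h : u.1.hom = premul v.1.hom ((snd A T).left.appTop t)) :
    (bcPt g u).1.hom = premul (bcPt g v).1.hom ((snd A T').left.appTop (g.left.appTop t)) := by
  haveI := isIso_fib_bcLift A L g
  have h1 : (bcPt g u).1.hom ≫ ThetaGrp.bcLift A L g = ThetaGrp.bcLift A L g ≫ u.1.hom := isBaseChange_bcPt g u
  have h2 : (bcPt g v).1.hom ≫ ThetaGrp.bcLift A L g = ThetaGrp.bcLift A L g ≫ v.1.hom := isBaseChange_bcPt g v
  refine cart_ext (ThetaGrp.bcLift A L g) ?_ ?_
  · exact (isOverPt_baseChange (isBaseChange_bcPt g u) hu).trans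
      (isOverPt_baseChange (isBaseChange_bcPt g v) hv).symm
  · rw [h1, premul_comp, h2, h, comp_premul]
    congr 1
    rw [appTop_comp_apply, appTop_comp_apply, ← Over.comp_left]
    show (A ◁ g ≫ snd A T).left.appTop t = _
    rw [whiskerLeft_snd]

theorem exists_scale_of_isOverPt (hL : PicF.IsInvertible L) {T : Over (Spec (CommRingCat.of k))}
    {u v : ThetaGrp.thetaPts A L T} {x : T ⟶ A} (hu : ThetaGrp.IsOverPt u x) (hv : ThetaGrp.IsOverPt v x) :
    ∃ t : Γ(T.left, ⊤), u.1.hom = premul v.1.hom ((snd A T).left.appTop t) := by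
  haveI := isIso_fib v.1
  obtain ⟨r, hr⟩ := exists_premul_eq (H11Ample.isInvertible_pullback _ hL) u.1.hom v.1.hom (hu.trans hv.symm)
  obtain ⟨t, rfl⟩ := exists_appTop_snd T r
  exact ⟨t, hr⟩

theorem scale_eq_one_iff (hL : PicF.IsInvertible L) {T : Over (Spec (CommRingCat.of k))}
    {u v : ThetaGrp.thetaPts A L T} {t : Γ(T.left, ⊤)}
    (h : u.1.hom = premul v.1.hom ((snd A T).left.appTop t)) : u = v ↔ t = 1 := by
  haveI := isIso_fib v.1
  refine ⟨fun e => appTop_snd_injective (A := A) T ?_, fun e => ?_⟩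
  · rw [map_one]
    refine premul_injective (H11Ample.isInvertible_pullback _ hL) v.1.hom ?_
    rw [← h, e, premul_one]
  · apply Subtype.ext
    apply Aut.ext
    rw [h, e, map_one, premul_one]

variable {Q : Over (Spec (CommRingCat.of k))} {m : ℕ} (b : Fin m → Γ(Q.left, ⊤))

/-- A function given by coordinates on a product with a finite scheme. -/
def coord (T : Over (Spec (CommRingCat.of k))) (r : Fin m → Γ(T.left, ⊤)) : Γ((Q ⊗ T).left, ⊤) :=
  ∑ j, (snd Q T).left.appTop (r j) * (fst Q T).left.appTop (b j)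

theorem coord_map {T T' : Over (Spec (CommRingCat.of k))} (g : T' ⟶ T) (r : Fin m → Γ(T.left, ⊤)) :
    (Q ◁ g).left.appTop (coord b T r) = coord b T' (fun j => g.left.appTop (r j)) := by
  simp only [coord, map_sum, map_mul, appTop_comp_apply, ← Over.comp_left, whiskerLeft_snd, whiskerLeft_fst]

theorem coord_zero (T : Over (Spec (CommRingCat.of k))) : coord b T 0 = 0 :=
  Finset.sum_eq_zero fun j _ => by rw [Pi.zero_apply, map_zero, MulZeroClass.zero_mul]

variable {K : Over (Spec (CommRingCat.of k))} {iK : K ⟶ A} {iQ : Q ⟶ A}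

/-- Orthogonality through chosen lifts. -/
theorem isPerpPt_iff (hL : PicF.IsInvertible L) {βK : ThetaGrp.thetaPts A L K} (hβK : ThetaGrp.IsOverPt βK iK)
    {βQ : ThetaGrp.thetaPts A L Q} (hβQ : ThetaGrp.IsOverPt βQ iQ) {T : Over (Spec (CommRingCat.of k))}
    (z : T ⟶ K) : ThetaGrp.IsPerpPt L iQ (z ≫ iK) ↔
      bcPt (snd Q T ≫ z) βK * bcPt (fst Q T) βQ = bcPt (fst Q T) βQ * bcPt (snd Q T ≫ z) βK := by
  constructor
  · intro h
    refine h _ (snd Q T) (fst Q T) _ _ ?_ (isOverPt_baseChange (isBaseChange_bcPt _ _) hβQ)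
    rw [← Category.assoc]
    exact isOverPt_baseChange (isBaseChange_bcPt _ _) hβK
  · intro h T' f y β₁ β₂ h₁ h₂
    have h' := congrArg (bcPt (lift y f)) h
    simp only [bcPt_mul, ← bcPt_comp, lift_fst, lift_snd_assoc] at h'
    refine commute_congr hL ?_ h₁ ?_ h₂ h'
    · rw [← Category.assoc]
      exact isOverPt_baseChange (isBaseChange_bcPt _ _) hβK
    · exact isOverPt_baseChange (isBaseChange_bcPt _ _) hβQ

theorem isPerpPt_comp {T T' : Over (Spec (CommRingCat.of k))} (g : T' ⟶ T) {x : T ⟶ A}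
    (h : ThetaGrp.IsPerpPt L iQ x) : ThetaGrp.IsPerpPt L iQ (g ≫ x) :=
  fun T'' f y β₁ β₂ h₁ h₂ => h T'' (f ≫ g) y β₁ β₂ (by rw [Category.assoc]; exact h₁) h₂

variable [GrpObj K] [IsMonHom iK] [IsClosedImmersion iK.left] [IsFinite K.hom] [IsFinite Q.hom] [Nonempty Q.left]

set_option maxHeartbeats 1600000 in
/-- The points orthogonal to a finite scheme form a closed subgroup. -/
theorem exists_perp (hL : PicF.IsInvertible L) {βK : ThetaGrp.thetaPts A L K} (hβK : ThetaGrp.IsOverPt βK iK)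
    {βQ : ThetaGrp.thetaPts A L Q} (hβQ : ThetaGrp.IsOverPt βQ iQ) :
    ∃ (C : Over (Spec (CommRingCat.of k))) (_ : GrpObj C) (j : C ⟶ A), IsMonHom j ∧ IsClosedImmersion j.left ∧
      IsFinite C.hom ∧ ∀ (T : Over (Spec (CommRingCat.of k))) (x : T ⟶ A),
        (∃ c : T ⟶ C, c ≫ j = x) ↔ (∃ z : T ⟶ K, z ≫ iK = x) ∧ ThetaGrp.IsPerpPt L iQ x := by
  haveI : IsAffine K.left := isAffine_of_isAffineHom K.hom
  haveI : Mono iK := Over.mono_of_mono_left iK
  obtain ⟨m, b, -, -, hb⟩ := exists_coord Q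
  let uu := bcPt (snd Q K) βK * bcPt (fst Q K) βQ
  let vv := bcPt (fst Q K) βQ * bcPt (snd Q K) βK
  have hKo := isOverPt_baseChange (isBaseChange_bcPt (snd Q K) βK) hβK
  have hQo := isOverPt_baseChange (isBaseChange_bcPt (fst Q K) βQ) hβQ
  have hu := isOverPt_mul hKo hQo
  have hv : ThetaGrp.IsOverPt vv ((fst Q K ≫ iQ) * (snd Q K ≫ iK)) := by
    rw [mul_comm]; exact isOverPt_mul hQo hKo
  obtain ⟨t, ht⟩ := exists_scale_of_isOverPt hL hu hv
  obtain ⟨r, hr, -⟩ := hb K (t - 1)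
  have hloc : ∀ {T : Over (Spec (CommRingCat.of k))} (z : T ⟶ K),
      ThetaGrp.IsPerpPt L iQ (z ≫ iK) ↔ (Q ◁ z).left.appTop t = 1 := fun {T} z => by
    rw [isPerpPt_iff hL hβK hβQ z, ← scale_eq_one_iff hL (bcPt_scale_hom (Q ◁ z) hu hv ht), bcPt_mul, bcPt_mul]
    simp only [← bcPt_comp, whiskerLeft_fst, whiskerLeft_snd]
  have hrt : ∀ {T : Over (Spec (CommRingCat.of k))} (z : T ⟶ K),
      (Q ◁ z).left.appTop t - 1 = coord b T (fun l => z.left.appTop (r l)) := fun z => by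
    rw [← coord_map, ← map_one (Q ◁ z).left.appTop.hom]
    exact (map_sub (Q ◁ z).left.appTop.hom t 1).symm.trans (congrArg (Q ◁ z).left.appTop hr)
  have hkey : ∀ {T : Over (Spec (CommRingCat.of k))} (z : T ⟶ K),
      ThetaGrp.IsPerpPt L iQ (z ≫ iK) ↔ ∀ l, z.left.appTop (r l) = 0 := fun {T} z => by
    constructor
    · intro h l
      refine TopCat.Sheaf.eq_of_locally_eq' T.left.sheaf (fun U : T.left.affineOpens => U.1) ⊤
        (fun U => homOfLE le_top) (fun x _ => ?_) _ 0 fun U => ?_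
      · obtain ⟨U, hU, hxU, -⟩ := exists_isAffineOpen_mem_and_subset (X := T.left) (x := x) (U := ⊤) trivial
        exact Opens.mem_iSup.2 ⟨⟨U, hU⟩, hxU⟩
      · let T₁ := Over.mk (U.1.ι ≫ T.hom)
        let w : T₁ ⟶ T := Over.homMk U.1.ι rfl
        haveI : IsAffine T₁.left := U.2
        have h1 : ThetaGrp.IsPerpPt L iQ ((w ≫ z) ≫ iK) := by rw [Category.assoc]; exact isPerpPt_comp w h
        rw [hloc, ← sub_eq_zero, hrt, ← coord_zero b T₁] at h1
        have h2 := congrFun ((hb T₁ _).unique rfl h1) l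
        change (U.1.ι ≫ z.left).appTop (r l) = 0 at h2
        rw [← appTop_comp_apply] at h2
        have hι : (U.1.ι).appTop = T.left.presheaf.map (homOfLE le_top).op ≫ U.1.topIso.inv := by
          simp [Scheme.Opens.topIso, ← Functor.map_comp]
        rw [hι] at h2
        exact ((ConcreteCategory.bijective_of_isIso U.1.topIso.inv).1 (h2.trans (map_zero _).symm)).trans
          (map_zero _).symm
    · intro h
      rw [hloc, ← sub_eq_zero, hrt]
      rw [show (fun l => z.left.appTop (r l)) = 0 from funext h, coord_zero]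
  obtain ⟨Z, jZ, hjZ, -, -, hZ⟩ := exists_zero_locus (Ideal.span (Set.range r))
  haveI := hjZ
  let C : Over (Spec (CommRingCat.of k)) := Over.mk (jZ ≫ K.hom)
  let j₀ : C ⟶ K := Over.homMk jZ rfl
  let j : C ⟶ A := j₀ ≫ iK
  haveI : IsClosedImmersion j.left := inferInstanceAs (IsClosedImmersion (jZ ≫ iK.left))
  haveI : Mono j := Over.mono_of_mono_left j
  have hfac : ∀ (T : Over (Spec (CommRingCat.of k))) (x : T ⟶ A),
      (∃ c : T ⟶ C, c ≫ j = x) ↔ (∃ z : T ⟶ K, z ≫ iK = x) ∧ ThetaGrp.IsPerpPt L iQ x := by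
    intro T x
    constructor
    · rintro ⟨c, rfl⟩
      refine ⟨⟨c ≫ j₀, Category.assoc _ _ _⟩, ?_⟩
      rw [show c ≫ j = (c ≫ j₀) ≫ iK from (Category.assoc _ _ _).symm, hkey]
      exact fun l => (hZ T.left (c.left ≫ jZ)).1 ⟨c.left, rfl⟩ _ (Ideal.subset_span ⟨l, rfl⟩)
    · rintro ⟨⟨z, rfl⟩, hp⟩
      obtain ⟨c, hc⟩ := (hZ T.left z.left).2 fun a ha => by
        have hle : Ideal.span (Set.range r) ≤ RingHom.ker z.left.appTop.hom :=
          Ideal.span_le.2 (by rintro _ ⟨l, rfl⟩; exact (hkey z).1 hp l)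
        exact hle ha
      refine ⟨Over.homMk c (by show c ≫ jZ ≫ K.hom = _; rw [reassoc_of% hc, Over.w z]), ?_⟩
      rw [← Category.assoc]
      exact congrArg (· ≫ iK) (Over.OverMorphism.ext hc)
  obtain ⟨gC, hj⟩ := H19Grp.exists_grpObj_of_closed j
    ((hfac _ 1).2 ⟨⟨1, MonObj.one_comp iK⟩, by
      rw [← MonObj.one_comp iK, isPerpPt_iff hL hβK hβQ]
      exact commute_of_isOverPt_one hL (by
        have h := isOverPt_baseChange (isBaseChange_bcPt (snd Q (𝟙_ _) ≫ (1 : 𝟙_ _ ⟶ K)) βK) hβK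
        rwa [Category.assoc, MonObj.one_comp iK, MonObj.comp_one (snd Q (𝟙_ (Over (Spec (CommRingCat.of k))))) (M := A)] at h) _⟩)
    (fun T a c => by
      obtain ⟨⟨za, hza⟩, ha⟩ := (hfac T (a ≫ j)).1 ⟨a, rfl⟩
      obtain ⟨⟨zc, hzc⟩, hc⟩ := (hfac T (c ≫ j)).1 ⟨c, rfl⟩
      refine (hfac T _).2 ⟨⟨za * zc, by rw [MonObj.mul_comp, hza, hzc]⟩, fun T' f y β₁ β₂ h₁ h₂ => ?_⟩
      let βa := bcPt (f ≫ za) βK
      let βc := bcPt (f ≫ zc) βK
      have oa : ThetaGrp.IsOverPt βa (f ≫ a ≫ j) := by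
        have h := isOverPt_baseChange (isBaseChange_bcPt (f ≫ za) βK) hβK
        rwa [Category.assoc, hza] at h
      have oc : ThetaGrp.IsOverPt βc (f ≫ c ≫ j) := by
        have h := isOverPt_baseChange (isBaseChange_bcPt (f ≫ zc) βK) hβK
        rwa [Category.assoc, hzc] at h
      have hac : Commute (βa * βc) β₂ :=
        Commute.mul_left (ha T' f y βa β₂ oa h₂) (hc T' f y βc β₂ oc h₂)
      refine commute_congr hL (isOverPt_mul oa oc) ?_ h₂ h₂ hac.eq
      rw [mul_comm, ← MonObj.comp_mul]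
      exact h₁)
    (fun T a => by
      obtain ⟨⟨za, hza⟩, ha⟩ := (hfac T (a ≫ j)).1 ⟨a, rfl⟩
      refine (hfac T _).2 ⟨⟨za⁻¹, by rw [GrpObj.inv_comp, hza]⟩, fun T' f y β₁ β₂ h₁ h₂ => ?_⟩
      have oa : ThetaGrp.IsOverPt (bcPt (f ≫ za) βK) (f ≫ a ≫ j) := by
        have h := isOverPt_baseChange (isBaseChange_bcPt (f ≫ za) βK) hβK
        rwa [Category.assoc, hza] at h
      refine commute_congr hL (isOverPt_inv oa) ?_ h₂ h₂
        (Commute.inv_left (ha T' f y _ β₂ oa h₂)).eq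
      rw [← GrpObj.comp_inv]
      exact h₁)
  exact ⟨C, gC, j, hj, inferInstance, inferInstanceAs (IsFinite (jZ ≫ K.hom)), hfac⟩

/-- A finite subscheme of `K(L)` has a point of the theta group over it. -/
theorem exists_finite_lift (hL : PicF.IsInvertible L) {P : Over (Spec (CommRingCat.of k))} [IsFinite P.hom]
    (iP : P ⟶ A) (h : ThetaGrp.IsMumfordTriv A L iP) :
    ∃ β : ThetaGrp.thetaPts A L P, ThetaGrp.IsOverPt β iP := by
  haveI : IsAffine P.left := isAffine_of_isAffineHom P.hom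
  obtain ⟨M, hMi, hMe⟩ := (mumford_iff A L hL iP).1 h
  haveI : Subsingleton ↥(Spec (CommRingCat.of k)) := inferInstanceAs (Subsingleton (PrimeSpectrum k))
  have huniv : (Set.univ : Set P.left).Finite :=
    (P.hom.finite_preimage_singleton (IsLocalRing.closedPoint k)).subset fun z _ =>
      Set.mem_singleton_iff.2 (Subsingleton.elim _ _)
  obtain ⟨s, hs⟩ := H26Base.exists_gen_of_local hMi huniv fun x V hx => H26Base.exists_gen_le_of_isAffine hMi x V hx
  haveI : IsIso (H11Tilde.homOfGlobal M s) := by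
    refine H11Tilde.isIso_homOfGlobal _ _ fun W => ?_
    have h := (H11Ample.isGen_gen (L := M) s).bijective (W := W) fun z _ => hs (Set.mem_univ z)
    rwa [H10Coh.mres_mres] at h
  exact (exists_pt_iff A L iP).2 (H25Theta.isTranslEq_congr A L (asIso (H11Tilde.homOfGlobal M s)).symm hMe)

end Groth.Agent.H26Theta
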