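import Groth.Agent.H25Theta.Basic

/-!
# Points of the theta group from isomorphisms of modules
-/

set_option autoImplicit false
set_option linter.style.haveILetI false
set_option backward.isDefEq.respectTransparency false
set_option backward.isDefEq.respectTransparency.types false
universe u

open CategoryTheory CategoryTheory.Limits MonoidalCategory CartesianMonoidalCategory MonObj AlgebraicGeometry
open Pseudofunctor Bicategory Groth.Agent
open Groth.Agent.H25Theta (pb pC pI pT pO tI IsTranslEq mumford_iff)

noncomputable section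

namespace Groth.Agent.H26Theta

/-- Pullback along an isomorphism is an equivalence. -/
theorem isEquivalence_pullback {X Y : Scheme.{u}} (f : X ⟶ Y) [IsIso f] :
    (Scheme.Modules.pullback f).IsEquivalence :=
  (CategoryTheory.Equivalence.mk (Scheme.Modules.pullback f) (Scheme.Modules.pullback (inv f))
    ((Scheme.Modules.pullbackId Y).symm ≪≫ Scheme.Modules.pullbackCongr (IsIso.inv_hom_id f).symm ≪≫
      (Scheme.Modules.pullbackComp (inv f) f).symm)
    (Scheme.Modules.pullbackComp f (inv f) ≪≫ Scheme.Modules.pullbackCongr (IsIso.hom_inv_id f) ≪≫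
      Scheme.Modules.pullbackId X)).isEquivalence_functor

/-- The category of schemes with a module. -/
abbrev Pairs := CoGrothendieck (ThetaGrp.modPF.{u})

/-- The fibre component of a morphism of pairs. -/
abbrev fib {a b : Pairs.{u}} (g : a ⟶ b) : (a.fiber : a.base.Modules) ⟶ (Scheme.Modules.pullback g.base).obj b.fiber :=
  g.fiber

theorem comp_fiber' {a b c : Pairs.{u}} (f : a ⟶ b) (g : b ⟶ c) :
    fib (f ≫ g) = fib f ≫ (Scheme.Modules.pullback f.base).map (fib g) ≫
      (Scheme.Modules.pullbackComp f.base g.base).hom.app c.fiber := rfl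

theorem id_fiber' (a : Pairs.{u}) : fib (𝟙 a) = (Scheme.Modules.pullbackId a.base).inv.app a.fiber := rfl

/-- A morphism of pairs with isomorphisms as components has a one sided inverse of the same kind. -/
theorem exists_right_inv {a b : Pairs.{u}} (g : a ⟶ b) [IsIso g.base] [IsIso (fib g)] :
    ∃ h : b ⟶ a, g ≫ h = 𝟙 a ∧ IsIso h.base ∧ IsIso (fib h) := by
  haveI := isEquivalence_pullback g.base
  have w : g.base ≫ inv g.base = 𝟙 a.base := IsIso.hom_inv_id g.base
  let t : (Scheme.Modules.pullback g.base).obj b.fiber ⟶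
      (Scheme.Modules.pullback g.base).obj ((Scheme.Modules.pullback (inv g.base)).obj a.fiber) :=
    inv (fib g) ≫ (Scheme.Modules.pullbackId a.base).inv.app a.fiber ≫
      (Scheme.Modules.pullbackCongr w).inv.app a.fiber ≫
      (Scheme.Modules.pullbackComp g.base (inv g.base)).inv.app a.fiber
  let ψ := (Scheme.Modules.pullback g.base).preimage t
  haveI : IsIso t := inferInstance
  haveI : IsIso ψ := by
    haveI : IsIso ((Scheme.Modules.pullback g.base).map ψ) := by rw [Functor.map_preimage]; infer_instance
    exact isIso_of_reflects_iso ψ (Scheme.Modules.pullback g.base)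
  refine ⟨{ base := inv g.base, fiber := ψ }, ?_, inferInstanceAs (IsIso (inv g.base)), inferInstanceAs (IsIso ψ)⟩
  refine CoGrothendieck.Hom.ext _ _ w ?_
  show fib g ≫ (Scheme.Modules.pullback g.base).map ψ ≫
    (Scheme.Modules.pullbackComp g.base (inv g.base)).hom.app a.fiber = _
  rw [Functor.map_preimage]
  simp only [t, Category.assoc, IsIso.hom_inv_id_assoc, Iso.inv_hom_id_app]
  erw [Category.comp_id]
  exact congrArg (fib (𝟙 a) ≫ ·) (by simp [Scheme.Modules.pullbackCongr])

/-- A morphism of pairs with isomorphisms as components is an isomorphism. -/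
theorem isIso_of_components {a b : Pairs.{u}} (g : a ⟶ b) [IsIso g.base] [IsIso (fib g)] : IsIso g := by
  obtain ⟨h, hgh, h1, h2⟩ := exists_right_inv g
  haveI := h1
  haveI := h2
  obtain ⟨g', hg', -, -⟩ := exists_right_inv h
  have : g = g' := by rw [← Category.comp_id g, ← hg', reassoc_of% hgh]
  exact ⟨h, hgh, this ▸ hg'⟩

/-- The components of an isomorphism of pairs are isomorphisms. -/
theorem isIso_fib {a b : Pairs.{u}} (α : a ≅ b) : IsIso (fib α.hom) := by
  have h1 : IsIso (fib (α.hom ≫ α.inv)) := by
    rw [α.hom_inv_id, id_fiber']; infer_instance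
  have h2 : IsIso (fib (α.inv ≫ α.hom)) := by
    rw [α.inv_hom_id, id_fiber']; infer_instance
  rw [comp_fiber'] at h1 h2
  haveI : IsIso α.inv.base := ((CoGrothendieck.forget _).mapIso α.symm).isIso_hom
  haveI := isEquivalence_pullback α.inv.base
  -- the second identity makes the pullback of the component a split epimorphism
  haveI e1 : IsSplitMono (fib α.hom) := IsSplitMono.mk'
    { retraction := ((Scheme.Modules.pullback α.hom.base).map (fib α.inv) ≫
        (Scheme.Modules.pullbackComp α.hom.base α.inv.base).hom.app a.fiber) ≫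
        @inv _ _ _ _ (fib α.hom ≫ (Scheme.Modules.pullback α.hom.base).map (fib α.inv) ≫
          (Scheme.Modules.pullbackComp α.hom.base α.inv.base).hom.app a.fiber) h1
      id := by simp [← Category.assoc] }
  haveI : IsSplitEpi ((Scheme.Modules.pullback α.inv.base).map (fib α.hom)) := IsSplitEpi.mk'
    { section_ := (Scheme.Modules.pullbackComp α.inv.base α.hom.base).hom.app b.fiber ≫
        @inv _ _ _ _ (fib α.inv ≫ (Scheme.Modules.pullback α.inv.base).map (fib α.hom) ≫
          (Scheme.Modules.pullbackComp α.inv.base α.hom.base).hom.app b.fiber) h2 ≫ fib α.inv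
      id := by
        rw [← cancel_mono ((Scheme.Modules.pullbackComp α.inv.base α.hom.base).hom.app b.fiber)]
        simp only [Category.assoc]
        rw [IsIso.inv_hom_id]
        simp }
  haveI : IsIso ((Scheme.Modules.pullback α.inv.base).map (fib α.hom)) := isIso_of_mono_of_isSplitEpi _
  exact isIso_of_reflects_iso (fib α.hom) (Scheme.Modules.pullback α.inv.base)

variable {k : Type u} [Field k] (A : Over (Spec (CommRingCat.of k))) [GrpObj A] (L : A.left.Modules)

theorem isIso_transl_left {T : Over (Spec (CommRingCat.of k))} (x : T ⟶ A) :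
    IsIso (ThetaGrp.transl A x).left := by
  have h : ∀ a b : T ⟶ A, a * b = 1 → (ThetaGrp.transl A a).left ≫ (ThetaGrp.transl A b).left = 𝟙 _ :=
    fun a b hab => by rw [← Over.comp_left, ← ThetaGrp.transl_mul, hab, ThetaGrp.transl_one]; rfl
  exact ⟨_, h x x⁻¹ (mul_inv_cancel x), h x⁻¹ x (inv_mul_cancel x)⟩

/-- The point of the theta group given by a translation and an isomorphism of modules. -/
def mkPt {T : Over (Spec (CommRingCat.of k))} (x : T ⟶ A)
    (φ : pb (fst A T).left L ≅ pb (ThetaGrp.transl A x).left (pb (fst A T).left L)) :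
    ThetaGrp.thetaPts A L T := by
  let g : ThetaGrp.thetaObj A L T ⟶ ThetaGrp.thetaObj A L T := { base := (ThetaGrp.transl A x).left, fiber := φ.hom }
  haveI : IsIso g.base := isIso_transl_left A x
  haveI : IsIso (fib g) := φ.isIso_hom
  haveI := isIso_of_components g
  exact ⟨asIso g, x, rfl⟩

theorem isOverPt_mkPt {T : Over (Spec (CommRingCat.of k))} (x : T ⟶ A)
    (φ : pb (fst A T).left L ≅ pb (ThetaGrp.transl A x).left (pb (fst A T).left L)) :
    ThetaGrp.IsOverPt (mkPt A L x φ) x := rfl

/-- A point over a translation gives an isomorphism of modules. -/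
theorem exists_iso_of_isOverPt {T : Over (Spec (CommRingCat.of k))} {β : ThetaGrp.thetaPts A L T} {x : T ⟶ A}
    (h : ThetaGrp.IsOverPt β x) :
    Nonempty (pb (fst A T).left L ≅ pb (ThetaGrp.transl A x).left (pb (fst A T).left L)) := by
  haveI := isIso_fib β.1
  exact ⟨@asIso _ _ _ _ (fib β.1.hom) this ≪≫ (Scheme.Modules.pullbackCongr h).app _⟩

/-- Translation invariance as the existence of a point over the translation. -/
theorem exists_pt_iff {T : Over (Spec (CommRingCat.of k))} (x : T ⟶ A) :
    (∃ β : ThetaGrp.thetaPts A L T, ThetaGrp.IsOverPt β x) ↔ IsTranslEq A L x (Coh.structureModule T.left) := by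
  let a : CohB1.tensorMod (pb (fst A T).left L) (pb (snd A T).left (Coh.structureModule T.left)) ≅
      pb (fst A T).left L := tI (Iso.refl _) (pO _) ≪≫ H10Coh.Tw.rightUnitIso _
  let b : pb (ThetaGrp.transl A x ≫ fst A T).left L ≅ pb (ThetaGrp.transl A x).left (pb (fst A T).left L) :=
    (pC (ThetaGrp.transl A x).left (fst A T).left (by rw [Over.comp_left]) L).symm
  constructor
  · rintro ⟨β, h⟩
    obtain ⟨e⟩ := exists_iso_of_isOverPt A L h
    exact ⟨a ≪≫ e ≪≫ b.symm⟩
  · rintro ⟨e⟩
    exact ⟨mkPt A L x (a.symm ≪≫ e ≪≫ b), rfl⟩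

end Groth.Agent.H26Theta
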