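import Groth.Agent.H26Theta.IsotropicSub
import Groth.Agent.H26Theta.Effective
import Groth.Agent.H26Theta.ExistsKL
import Groth.Agent.H26Theta.FinRank
import Groth.Agent.H25Hat.Quotient
import Groth.Agent.S19773
import Groth.Agent.S19949
import Mathlib.AlgebraicGeometry.ZariskisMainTheorem

/-!
# The orthogonal of an isotropic subgroup and the rank of the quotient
-/

set_option autoImplicit false
set_option linter.style.haveILetI false
set_option linter.unusedSectionVars false
set_option backward.isDefEq.respectTransparency false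
set_option backward.isDefEq.respectTransparency.types false
set_option maxHeartbeats 1600000
universe u

open CategoryTheory CategoryTheory.Limits MonoidalCategory CartesianMonoidalCategory MonObj AlgebraicGeometry
open Opposite TopologicalSpace Pseudofunctor Groth.Agent
open Groth.Agent.H25Theta (pb tI IsTranslEq mumford_iff)

noncomputable section

namespace Groth.Agent.H26Theta

variable {k : Type u} [Field k] {A : Over (Spec (CommRingCat.of k))} [GrpObj A]
  {L L' : A.left.Modules}

/-- Isomorphic modules have isomorphic theta groups, over the translations. -/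
theorem exists_conj (e : L ≅ L') (T : Over (Spec (CommRingCat.of k))) :
    ∃ F : ThetaGrp.thetaPts A L T ≃* ThetaGrp.thetaPts A L' T,
      ∀ (β : ThetaGrp.thetaPts A L T) (x : T ⟶ A), ThetaGrp.IsOverPt (F β) x ↔ ThetaGrp.IsOverPt β x := by
  let q : ThetaGrp.thetaObj A L T ⟶ ThetaGrp.thetaObj A L' T :=
    pre (Y := (A ⊗ T).left) ((Scheme.Modules.pullback (fst A T).left).map e.hom)
  haveI : IsIso q.base := inferInstanceAs (IsIso (𝟙 _))
  haveI : IsIso (fib (𝟙 (ThetaGrp.thetaObj A L' T))) := by rw [id_fiber']; infer_instance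
  haveI : IsIso (fib q) := by
    show IsIso ((Scheme.Modules.pullback (fst A T).left).map e.hom ≫ fib (𝟙 (ThetaGrp.thetaObj A L' T)))
    infer_instance
  haveI := isIso_of_components q
  let α := asIso q
  have hαb : α.hom.base = 𝟙 _ := rfl
  have hαi : α.inv.base = 𝟙 _ := by
    have h : (α.hom ≫ α.inv).base = 𝟙 _ := by rw [Iso.hom_inv_id]; rfl
    exact (Category.id_comp _).symm.trans h
  have hb : ∀ g : Aut (ThetaGrp.thetaObj A L T), (Iso.conjAut α g).hom.base = g.hom.base := fun g => by
    show α.inv.base ≫ g.hom.base ≫ α.hom.base = _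
    rw [hαb, hαi, Category.id_comp]
    exact Category.comp_id _
  have hmap : (ThetaGrp.thetaPts A L T).map (Iso.conjAut α).toMonoidHom = ThetaGrp.thetaPts A L' T := by
    ext g
    constructor
    · rintro ⟨g, ⟨x, hx⟩, rfl⟩
      exact ⟨x, (hb g).trans hx⟩
    · rintro ⟨x, hx⟩
      refine ⟨(Iso.conjAut α).symm g, ⟨x, ?_⟩, (Iso.conjAut α).apply_symm_apply g⟩
      rw [← hb, MulEquiv.apply_symm_apply]
      exact hx
  refine ⟨((Iso.conjAut α).subgroupMap (ThetaGrp.thetaPts A L T)).trans (MulEquiv.subgroupCongr hmap), fun β x => ?_⟩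
  show (Iso.conjAut α β.1).hom.base = _ ↔ β.1.hom.base = _
  rw [hb]

theorem isPerpPt_iso (e : L ≅ L') {H : Over (Spec (CommRingCat.of k))} {iH : H ⟶ A}
    {T : Over (Spec (CommRingCat.of k))} {x : T ⟶ A} (h : ThetaGrp.IsPerpPt L iH x) :
    ThetaGrp.IsPerpPt L' iH x := fun T' f y β₁ β₂ h₁ h₂ => by
  obtain ⟨F, hF⟩ := exists_conj e T'
  have := congrArg F (h T' f y (F.symm β₁) (F.symm β₂) ((hF _ _).1 (by rwa [F.apply_symm_apply]))
    ((hF _ _).1 (by rwa [F.apply_symm_apply])))
  simpa only [map_mul, F.apply_symm_apply] using this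

variable [IsProper A.hom] [GeometricallyIntegral A.hom]

theorem isKL_iso (e : L ≅ L') (hL : PicF.IsInvertible L) {K : Over (Spec (CommRingCat.of k))} {iK : K ⟶ A}
    (hK : ThetaGrp.IsKL A L iK) : ThetaGrp.IsKL A L' iK := by
  have hL' : PicF.IsInvertible L' := H11Tilde.isInvertible_of_iso e hL
  refine ⟨hK.closed, fun T z => ?_⟩
  rw [← hK.univ T z, mumford_iff A L' hL' z, mumford_iff A L hL z]
  refine exists_congr fun M => and_congr_right fun _ => ?_
  constructor <;> rintro ⟨h⟩
  · exact ⟨tI ((Scheme.Modules.pullback _).mapIso e) (Iso.refl _) ≪≫ h ≪≫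
      (Scheme.Modules.pullback _).mapIso e.symm⟩
  · exact ⟨tI ((Scheme.Modules.pullback _).mapIso e.symm) (Iso.refl _) ≪≫ h ≪≫
      (Scheme.Modules.pullback _).mapIso e⟩

variable [IsAlgClosed k] [IsCommMonObj A]

/-- The quotient by a finite isotropic subgroup with the descended module and the facts on `K`. -/
theorem exists_quotient_perp (hL : PicF.IsInvertible L) {K : Over (Spec (CommRingCat.of k))} {iK : K ⟶ A}
    (hK : ThetaGrp.IsKL A L iK) [IsFinite K.hom] {C : Over (Spec (CommRingCat.of k))} [GrpObj C] (j : C ⟶ A)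
    [IsMonHom j] [IsClosedImmersion j.left] (hCK : ∃ y : C ⟶ K, y ≫ iK = j)
    (hiso : ThetaGrp.IsIsotropic L j) :
    ∃ (B : Over (Spec (CommRingCat.of k))) (_ : GrpObj B) (_ : IsCommMonObj B) (_ : IsProper B.hom)
      (_ : GeometricallyIntegral B.hom) (f : A ⟶ B) (_ : IsMonHom f) (_ : IsFinite f.left) (_ : Flat f.left)
      (M : B.left.Modules) (_ : PicF.IsInvertible M) (e : (Scheme.Modules.pullback f.left).obj M ≅ L)
      (KM : Over (Spec (CommRingCat.of k))) (iM : KM ⟶ B) (_ : IsFinite KM.hom) (d : ℕ),
      ThetaGrp.IsKL B M iM ∧ Surjective f.left ∧ AlgGrp.IsKernel j f ∧ IsFinite C.hom ∧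
      (∀ y, f.left.finrank y = d) ∧ (∀ s, C.hom.finrank s = d) ∧
      (∀ (T : Over (Spec (CommRingCat.of k))) (x : T ⟶ A),
        (∃ y : T ⟶ KM, y ≫ iM = x ≫ f) ↔ (∃ z : T ⟶ K, z ≫ iK = x) ∧ ThetaGrp.IsPerpPt L j x) ∧
      ∀ s, K.hom.finrank s = d ^ 2 * KM.hom.finrank s := by
  haveI := hK.closed
  obtain ⟨yC, hyC⟩ := hCK
  haveI : IsClosedImmersion yC.left := by
    haveI : IsClosedImmersion (yC.left ≫ iK.left) := by rw [← Over.comp_left, hyC]; infer_instance
    exact IsClosedImmersion.of_comp yC.left iK.left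
  haveI : IsFinite C.hom := by rw [← Over.w yC]; infer_instance
  haveI : Mono j := Over.mono_of_mono_left j
  haveI : IsIntegral A.left := GeometricallyIntegral.isIntegral_of_subsingleton A.hom
  obtain ⟨B, gB, f, hq, hBt, hBc, hqf, hqs, hqp, hker⟩ :=
    H19Quot.exists_quotientGroup j (H19Quot.AbelianCat.normal_of_comm j)
  haveI := hq; haveI := hBt; haveI := hBc; haveI := hqf; haveI := hqs; haveI := hqp
  haveI : IsSeparated B.hom := H19Grp.AffineQuotient.isSeparated_of_grp B
  haveI : IsProper B.hom := by
    haveI : UniversallyClosed (f.left ≫ B.hom) := by rw [Over.w f]; infer_instance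
    haveI : UniversallyClosed B.hom := UniversallyClosed.of_comp_surjective f.left B.hom
    exact {}
  haveI : IsProper f.left := by
    haveI : IsProper (f.left ≫ B.hom) := by rw [Over.w f]; infer_instance
    exact IsProper.of_comp f.left B.hom
  haveI : IsReduced B.left := H13Desc.isReduced_of_flat_surjective f.left
  haveI : GeometricallyReduced (f.left ≫ B.hom) := by rw [Over.w f]; infer_instance
  haveI : GeometricallyReduced B.hom := H19Grp.geometricallyReduced_of_surjective f.left B.hom
  haveI : ConnectedSpace ↥B.left := f.left.surjective.connectedSpace f.left.continuous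
  haveI : GeometricallyIntegral B.hom := H25AbCube.geometricallyIntegral_of_connected B
  haveI : IsCommMonObj B := H25AbCube.isCommMonObj_of_av
  have hsq := H25Hat.isPullback_kernel f j (H19Grp.kernel_comp_eq_one hker)
    fun T x hx => H19Grp.kernel_lift hker x hx
  haveI : IsFinite (fst A C).left := MorphismProperty.pullback_fst (P := @IsFinite) A.hom C.hom inferInstance
  haveI : IsFinite f.left :=
    MorphismProperty.of_isPullback_of_descendsAlong (P := @IsFinite) (Q := H18Descent.fpqc.{u})
      (hsq.map (Over.forget _)) (⟨⟨hqs, hqf⟩, (inferInstance : QuasiCompact f.left)⟩) ‹IsFinite (fst A C).left›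
  haveI : IsIntegral B.left := GeometricallyIntegral.isIntegral_of_subsingleton B.hom
  let d := f.left.finrank ((η[B]).left (IsLocalRing.closedPoint k))
  have hd : ∀ y, f.left.finrank y = d := fun y =>
    (Scheme.Hom.isLocallyConstant_finrank f.left).apply_eq_of_preconnectedSpace _ _
  have hCd : ∀ s, C.hom.finrank s = d := fun s => by
    rw [← Over.w (toUnit C), show (toUnit C).left ≫ (𝟙_ (Over (Spec (CommRingCat.of k)))).hom = (toUnit C).left from
      Category.comp_id _, Scheme.Hom.finrank_of_isPullback j.left (toUnit C).left f.left η[B].left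
        (hker.map (Over.forget _)) s]
    exact hd _
  obtain ⟨β, hover, hmul, hbc⟩ := exists_family hL j ((hK.univ _ j).2 ⟨yC, hyC⟩) hiso
  obtain ⟨M, hM, ⟨e⟩⟩ := exists_descended_module hqs hker hL β hover hmul hbc
  have hfM : PicF.IsInvertible (pb f.left M) := H11Ample.isInvertible_pullback _ hM
  obtain ⟨KM, iM, hKM⟩ := exists_isKL M hM
  have hKf : ThetaGrp.IsKL A (pb f.left M) iK := isKL_iso e.symm hL hK
  have hiff : ∀ (T : Over (Spec (CommRingCat.of k))) (x : T ⟶ A),
      (∃ y : T ⟶ KM, y ≫ iM = x ≫ f) ↔ (∃ z : T ⟶ K, z ≫ iK = x) ∧ ThetaGrp.IsPerpPt L j x := fun T x => by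
    rw [S19949.result k A B f hqs C j hker M hM K iK hKf KM iM hKM T x]
    exact and_congr_right fun _ => ⟨isPerpPt_iso e, isPerpPt_iso e.symm⟩
  haveI := hKM.closed
  haveI : IsFinite KM.hom := by
    let P : Over (Spec (CommRingCat.of k)) := Over.mk (pullback.fst iM.left f.left ≫ KM.hom)
    let p₁ : P ⟶ KM := Over.homMk (pullback.fst iM.left f.left) rfl
    let p₂ : P ⟶ A := Over.homMk (pullback.snd iM.left f.left) (by
      show pullback.snd iM.left f.left ≫ A.hom = pullback.fst iM.left f.left ≫ KM.hom
      rw [← Over.w f, ← Over.w iM, pullback.condition_assoc])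
    obtain ⟨⟨z, hz⟩, -⟩ := (hiff P p₂).1 ⟨p₁, Over.OverMorphism.ext pullback.condition⟩
    haveI : IsClosedImmersion z.left := by
      haveI : IsClosedImmersion (z.left ≫ iK.left) := by
        rw [← Over.comp_left, hz]
        exact inferInstanceAs (IsClosedImmersion (pullback.snd iM.left f.left))
      exact IsClosedImmersion.of_comp z.left iK.left
    haveI : IsFinite P.hom := by rw [← Over.w z]; infer_instance
    haveI : Surjective p₁.left := inferInstanceAs (Surjective (pullback.fst iM.left f.left))
    haveI : IsProper KM.hom := by rw [← Over.w iM]; infer_instance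
    haveI : LocallyQuasiFinite KM.hom := by
      rw [locallyQuasiFinite_iff_finite_preimage_singleton]
      intro s
      refine ((P.hom.finite_preimage_singleton s).image p₁.left).subset fun y hy => ?_
      obtain ⟨x, rfl⟩ := p₁.left.surjective y
      refine ⟨x, ?_, rfl⟩
      rw [Set.mem_preimage, Set.mem_singleton_iff, ← Over.w p₁]
      exact hy
    exact (IsFinite.iff_isProper_and_locallyQuasiFinite _).2 ⟨inferInstance, inferInstance⟩
  refine ⟨B, gB, inferInstance, inferInstance, inferInstance, f, hq, inferInstance, hqf, M, hM, e, KM, iM,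
    inferInstance, d, hKM, hqs, hker, inferInstance, hd, hCd, hiff, fun s => ?_⟩
  refine (S19773.result k A B f hqs d hd M hM KM iM hKM _ (fun t => ?_) K iK hKf).2 s
  exact congrArg _ (Subsingleton.elim (α := PrimeSpectrum k) _ _)

end Groth.Agent.H26Theta
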