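import Groth.Agent.H26Theta.Cart
import Groth.Agent.H13Desc.EtAssocSheaf.Pull
import Groth.Agent.H11Tilde.StalkGen
import Groth.Agent.H11Ample.Ample
import Groth.Agent.H11Ample.Tensor

/-!
# Sections as morphisms of pairs
-/

set_option autoImplicit false
set_option linter.style.haveILetI false
set_option backward.isDefEq.respectTransparency false
set_option backward.isDefEq.respectTransparency.types false
universe u

open CategoryTheory CategoryTheory.Limits AlgebraicGeometry Opposite TopologicalSpace Groth.Agent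
open Pseudofunctor Bicategory
open Groth.Agent.H13Desc.EtSh (Inv rm σ_apply)
open Groth.Agent.H11Tilde (homOfGlobal IsGen)
open Groth.Agent.H11Ample (one)

noncomputable section

namespace Groth.Agent.H26Theta

variable {X Y Z : Scheme.{u}}

theorem hom_one_ext {M : X.Modules} {φ ψ : Coh.structureModule X ⟶ M}
    (h : φ.app ⊤ (one ⊤) = ψ.app ⊤ (one ⊤)) : φ = ψ := by
  refine (SheafOfModules.unitHomEquiv (M : SheafOfModules X.ringCatSheaf)).injective
    (Subtype.ext (funext fun V => ?_))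
  have h1 := ((SheafOfModules.unitHomEquiv (M : SheafOfModules X.ringCatSheaf)) φ).property
    (homOfLE (le_top : V.unop ≤ ⊤)).op
  have h2 := ((SheafOfModules.unitHomEquiv (M : SheafOfModules X.ringCatSheaf)) ψ).property
    (homOfLE (le_top : V.unop ≤ ⊤)).op
  exact h1.symm.trans ((congrArg (M.val.map _) h).trans h2)

theorem homOfGlobal_one (M : X.Modules) (g : Γ(M, ⊤)) : (homOfGlobal M g).app ⊤ (one ⊤) = g := by
  rw [H11Tilde.homOfGlobal_app, H10Coh.mres_self]
  exact one_smul Γ(X, ⊤) g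

theorem isIso_hom_of_gen {M : X.Modules} {g : Γ(M, ⊤)} (h : IsGen M g) : IsIso (homOfGlobal M g) :=
  H11Tilde.isIso_homOfGlobal M g fun W => h.bijective (le_top : W ≤ ⊤)

/-- The pair of a scheme with its structure sheaf. -/
abbrev unitPair (X : Scheme.{u}) : Pairs.{u} := ⟨X, Coh.structureModule X⟩

/-- The morphism of pairs of a point and a section over it. -/
def arr (x : X ⟶ Y) {M : Y.Modules} (s : Γ(Inv M x, ⊤)) : unitPair X ⟶ (⟨Y, M⟩ : Pairs.{u}) :=
  { base := x, fiber := homOfGlobal (Inv M x) s }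

/-- The section of a morphism of pairs out of a structure sheaf. -/
def sec {c : Pairs.{u}} (P : unitPair X ⟶ c) : Γ((Scheme.Modules.pullback P.base).obj c.fiber, ⊤) :=
  (fib P).app ⊤ (one ⊤)

theorem arr_base (x : X ⟶ Y) {M : Y.Modules} (s : Γ(Inv M x, ⊤)) : (arr x s).base = x := rfl

theorem sec_arr (x : X ⟶ Y) {M : Y.Modules} (s : Γ(Inv M x, ⊤)) : sec (arr x s) = s := homOfGlobal_one _ s

theorem eq_arr {M : Y.Modules} (P : unitPair X ⟶ (⟨Y, M⟩ : Pairs.{u})) : P = arr P.base (sec P) := by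
  refine CoGrothendieck.Hom.ext _ _ rfl ?_
  erw [eqToHom_refl, Category.comp_id]
  exact hom_one_ext (homOfGlobal_one _ _).symm

/-- Change of the base of a point. -/
theorem eq_arr' {M : Y.Modules} (P : unitPair X ⟶ (⟨Y, M⟩ : Pairs.{u})) {x : X ⟶ Y} (h : P.base = x) :
    ∃ s : Γ(Inv M x, ⊤), P = arr x s := by
  subst h
  exact ⟨_, eq_arr P⟩

theorem arr_injective (x : X ⟶ Y) {M : Y.Modules} {s t : Γ(Inv M x, ⊤)} (h : arr x s = arr x t) : s = t := by
  obtain ⟨h1, h2⟩ := (CoGrothendieck.Hom.ext_iff _ _).1 h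
  simp only [eqToHom_refl, Category.comp_id] at h2
  rw [← homOfGlobal_one (Inv M x) s, ← homOfGlobal_one (Inv M x) t]
  exact congr($(congrArg (fun φ : Coh.structureModule X ⟶ Inv M x => φ.app ⊤) h2) (one ⊤))

/-- The morphism of structure pairs over a morphism of schemes. -/
def unitMap (g : X ⟶ Y) : unitPair X ⟶ unitPair Y :=
  arr g (OmegaSh.pullSect g (Coh.structureModule Y) ⊤ (one ⊤))

instance isIso_fib_unitMap (g : X ⟶ Y) : IsIso (fib (unitMap g)) :=
  isIso_hom_of_gen (IsGen.pullSect g (H11Ample.isGen_one ⊤))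

theorem unitMap_arr (g : X ⟶ Y) (x : Y ⟶ Z) {M : Z.Modules} (s : Γ(Inv M x, ⊤)) (v : X ⟶ Z) (e : g ≫ x = v) :
    unitMap g ≫ arr x s = arr v (rm M g x v e s) := by
  subst e
  refine CoGrothendieck.Hom.ext _ _ rfl ?_
  erw [eqToHom_refl, Category.comp_id]
  refine hom_one_ext ?_
  refine Eq.trans ?_ (homOfGlobal_one _ _).symm
  show ((Scheme.Modules.pullbackComp g x).hom.app M).app ⊤
    (((Scheme.Modules.pullback g).map (homOfGlobal (Inv M x) s)).app ⊤
      ((homOfGlobal _ (OmegaSh.pullSect g (Coh.structureModule Y) ⊤ (one ⊤))).app ⊤ (one ⊤))) = _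
  rw [homOfGlobal_one, σ_apply]
  simp only [homOfLE_refl, op_id, H13Desc.EtSh.tr, eqToHom_refl]
  erw [Category.comp_id, CategoryTheory.Functor.map_id]
  refine congrArg (fun z => ((Scheme.Modules.pullbackComp g x).hom.app M).app ⊤ z) ?_
  refine (H17.PullSect.pullSect_natural g (homOfGlobal (Inv M x) s) ⊤ (one ⊤)).symm.trans ?_
  exact congrArg (fun z => OmegaSh.pullSect g (Inv M x) ⊤ z) (homOfGlobal_one _ _)

theorem unitMap_comp (g : X ⟶ Y) (h : Y ⟶ Z) : unitMap g ≫ unitMap h = unitMap (g ≫ h) := by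
  refine (unitMap_arr g h _ (g ≫ h) rfl).trans (congrArg (arr (g ≫ h)) ?_)
  rw [σ_apply]
  simp only [homOfLE_refl, op_id, H13Desc.EtSh.tr, eqToHom_refl]
  erw [Category.comp_id, CategoryTheory.Functor.map_id]
  refine (congrArg (fun z => ((Scheme.Modules.pullbackComp g h).hom.app (Coh.structureModule Z)).app ⊤ z)
    (H17.PullSect.pullSect_comp g h (Coh.structureModule Z) ⊤ (one ⊤)).symm).trans ?_
  show (((Scheme.Modules.pullbackComp g h).inv.app _ ≫ (Scheme.Modules.pullbackComp g h).hom.app _)).app ⊤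
    (OmegaSh.pullSect (g ≫ h) (Coh.structureModule Z) ⊤ (one ⊤)) = _
  rw [Iso.inv_hom_id_app]
  rfl

end Groth.Agent.H26Theta
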