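import Groth.Agent.H26Theta.Charts

/-!
# The projection of a group representing the theta group
-/

set_option autoImplicit false
set_option linter.style.haveILetI false
set_option linter.unusedSectionVars false
set_option backward.isDefEq.respectTransparency false
set_option backward.isDefEq.respectTransparency.types false
universe u

open CategoryTheory CategoryTheory.Limits MonoidalCategory CartesianMonoidalCategory MonObj AlgebraicGeometry
open Opposite TopologicalSpace Pseudofunctor Bicategory Groth.Agent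
open Groth.Agent.H11Tilde (IsGen)
open Groth.Agent.H8Props.WeilRes (openPart partIncl)

noncomputable section

namespace Groth.Agent.H26Theta

variable {k : Type u} [Field k] {A : Over (Spec (CommRingCat.of k))} [GrpObj A] [IsProper A.hom]
  [GeometricallyIntegral A.hom] {L : A.left.Modules}

set_option maxHeartbeats 1600000 in
/-- Over a neighbourhood of a point of `A`, the points of the theta group are represented by an affine scheme of
finite type over the neighbourhood. -/
theorem exists_chart (hL : PicF.IsInvertible L) {K : Over (Spec (CommRingCat.of k))} {iK : K ⟶ A}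
    (hK : ThetaGrp.IsKL A L iK) (a : A.left) :
    ∃ (V : A.left.Opens) (W : Over (Spec (CommRingCat.of k))) (u : ThetaGrp.thetaPts A L W) (q : W ⟶ A)
      (q' : W.left ⟶ V.toScheme), a ∈ V ∧ ThetaGrp.IsOverPt u q ∧ q' ≫ V.ι = q.left ∧ IsAffineHom q' ∧
      LocallyOfFiniteType q' ∧ ∀ (T : Over (Spec (CommRingCat.of k))) (s : ThetaGrp.thetaPts A L T) (x : T ⟶ A),
        ThetaGrp.IsOverPt s x → Set.range x.left ⊆ (V : Set A.left) → ∃! h : T ⟶ W, bcPt h u = s := by
  haveI := hK.closed
  haveI : Mono iK := Over.mono_of_mono_left iK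
  obtain ⟨V, e, hV, he⟩ := H11Ample.exists_gen hL a
  let B : Over (Spec (CommRingCat.of k)) := openPart K (iK.left ⁻¹ᵁ V)
  let w : B ⟶ K := partIncl K _
  haveI : Mono w := by
    haveI : IsOpenImmersion w.left := inferInstanceAs (IsOpenImmersion (iK.left ⁻¹ᵁ V).ι)
    exact Over.mono_of_mono_left w
  have hle : (⊤ : B.left.Opens) ≤ (w ≫ iK).left ⁻¹ᵁ V := fun z _ => z.2
  obtain ⟨P, hPb, hPc⟩ := exists_arr_of_gen (w ≫ iK).left he hle
  haveI := hPc
  obtain ⟨β, hβ, hβP⟩ := exists_phi_of_mumford hL (w ≫ iK) ((hK.univ _ _).2 ⟨w, rfl⟩) P hPb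
  let W : Over (Spec (CommRingCat.of k)) := B ⊗ Red.Gm _
  let t : (Γ(W.left, ⊤))ˣ := GmPts.unitOfPt (snd B (Red.Gm _))
  obtain ⟨u, hu⟩ := exists_scale hL (bcPt (fst B (Red.Gm _)) β) (t := ↑t) (s := ↑t⁻¹) (Units.mul_inv _)
  have key : ∀ (T : Over (Spec (CommRingCat.of k))) (h : T ⟶ W), phi hL (bcPt h u) =
      premul (unitMap (h ≫ fst B (Red.Gm _)).left ≫ P) (GmPts.unitOfPt (h ≫ snd B (Red.Gm _))).val := by
    intro T h
    rw [phi_bcPt, hu, phi_bcPt, hβP, comp_premul, ← Category.assoc, unitMap_comp, ← Over.comp_left,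
      GmPts.unitOfPt_comp]
    rfl
  have hcart : ∀ (T : Over (Spec (CommRingCat.of k))) (g : T ⟶ B), IsIso (fib (unitMap g.left ≫ P)) :=
    fun T g => cart_comp _ _ inferInstance hPc
  obtain ⟨x₀, hx₀⟩ := u.2
  have hq : x₀ = fst B (Red.Gm _) ≫ w ≫ iK := by
    refine Over.OverMorphism.ext ?_
    rw [← phi_base hL hx₀, hu]
    exact phi_base hL (isOverPt_baseChange (isBaseChange_bcPt (fst B (Red.Gm _)) β) hβ)
  subst hq
  let q' : W.left ⟶ V.toScheme := (fst B (Red.Gm (Spec (CommRingCat.of k)))).left ≫ (iK.left ∣_ V)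
  have hGm : IsAffineHom (Red.Gm (Spec (CommRingCat.of k))).hom ∧
      LocallyOfFiniteType (Red.Gm (Spec (CommRingCat.of k))).hom := by
    refine ⟨MorphismProperty.pullback_snd (P := @IsAffineHom) _ _ ?_,
      MorphismProperty.pullback_snd (P := @LocallyOfFiniteType) _ _ ?_⟩
    · show IsAffineHom (Spec.map _)
      infer_instance
    · show LocallyOfFiniteType (Spec.map _)
      rw [HasRingHomProperty.Spec_iff (P := @LocallyOfFiniteType)]
      exact RingHom.finiteType_algebraMap.2 inferInstance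
  haveI : IsAffineHom (fst B (Red.Gm (Spec (CommRingCat.of k)))).left :=
    MorphismProperty.pullback_fst (P := @IsAffineHom) _ _ hGm.1
  haveI : LocallyOfFiniteType (fst B (Red.Gm (Spec (CommRingCat.of k)))).left :=
    MorphismProperty.pullback_fst (P := @LocallyOfFiniteType) _ _ hGm.2
  haveI : IsClosedImmersion (iK.left ∣_ V) := IsZariskiLocalAtTarget.restrict hK.closed V
  refine ⟨V, W, u, fst B (Red.Gm _) ≫ w ≫ iK, q', hV, hx₀, ?_, inferInstanceAs (IsAffineHom (_ ≫ _)),
    inferInstanceAs (LocallyOfFiniteType (_ ≫ _)), fun T s x hx hr => ?_⟩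
  · show ((fst B _).left ≫ (iK.left ∣_ V)) ≫ V.ι = _
    rw [Category.assoc, morphismRestrict_ι]
    rfl
  · obtain ⟨y, hy⟩ := (hK.univ _ x).1 (mumford_of_isOverPt hL hx)
    have hyV : Set.range y.left ⊆ Set.range (iK.left ⁻¹ᵁ V).ι := by
      rw [Scheme.Opens.range_ι]
      rintro _ ⟨z', rfl⟩
      show (y.left ≫ iK.left) z' ∈ V
      rw [← Over.comp_left, hy]
      exact hr ⟨z', rfl⟩
    let g : T ⟶ B := Over.homMk (IsOpenImmersion.lift (iK.left ⁻¹ᵁ V).ι y.left hyV) (by
      show IsOpenImmersion.lift (iK.left ⁻¹ᵁ V).ι y.left hyV ≫ (iK.left ⁻¹ᵁ V).ι ≫ K.hom = T.hom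
      rw [IsOpenImmersion.lift_fac_assoc]
      exact Over.w y)
    have hg : g ≫ w = y := Over.OverMorphism.ext (IsOpenImmersion.lift_fac _ _ _)
    haveI := hcart T g
    haveI := isIso_fib_phi hL s
    have hb : (phi hL s).base = (unitMap g.left ≫ P).base := by
      show _ = g.left ≫ P.base
      rw [phi_base hL hx, hPb, ← hy, ← hg, ← Over.comp_left, Category.assoc]
    obtain ⟨r, hr'⟩ := exists_premul_eq H11Ample.isInvertible_structureModule _ _ hb
    obtain ⟨r', hr''⟩ := exists_premul_eq H11Ample.isInvertible_structureModule _ _ hb.symm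
    have hrr : r * r' = 1 := by
      refine premul_injective (H11Ample.isInvertible_structureModule (X := T.left)) (unitMap g.left ≫ P) ?_
      rw [← premul_premul, ← hr', ← hr'', premul_one]
    have hex : bcPt (lift g (GmPts.ptOfUnit ⟨r, r', hrr, by rw [mul_comm, hrr]⟩)) u = s := by
      refine phi_injective hL ?_
      rw [key, lift_fst, lift_snd, GmPts.unitOfPt_ptOfUnit, hr']
    refine ⟨_, hex, fun h hh => ?_⟩
    have e1 := congrArg (phi hL) (hh.trans hex.symm)
    rw [key, key] at e1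
    simp only [lift_fst, lift_snd] at e1
    have e2 : (h ≫ fst B (Red.Gm _)).left ≫ (w ≫ iK).left = g.left ≫ (w ≫ iK).left := by
      rw [← hPb]
      exact congrArg (fun Q => Q.base) e1
    have e3 : h ≫ fst B (Red.Gm _) = g := by
      rw [← cancel_mono (w ≫ iK)]
      exact Over.OverMorphism.ext e2
    apply CartesianMonoidalCategory.hom_ext _ _ (by rw [lift_fst]; exact e3)
    rw [e3] at e1
    rw [lift_snd]
    exact (GmPts.equiv T).injective (Units.ext (premul_injective H11Ample.isInvertible_structureModule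
      (unitMap g.left ≫ P) e1))

set_option maxHeartbeats 1600000 in
/-- The projection of a representing group to `A` is affine and of finite type. -/
theorem isAffineHom_pointMap (hL : PicF.IsInvertible L) {K : Over (Spec (CommRingCat.of k))} {iK : K ⟶ A}
    (hK : ThetaGrp.IsKL A L iK) {G : Over (Spec (CommRingCat.of k))} [GrpObj G] {uG : ThetaGrp.thetaPts A L G}
    (hG : ThetaGrp.IsThetaGrpSch A L G uG) {x : G ⟶ A} (hx : ThetaGrp.IsOverPt uG x) :
    IsAffineHom x.left ∧ LocallyOfFiniteType x.left := by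
  choose V W u q q' hV hu hq haff hlft huniv using exists_chart hL hK
  have hiso : ∀ a, ∃ ψ : openPart G (x.left ⁻¹ᵁ V a) ⟶ W a,
      IsIso ψ.left ∧ ψ ≫ q a = partIncl G _ ≫ x := by
    intro a
    let O := openPart G (x.left ⁻¹ᵁ V a)
    let incl : O ⟶ G := partIncl G _
    haveI : IsOpenImmersion incl.left := inferInstanceAs (IsOpenImmersion (x.left ⁻¹ᵁ V a).ι)
    haveI : Mono incl := Over.mono_of_mono_left _
    have hs := isOverPt_baseChange (isBaseChange_bcPt incl uG) hx
    obtain ⟨ψ, hψ, -⟩ := huniv a O (bcPt incl uG) (incl ≫ x) hs (by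
      rintro _ ⟨z, rfl⟩
      exact z.2)
    obtain ⟨φ, hφ, -⟩ := hG.univ (W a) (u a)
    have hφx : φ ≫ x = q a := isOverPt_unique (isOverPt_baseChange hφ hx) (hu a)
    have hrange : Set.range φ.left ⊆ Set.range (x.left ⁻¹ᵁ V a).ι := by
      rw [Scheme.Opens.range_ι]
      rintro _ ⟨z, rfl⟩
      show (φ.left ≫ x.left) z ∈ V a
      rw [← Over.comp_left, hφx, ← hq a]
      exact (q' a z).2
    let φ' : W a ⟶ O := Over.homMk (IsOpenImmersion.lift (x.left ⁻¹ᵁ V a).ι φ.left hrange) (by
      show IsOpenImmersion.lift (x.left ⁻¹ᵁ V a).ι φ.left hrange ≫ (x.left ⁻¹ᵁ V a).ι ≫ G.hom = _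
      rw [IsOpenImmersion.lift_fac_assoc]
      exact Over.w φ)
    have hφ' : φ' ≫ incl = φ := Over.OverMorphism.ext (IsOpenImmersion.lift_fac _ _ _)
    have hψ' : ψ ≫ φ = incl := by
      refine (hG.univ O (bcPt incl uG)).unique ?_ (isBaseChange_bcPt incl uG)
      rw [← hψ]
      exact isBaseChange_comp (isBaseChange_bcPt ψ (u a)) hφ
    have h1 : ψ ≫ φ' = 𝟙 O := by
      rw [← cancel_mono incl, Category.assoc, hφ', hψ', Category.id_comp]
    have h2 : φ' ≫ ψ = 𝟙 (W a) := by
      refine (huniv a (W a) (u a) (q a) (hu a) ?_).unique ?_ (bcPt_id (u a))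
      · rw [← hq a]
        rintro _ ⟨z, rfl⟩
        exact (q' a z).2
      · rw [bcPt_comp, hψ, ← bcPt_comp, hφ', eq_bcPt hφ]
    haveI : IsIso ψ := ⟨φ', h1, h2⟩
    refine ⟨ψ, inferInstanceAs (IsIso ((Over.forget _).map ψ)), ?_⟩
    exact (isOverPt_unique (hψ ▸ isOverPt_baseChange (isBaseChange_bcPt ψ (u a)) (hu a)) hs)
  choose ψ hψ hψq using hiso
  have hres : ∀ a, x.left ∣_ V a = (ψ a).left ≫ q' a := fun a => by
    rw [← cancel_mono (V a).ι, morphismRestrict_ι, Category.assoc, hq a, ← Over.comp_left, hψq a]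
    rfl
  have hcov : ⨆ a, V a = ⊤ := top_le_iff.1 fun z _ => Opens.mem_iSup.2 ⟨z, hV z⟩
  constructor
  · refine IsZariskiLocalAtTarget.of_iSup_eq_top (P := @IsAffineHom) V hcov fun a => ?_
    rw [hres a]
    haveI := hψ a; haveI := haff a
    exact inferInstance
  · refine IsZariskiLocalAtTarget.of_iSup_eq_top (P := @LocallyOfFiniteType) V hcov fun a => ?_
    rw [hres a]
    haveI := hψ a; haveI := hlft a
    exact inferInstance

end Groth.Agent.H26Theta
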